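import Mathlib
import Cfsg.Agent.Lib.Transfer.PGroupNormal
import Cfsg.Agent.Lib.Transfer.SmallClass
import Cfsg.Agent.Lib.Transfer.OmegaCentralizer

/-!
The relative form of the maximal normal abelian subgroup lemma, inside a normal subgroup.
-/

set_option autoImplicit false

open scoped commutatorElement

namespace Cfsg.Lib.Transfer

variable {G : Type*} [Group G] {p : ℕ}

theorem mem_of_maximal_normal_abelian_exponent_within [Finite G] [hp : Fact p.Prime] (hG : IsPGroup p G)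
    (n : ℕ) (hn : p ^ n ≠ 2) (A : Subgroup G) [A.Normal] (hA : IsMulCommutative A)
    (hAe : ∀ a ∈ A, a ^ p ^ n = 1) (X : Subgroup G) [X.Normal] (hAX : A ≤ X)
    (hmax : ∀ B : Subgroup G, B.Normal → IsMulCommutative B → (∀ b ∈ B, b ^ p ^ n = 1) → B ≤ X → A ≤ B → B = A)
    (x : G) (hx : x ∈ Subgroup.centralizer (A : Set G)) (hxn : x ^ p ^ n = 1) (hxX : x ∈ X) : x ∈ A := by
  classical
  by_contra hxA
  have h0 : n ≠ 0 := fun h => hxA (by subst h; rw [pow_zero, pow_one] at hxn; rw [hxn]; exact one_mem A)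
  let S : Set G := {y | y ∈ X ∧ y ∈ Subgroup.centralizer (A : Set G) ∧ y ^ p ^ n = 1 ∧ y ∉ A ∧ y ^ p ∈ A}
  have hS : S.Nonempty := by
    have hex : ∃ k : ℕ, x ^ p ^ k ∈ A := ⟨n, by rw [hxn]; exact one_mem A⟩
    obtain ⟨k, hk⟩ : ∃ k, Nat.find hex = k + 1 := by
      refine ⟨Nat.find hex - 1, (Nat.sub_add_cancel (Nat.one_le_iff_ne_zero.2 fun h => hxA ?_)).symm⟩
      have := Nat.find_spec hex; rw [h] at this; simpa using this
    refine ⟨x ^ p ^ k, pow_mem hxX _, pow_mem hx _, by rw [← pow_mul, mul_comm, pow_mul, hxn, one_pow],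
      Nat.find_min hex (by omega), ?_⟩
    rw [← pow_mul, ← pow_succ, ← hk]; exact Nat.find_spec hex
  let D : G → Subgroup G := fun y => A ⊔ Subgroup.zpowers y
  let Nz : G → Subgroup G := fun y => Subgroup.normalizer (D y : Set G)
  obtain ⟨y, hyS, hymax⟩ := (Set.toFinite S).exists_maximalFor Nz S hS
  obtain ⟨hyX, hyC, hyn, hyA, hyp⟩ := hyS
  haveI := hA
  have hAcen : ∀ a ∈ A, ∀ z ∈ Subgroup.centralizer (A : Set G), Commute a z := fun a ha z hz =>
    Subgroup.mem_centralizer_iff.1 hz a ha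
  have hDC : ∀ z ∈ S, D z ≤ Subgroup.centralizer (A : Set G) := fun z hz =>
    sup_le (Subgroup.le_centralizer A) (Subgroup.zpowers_le.2 hz.2.1)
  have hDfac : ∀ z ∈ S, ∀ w ∈ D z, ∃ a ∈ A, ∃ i : ℤ, w = a * z ^ i := by
    intro z _ w hw
    obtain ⟨a, ha, b, hb, rfl⟩ := Subgroup.mem_sup_of_normal_left.1 hw
    obtain ⟨i, rfl⟩ := Subgroup.mem_zpowers_iff.1 hb
    exact ⟨a, ha, i, rfl⟩
  have hDab : ∀ z ∈ S, IsMulCommutative (D z) ∧ ∀ w ∈ D z, w ^ p ^ n = 1 := by
    intro z hz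
    refine ⟨⟨⟨?_⟩⟩, ?_⟩
    · rintro ⟨u, hu⟩ ⟨v, hv⟩
      obtain ⟨a, ha, i, rfl⟩ := hDfac z hz u hu
      obtain ⟨b, hb, j, rfl⟩ := hDfac z hz v hv
      have h1 : Commute a b := hAcen a ha b (Subgroup.le_centralizer A hb)
      have h2 : Commute a (z ^ j) := hAcen a ha _ (zpow_mem hz.2.1 j)
      have h3 : Commute (z ^ i) b := (hAcen b hb _ (zpow_mem hz.2.1 i)).symm
      exact Subtype.ext (((h1.mul_right h2).mul_left (h3.mul_right (Commute.zpow_zpow_self z i j))).eq)
    · intro w hw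
      obtain ⟨a, ha, i, rfl⟩ := hDfac z hz w hw
      rw [(hAcen a ha _ (zpow_mem hz.2.1 i)).mul_pow, hAe a ha, one_mul, ← zpow_natCast, ← zpow_mul,
        mul_comm, zpow_mul, zpow_natCast, hz.2.2.1, one_zpow]
  have hne : Nz y ≠ ⊤ := by
    intro htop
    haveI : (D y).Normal := Subgroup.normalizer_eq_top_iff.1 htop
    exact hyA ((hmax _ inferInstance (hDab y ⟨hyX, hyC, hyn, hyA, hyp⟩).1 (hDab y ⟨hyX, hyC, hyn, hyA, hyp⟩).2
      (sup_le hAX (Subgroup.zpowers_le.2 hyX)) le_sup_left).le (Subgroup.mem_sup_right (Subgroup.mem_zpowers y)))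
  haveI : Group.IsNilpotent G := hG.isNilpotent
  set M := Subgroup.normalizer (Nz y : Set G) with hM
  have hlt : Nz y < M := Group.normalizerCondition_of_isNilpotent (Nz y) (lt_top_iff_ne_top.2 hne)
  -- the `M`-conjugates of `D y`
  let T : Set G := (A : Set G) ∪ {w | ∃ m ∈ M, w = m * y * m⁻¹}
  let K : Subgroup G := Subgroup.closure T
  have hconjS : ∀ m : G, m * y * m⁻¹ ∈ S := by
    intro m
    have hn' : A.Normal := inferInstance
    refine ⟨(inferInstance : X.Normal).conj_mem y hyX m, Subgroup.mem_centralizer_iff.2 fun a ha => ?_, by rw [conj_pow, hyn, mul_one, mul_inv_cancel],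
      fun h => hyA ?_, by rw [conj_pow]; exact hn'.conj_mem _ hyp m⟩
    · have := hAcen _ (hn'.conj_mem' a ha m) y hyC
      calc a * (m * y * m⁻¹) = m * ((m⁻¹ * a * m) * y) * m⁻¹ := by group
        _ = _ := by rw [this.eq]; group
    · have := hn'.conj_mem' _ h m
      convert this using 1; group
  have hnorm : ∀ m ∈ M, ∀ w ∈ Nz y, m⁻¹ * w * m ∈ Nz y := fun m hm w hw =>
    (Subgroup.mem_normalizer_iff''.1 hm w).1 hw
  have hDN : D y ≤ Nz y := Subgroup.le_normalizer
  have hcd : ∀ m ∈ M, ∀ m' ∈ M, ⁅m * y * m⁻¹, m' * y * m'⁻¹⁆ ∈ A := by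
    intro m hm m' hm'
    set z := m⁻¹ * m' * y * (m⁻¹ * m')⁻¹ with hz
    have hzN : z ∈ Nz y := by
      have := hnorm _ (inv_mem (mul_mem (inv_mem hm) hm')) y (hDN (Subgroup.mem_sup_right (Subgroup.mem_zpowers y)))
      rwa [inv_inv] at this
    have hyN : (m⁻¹ * m')⁻¹ * y * (m⁻¹ * m') ∈ Nz y :=
      hnorm _ (mul_mem (inv_mem hm) hm') y (hDN (Subgroup.mem_sup_right (Subgroup.mem_zpowers y)))
    have h1 : ⁅y, z⁆ ∈ D y := by
      rw [commutatorElement_def, mul_assoc y z, mul_assoc y]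
      refine mul_mem (Subgroup.mem_sup_right (Subgroup.mem_zpowers y)) ?_
      exact (Subgroup.mem_normalizer_iff.1 hzN y⁻¹).1 (inv_mem (Subgroup.mem_sup_right (Subgroup.mem_zpowers y)))
    have h2 : ⁅(m⁻¹ * m')⁻¹ * y * (m⁻¹ * m'), y⁆ ∈ D y :=
      mul_mem ((Subgroup.mem_normalizer_iff.1 hyN y).1 (Subgroup.mem_sup_right (Subgroup.mem_zpowers y)))
        (inv_mem (Subgroup.mem_sup_right (Subgroup.mem_zpowers y)))
    obtain ⟨a, ha, i, e1⟩ := hDfac y ⟨hyX, hyC, hyn, hyA, hyp⟩ _ h1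
    obtain ⟨b, hb, j, e2⟩ := hDfac y ⟨hyX, hyC, hyn, hyA, hyp⟩ _ h2
    have e3 : ⁅y, z⁆ = (m⁻¹ * m') * (b * y ^ j) * (m⁻¹ * m')⁻¹ := by
      rw [← e2, hz]; simp only [commutatorElement_def]; group
    -- `D y` and its conjugate meet in `A` unless equal
    have key : ⁅y, z⁆ ∈ A := by
      by_contra hcA
      have hi : ¬ (p : ℤ) ∣ i := by
        rintro ⟨t, rfl⟩
        refine hcA ?_
        rw [e1, zpow_mul, zpow_natCast]
        exact mul_mem ha (zpow_mem hyp t)
      obtain ⟨u, v, huv⟩ := ((Nat.prime_iff_prime_int.1 hp.out).coprime_iff_not_dvd).2 hi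
      -- `y` lies in the conjugate of `D y`
      let Dc : Subgroup G := (D y).map (MulAut.conj (m⁻¹ * m')).toMonoidHom
      have hAc : A ≤ Dc := by
        intro c hc
        exact ⟨(m⁻¹ * m')⁻¹ * c * (m⁻¹ * m'), Subgroup.mem_sup_left ((inferInstance : A.Normal).conj_mem' c hc _),
          by simp only [MulEquiv.coe_toMonoidHom, MulAut.conj_apply]; group⟩
      have hc1 : ⁅y, z⁆ ∈ Dc := ⟨b * y ^ j, e2 ▸ h2, by rw [e3]; rfl⟩
      have hyi : y ^ i ∈ Dc := by
        have := mul_mem (inv_mem (hAc ha)) hc1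
        rwa [e1, inv_mul_cancel_left] at this
      have hyD : y ∈ Dc := by
        rw [← zpow_one y, ← huv, zpow_add, mul_comm u, zpow_mul, zpow_natCast, mul_comm v, zpow_mul]
        exact mul_mem (zpow_mem (hAc hyp) u) (zpow_mem hyi v)
      obtain ⟨d, hd, hd'⟩ := hyD
      obtain ⟨c, hc, k, rfl⟩ := hDfac y ⟨hyX, hyC, hyn, hyA, hyp⟩ d hd
      -- `y = c' z ^ k` commutes with `z`
      refine hcA ?_
      have hyz : y = (m⁻¹ * m') * c * (m⁻¹ * m')⁻¹ * z ^ k := by
        conv_lhs => rw [← hd']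
        rw [hz, conj_zpow]
        simp only [MulEquiv.coe_toMonoidHom, MulAut.conj_apply]; group
      have hzC : z ∈ Subgroup.centralizer (A : Set G) := (hconjS (m⁻¹ * m')).2.1
      have hcm : Commute y z := by
        rw [hyz]
        exact (hAcen _ ((inferInstance : A.Normal).conj_mem c hc _) z hzC).mul_left (Commute.zpow_self z k)
      rw [commutatorElement_eq_one_iff_mul_comm.2 hcm.eq]
      exact one_mem A
    have : ⁅m * y * m⁻¹, m' * y * m'⁻¹⁆ = m * ⁅y, z⁆ * m⁻¹ := by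
      rw [hz]; simp only [commutatorElement_def]; group
    rw [this]
    exact (inferInstance : A.Normal).conj_mem _ key m
  have hKC : K ≤ Subgroup.centralizer (A : Set G) := by
    rw [Subgroup.closure_le]
    rintro w (hw | ⟨m, -, rfl⟩)
    · exact Subgroup.le_centralizer A hw
    · exact (hconjS m).2.1
  have hAK : A ≤ K := fun a ha => Subgroup.subset_closure (Or.inl ha)
  have hyK : y ∈ K := Subgroup.subset_closure (Or.inr ⟨1, one_mem M, by group⟩)
  let q := QuotientGroup.mk' A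
  have hKcomm : ∀ u ∈ K, ∀ v ∈ K, ⁅u, v⁆ ∈ A := by
    have hgen : ∀ u ∈ T, ∀ v ∈ T, q u * q v = q v * q u := by
      intro u hu v hv
      have : ⁅u, v⁆ ∈ A := by
        rcases hu with hu | ⟨m, hm, rfl⟩
        · rw [commutatorElement_eq_one_iff_mul_comm.2 (Subgroup.mem_centralizer_iff.1 (hKC (Subgroup.subset_closure hv)) u hu)]
          exact one_mem A
        · rcases hv with hv | ⟨m', hm', rfl⟩
          · rw [commutatorElement_eq_one_iff_mul_comm.2 (Subgroup.mem_centralizer_iff.1 (hconjS m).2.1 v hv).symm]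
            exact one_mem A
          · exact hcd m hm m' hm'
      rw [← commutatorElement_eq_one_iff_mul_comm, ← map_commutatorElement]
      exact (QuotientGroup.eq_one_iff _).2 this
    intro u hu v hv
    rw [← QuotientGroup.eq_one_iff]
    show q ⁅u, v⁆ = 1
    rw [map_commutatorElement, commutatorElement_eq_one_iff_mul_comm]
    have hle : K ≤ (Subgroup.centralizer (q '' T)).comap q := by
      rw [Subgroup.closure_le]
      intro u hu
      rw [SetLike.mem_coe, Subgroup.mem_comap, Subgroup.mem_centralizer_iff]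
      rintro _ ⟨v, hv, rfl⟩
      exact hgen v hv u hu
    have hle2 : K ≤ (Subgroup.centralizer (q '' (K : Set G))).comap q := by
      rw [Subgroup.closure_le]
      intro w hw
      rw [SetLike.mem_coe, Subgroup.mem_comap, Subgroup.mem_centralizer_iff]
      rintro _ ⟨v, hv, rfl⟩
      exact (Subgroup.mem_centralizer_iff.1 (hle hv) _ ⟨w, hw, rfl⟩).symm
    exact (Subgroup.mem_centralizer_iff.1 (hle2 hu) _ ⟨v, hv, rfl⟩).symm
  have hKpow : ∀ u ∈ K, u ^ p ^ n = 1 ∧ u ^ p ∈ A := by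
    intro u hu
    induction hu using Subgroup.closure_induction with
    | one => simp
    | mem w hw =>
      rcases hw with hw | ⟨m, -, rfl⟩
      · exact ⟨hAe w hw, pow_mem hw p⟩
      · exact ⟨(hconjS m).2.2.1, (hconjS m).2.2.2.2⟩
    | mul u v hu hv ihu ihv =>
      have hcA : v⁻¹ * u⁻¹ * v * u ∈ A := by
        have := hKcomm _ (inv_mem hv) _ (inv_mem hu)
        simpa [commutatorElement_def] using this
      set c := v⁻¹ * u⁻¹ * v * u with hc
      have hcu : Commute c u := hAcen c hcA u (hKC hu)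
      have hcv : Commute c v := hAcen c hcA v (hKC hv)
      have hcp : c ^ p = 1 := by
        have e : (u⁻¹ * v * u⁻¹⁻¹) ^ p = u⁻¹ * v ^ p * u⁻¹⁻¹ := conj_pow
        rw [inv_inv, show u⁻¹ * v * u = v * c from by rw [hc]; group, hcv.symm.mul_pow,
          show u⁻¹ * v ^ p * u = v ^ p from by rw [mul_assoc, (hAcen _ ihv.2 u (hKC hu)).eq, inv_mul_cancel_left]] at e
        simpa using e
      refine ⟨?_, ?_⟩
      · rw [mul_pow_class_two (c := c) (by rw [hc]; group) hcu hcv, ihu.1, ihv.1,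
          pow_eq_one_of_dvd hcp (dvd_choose_two_pow hn h0)]
        simp
      · rw [mul_pow_class_two (c := c) (by rw [hc]; group) hcu hcv]
        exact mul_mem (mul_mem ihu.2 ihv.2) (pow_mem hcA _)
    | inv u _ ihu => exact ⟨by rw [inv_pow, ihu.1, inv_one], by rw [inv_pow]; exact inv_mem ihu.2⟩
  -- a fixed line modulo `A`
  have hKM : K ≤ M := by
    rw [Subgroup.closure_le]
    rintro w (hw | ⟨m, hm, rfl⟩)
    · exact hlt.le (hDN (Subgroup.mem_sup_left hw))
    · exact mul_mem (mul_mem hm (hlt.le (hDN (Subgroup.mem_sup_right (Subgroup.mem_zpowers y))))) (inv_mem hm)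
  haveI : (K.subgroupOf M).Normal := by
    refine ⟨fun k hk m => ?_⟩
    rw [Subgroup.mem_subgroupOf] at hk ⊢
    have hle : K ≤ K.comap (MulAut.conj (m : G)).toMonoidHom := by
      rw [Subgroup.closure_le]
      rintro w (hw | ⟨m', hm', rfl⟩)
      · exact hAK ((inferInstance : A.Normal).conj_mem w hw m)
      · refine Subgroup.subset_closure (Or.inr ⟨m * m', mul_mem m.2 hm', ?_⟩)
        simp only [MulEquiv.coe_toMonoidHom, MulAut.conj_apply]; group
    exact hle hk
  have hlt' : A.subgroupOf M < K.subgroupOf M := by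
    refine lt_of_le_not_ge (fun w hw => hAK hw) fun h => hyA ?_
    exact h (x := ⟨y, hKM hyK⟩) hyK
  obtain ⟨B, b, hBn, hAB, hBK, -, hb, hbA, hBeq, -⟩ :=
    exists_normal_step (hG.to_subgroup M) (A.subgroupOf M) (K.subgroupOf M) hlt'
  have hbK : (b : G) ∈ K := hBK hb
  have hKX : K ≤ X := by
    rw [Subgroup.closure_le]
    rintro w (hw | ⟨m, -, rfl⟩)
    · exact hAX hw
    · exact (hconjS m).1
  have hbS : (b : G) ∈ S := ⟨hKX hbK, hKC hbK, (hKpow _ hbK).1, hbA, (hKpow _ hbK).2⟩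
  have hDb : B.map M.subtype = D b := by
    rw [hBeq, Subgroup.map_sup, MonoidHom.map_zpowers,
      Subgroup.map_subgroupOf_eq_of_le ((hDN.trans' le_sup_left).trans hlt.le)]
    rfl
  have hMN : M ≤ Nz b := by
    intro m hm
    rw [Subgroup.mem_normalizer_iff, ← hDb]
    intro w
    constructor
    · rintro ⟨v, hv, rfl⟩
      exact ⟨⟨m, hm⟩ * v * ⟨m, hm⟩⁻¹, hBn.conj_mem v hv _, rfl⟩
    · rintro ⟨v, hv, e⟩
      refine ⟨⟨m, hm⟩⁻¹ * v * ⟨m, hm⟩⁻¹⁻¹, hBn.conj_mem v hv _, ?_⟩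
      show m⁻¹ * (M.subtype v) * m⁻¹⁻¹ = w
      rw [e]; group
  exact hlt.not_ge (hMN.trans (hymax hbS (hlt.le.trans hMN)))

end Cfsg.Lib.Transfer
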