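import Mathlib
import Cfsg.Prelude.Def_Transfer
import Cfsg.Agent.Lib.Transfer.Critical
import Cfsg.Agent.Lib.Transfer.PGroupFrattini

/-!
Elements of order dividing `p`, or `4` when `p = 2`, detect automorphisms of order prime to `p`.
-/

set_option autoImplicit false

open scoped commutatorElement

namespace Cfsg.Lib.Transfer

universe u

/-- `x` has order dividing `p`, or `4` when `p = 2`. -/
def Small {P : Type*} [Group P] (p : ℕ) (x : P) : Prop := x ^ p = 1 ∨ (p = 2 ∧ x ^ 4 = 1)

theorem small_map {P Q : Type*} [Group P] [Group Q] {p : ℕ} (f : P →* Q) {x : P} (h : Small p x) :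
    Small p (f x) := by
  rcases h with h | ⟨h2, h⟩
  · exact Or.inl (by rw [← map_pow, h, map_one])
  · exact Or.inr ⟨h2, by rw [← map_pow, h, map_one]⟩

theorem small_of_injective {P Q : Type*} [Group P] [Group Q] {p : ℕ} (f : P →* Q)
    (hf : Function.Injective f) {x : P} (h : Small p (f x)) : Small p x := by
  rcases h with h | ⟨h2, h⟩
  · exact Or.inl (hf (by rw [map_pow, h, map_one]))
  · exact Or.inr ⟨h2, hf (by rw [map_pow, h, map_one])⟩

variable {P : Type u} [Group P] {p : ℕ}

theorem pow_four_mul (hc : ∀ x y : P, ⁅x, y⁆ ∈ Subgroup.center P)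
    (hs : ∀ x : P, x ^ 2 ∈ Subgroup.center P) (x y : P) : (x * y) ^ 4 = x ^ 4 * y ^ 4 := by
  set d := ⁅x⁻¹, y⁆ with hd
  have hdc : ∀ z, z * d = d * z := Subgroup.mem_center_iff.1 (hc x⁻¹ y)
  have hy2 : ∀ z, z * y ^ 2 = y ^ 2 * z := Subgroup.mem_center_iff.1 (hs y)
  have hx2 : ∀ z, z * x ^ 2 = x ^ 2 * z := Subgroup.mem_center_iff.1 (hs x)
  have hyx : y * x = x * (d * y) := by
    rw [hd, commutatorElement_def]; group
  have hd2 : d * d = 1 := by
    have h1 : y ^ 2 * x = x * (d * d) * y ^ 2 := by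
      calc y ^ 2 * x = y * (y * x) := by rw [pow_two, mul_assoc]
        _ = (y * x) * (d * y) := by
          conv_lhs => rw [hyx]
          simp only [mul_assoc]
        _ = x * (d * y) * (d * y) := by rw [hyx]
        _ = x * (d * d) * y ^ 2 := by
          rw [mul_assoc x (d * y) (d * y), mul_assoc d y (d * y), ← mul_assoc y d y, hdc y, pow_two]
          simp only [mul_assoc]
    rw [← hy2 x] at h1
    exact (mul_eq_left.1 (mul_right_cancel h1).symm)
  have h2 : (x * y) ^ 2 = x ^ 2 * d * y ^ 2 := by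
    calc (x * y) ^ 2 = x * (y * x) * y := by rw [pow_two]; simp only [mul_assoc]
      _ = x ^ 2 * d * y ^ 2 := by rw [hyx, pow_two, pow_two]; simp only [mul_assoc]
  calc (x * y) ^ 4 = (x ^ 2 * d * y ^ 2) * (x ^ 2 * d * y ^ 2) := by
        rw [show (4 : ℕ) = 2 * 2 from rfl, pow_mul, h2, pow_two]
    _ = (x ^ 2 * x ^ 2) * (d * d) * (y ^ 2 * y ^ 2) := by
        calc (x ^ 2 * d * y ^ 2) * (x ^ 2 * d * y ^ 2)
            = x ^ 2 * d * (x ^ 2 * d * y ^ 2) * y ^ 2 := by
              rw [mul_assoc (x ^ 2 * d) (y ^ 2), ← hy2 (x ^ 2 * d * y ^ 2)]; simp only [mul_assoc]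
          _ = _ := by
              rw [show x ^ 2 * d * (x ^ 2 * d * y ^ 2) = x ^ 2 * (d * x ^ 2) * (d * y ^ 2) by
                simp only [mul_assoc], hx2 d]
              simp only [mul_assoc]
    _ = x ^ 4 * y ^ 4 := by rw [hd2, mul_one, ← pow_add, ← pow_add]

/-- A `p'`-automorphism fixing all small elements is trivial. -/
theorem fixed_of_fix_small [hp : Fact p.Prime] :
    ∀ (m : ℕ) (G : Type u) [Group G] [Finite G], Nat.card G = m → IsPGroup p G →
      ∀ (f : G ≃* G) (n : ℕ), n.Coprime p → (∀ x, f^[n] x = x) →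
        (∀ x, Small p x → f x = x) → ∀ g, f g = g := by
  intro m
  induction m using Nat.strong_induction_on with
  | _ m ih =>
  intro G _ _ hm hG f n hn hf hfix
  by_cases hp2 : p ≠ 2
  · exact fixed_of_fix_omega hp2 m G hm hG f n hn hf fun x hx => hfix x (Or.inl hx)
  push Not at hp2
  subst hp2
  have hsub : ∀ K : Subgroup G, K ≠ ⊤ → K.map f.toMonoidHom = K → ∀ x ∈ K, f x = x := by
    intro K hK hinv x hx
    let f' : K ≃* K := (f.subgroupMap K).trans (MulEquiv.subgroupCongr hinv)
    have hf' : ∀ y : K, ((f' y : K) : G) = f (y : G) := fun y => rfl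
    have hit : ∀ (k : ℕ) (y : K), ((f'^[k] y : K) : G) = f^[k] (y : G) := by
      intro k
      induction k with
      | zero => intro y; rfl
      | succ k ihk => intro y; rw [Function.iterate_succ_apply', Function.iterate_succ_apply', hf', ihk]
    have hlt : Nat.card K < m := by
      rw [← hm]
      refine lt_of_le_of_ne (Nat.le_of_dvd Nat.card_pos (Subgroup.card_subgroup_dvd_card K)) fun e => hK ?_
      exact Subgroup.eq_top_of_card_eq K e
    have := ih _ hlt K rfl (hG.to_subgroup K) f' n hn (fun y => Subtype.ext (by rw [hit, hf]))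
      (fun y hy => Subtype.ext (by rw [hf']; exact hfix y (small_map K.subtype hy))) ⟨x, hx⟩
    exact (hf' _).symm.trans (congrArg Subtype.val this)
  obtain ⟨H, hHc, hΦ, hHcomm, hC⟩ := exists_critical (p := 2) hG
  by_cases hH : H = ⊤
  swap
  · haveI := hHc
    exact fixed_of_fix_selfCentralizing hG f.toMonoidHom hn hf H hC
      (hsub H hH (Subgroup.characteristic_iff_map_eq.1 hHc f))
  subst hH
  rcases subsingleton_or_nontrivial G with hs | hs
  · exact fun g => Subsingleton.elim _ _
  have hz : ∀ x : G, x ^ 2 ∈ Subgroup.center G := by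
    intro x
    have h1 := hΦ ⟨(⟨x, Subgroup.mem_top x⟩ : (⊤ : Subgroup G)) ^ 2, pow_mem_frattini (hG.to_subgroup ⊤) _, rfl⟩
    rwa [Subgroup.coe_top, Subgroup.centralizer_univ] at h1
  have hc : ∀ x y : G, ⁅x, y⁆ ∈ Subgroup.center G := by
    intro x y
    have := (hHcomm (Subgroup.commutator_mem_commutator (Subgroup.mem_top x) (Subgroup.mem_top y))).2
    rwa [Subgroup.coe_top, Subgroup.centralizer_univ] at this
  have hΦne : frattini G ≠ ⊤ := by
    intro h
    have : Finite (Subgroup G) := inferInstance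
    obtain ⟨M, hM, -⟩ := (eq_top_or_exists_le_coatom (⊥ : Subgroup G)).resolve_left
      (bot_ne_top (α := Subgroup G))
    exact hM.1 (top_le_iff.1 (h ▸ frattini_le_coatom hM))
  intro g
  have hinv : (frattini G).map f.toMonoidHom = frattini G :=
    Subgroup.characteristic_iff_map_eq.1 inferInstance f
  have hg2 : f (g ^ 2) = g ^ 2 := hsub _ hΦne hinv _ (pow_mem_frattini hG g)
  refine fixed_of_translate hG f.toMonoidHom hn hf (z := g⁻¹ * f g) (by simp) (hfix _ (Or.inr ⟨rfl, ?_⟩))
  have hg4 : f g ^ 4 = g ^ 4 := by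
    rw [show (4 : ℕ) = 2 * 2 from rfl, pow_mul, ← map_pow, hg2, ← pow_mul]
  rw [pow_four_mul hc hz, inv_pow, hg4, inv_mul_cancel]

/-- A characteristic subgroup of small elements detecting `p'`-automorphisms. -/
theorem exists_small_detector [Finite P] [hp : Fact p.Prime] (hP : IsPGroup p P) :
    ∃ D : Subgroup P, D.Characteristic ∧ (∀ x ∈ D, Small p x) ∧
      ∀ (f : P ≃* P) (n : ℕ), n.Coprime p → (∀ x, f^[n] x = x) → (∀ x ∈ D, f x = x) → ∀ g, f g = g := by
  obtain ⟨H, hHc, hΦ, hHcomm, hC⟩ := exists_critical (p := p) hP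
  have hpz : ∀ x ∈ H, x ^ p ∈ Subgroup.centralizer (H : Set P) := fun x hx =>
    hΦ ⟨(⟨x, hx⟩ : H) ^ p, pow_mem_frattini (hP.to_subgroup H) _, rfl⟩
  have hcz : ∀ x ∈ H, ∀ y : P, ⁅x, y⁆ ∈ H ⊓ Subgroup.centralizer (H : Set P) := fun x hx y =>
    hHcomm (Subgroup.commutator_mem_commutator hx (Subgroup.mem_top y))
  have hcz' : ∀ x y : H, ⁅x, y⁆ ∈ Subgroup.center H := fun x y => Subgroup.mem_center_iff.2 fun z =>
    Subtype.ext (Subgroup.mem_centralizer_iff.1 (hcz x x.2 y).2 z z.2)
  have hpz' : ∀ x : H, x ^ p ∈ Subgroup.center H := fun x => Subgroup.mem_center_iff.2 fun z =>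
    Subtype.ext (Subgroup.mem_centralizer_iff.1 (hpz x x.2) z z.2)
  have hclosed : ∀ x y : H, Small p x → Small p y → Small p (x * y) := by
    by_cases h2 : p = 2
    · subst h2
      intro x y hx hy
      have h4 : ∀ z : H, Small 2 z → z ^ 4 = 1 := fun z hz => by
        rcases hz with h | ⟨-, h⟩
        · rw [show (4 : ℕ) = 2 * 2 from rfl, pow_mul, h, one_pow]
        · exact h
      exact Or.inr ⟨rfl, by rw [pow_four_mul hcz' hpz', h4 x hx, h4 y hy, one_mul]⟩
    · intro x y hx hy
      have hsc : SmallClass p H := Or.inl ⟨h2, by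
        rw [commutator_eq_bot_iff_mem_center]
        exact Subgroup.commutator_le.2 fun a _ b _ => hcz' a b⟩
      have hder : commutator H ≤ Subgroup.closure {z : H | z ^ p = 1} := by
        refine Subgroup.commutator_le.2 fun a _ b _ => Subgroup.subset_closure ?_
        show ⁅a, b⁆ ^ p = 1
        have key : ∀ k : ℕ, ⁅a ^ k, b⁆ = ⁅a, b⁆ ^ k := by
          intro k
          induction k with
          | zero => simp [commutatorElement_def]
          | succ k ihk =>
            calc ⁅a ^ (k + 1), b⁆ = a ^ k * ⁅a, b⁆ * (a ^ k)⁻¹ * ⁅a ^ k, b⁆ := by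
                  simp only [commutatorElement_def]; group
              _ = ⁅a, b⁆ * ⁅a, b⁆ ^ k := by
                  rw [Subgroup.mem_center_iff.1 (hcz' a b) (a ^ k), mul_inv_cancel_right, ihk]
              _ = _ := (pow_succ' _ _).symm
        rw [← key, commutatorElement_def, (Subgroup.mem_center_iff.1 (hpz' a) b).symm]
        group
      rcases hx with hx | ⟨h, -⟩
      · rcases hy with hy | ⟨h, -⟩
        · exact Or.inl (by rw [hsc.mul_pow_distrib hder, hx, hy, one_mul])
        · exact absurd h h2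
      · exact absurd h h2
  let D : Subgroup P :=
    { carrier := {x | x ∈ H ∧ Small p x}
      one_mem' := ⟨H.one_mem, Or.inl (one_pow _)⟩
      mul_mem' := fun {x y} hx hy => ⟨H.mul_mem hx.1 hy.1, small_map H.subtype
        (hclosed ⟨x, hx.1⟩ ⟨y, hy.1⟩ (small_of_injective H.subtype H.subtype_injective hx.2)
          (small_of_injective H.subtype H.subtype_injective hy.2))⟩
      inv_mem' := fun {x} ⟨hx, hs⟩ => ⟨H.inv_mem hx, by
        rcases hs with h | ⟨h2, h⟩
        · exact Or.inl (by rw [inv_pow, h, inv_one])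
        · exact Or.inr ⟨h2, by rw [inv_pow, h, inv_one]⟩⟩ }
  haveI := hHc
  refine ⟨D, characteristic_of_mem_iff fun φ x hx =>
    ⟨map_mem_of_characteristic φ hx.1, small_map φ.toMonoidHom hx.2⟩, fun x hx => hx.2,
    fun f n hn hf hfix => fixed_of_fix_selfCentralizing hP f.toMonoidHom hn hf H hC fun x hx => ?_⟩
  let f' : H ≃* H := (f.subgroupMap H).trans
    (MulEquiv.subgroupCongr (Subgroup.characteristic_iff_map_eq.1 hHc f))
  have hf' : ∀ y : H, ((f' y : H) : P) = f (y : P) := fun y => rfl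
  have hit : ∀ (k : ℕ) (y : H), ((f'^[k] y : H) : P) = f^[k] (y : P) := by
    intro k
    induction k with
    | zero => intro y; rfl
    | succ k ihk => intro y; rw [Function.iterate_succ_apply', Function.iterate_succ_apply', hf', ihk]
  have := fixed_of_fix_small (p := p) _ H rfl (hP.to_subgroup H) f' n hn
    (fun y => Subtype.ext (by rw [hit, hf]))
    (fun y hy => Subtype.ext (by rw [hf']; exact hfix y ⟨y.2, small_map H.subtype hy⟩)) ⟨x, hx⟩
  exact (hf' _).symm.trans (congrArg Subtype.val this)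

end Cfsg.Lib.Transfer
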