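import Mathlib
import Cfsg.Prelude.Def_Transfer
import Cfsg.Agent.Lib.Transfer.PGroupFrattini

set_option autoImplicit false
open Cfsg
open scoped commutatorElement

namespace Cfsg.Lib.Transfer.ExtraspecialClass

universe u v

/-- Centre of order `p`, class at most two, all `p`-th powers central. -/
structure ES (p : ℕ) (E : Type u) [Group E] : Prop where
  cardZ : Nat.card (Subgroup.center E) = p
  comm : ∀ a b : E, ⁅a, b⁆ ∈ Subgroup.center E
  powc : ∀ a : E, a ^ p ∈ Subgroup.center E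

theorem ES.of_extraspecial {p : ℕ} [Fact p.Prime] {E : Type u} [Group E] [Finite E]
    (h : Cfsg.IsExtraspecial p E) : ES p E := by
  obtain ⟨⟨hP, hΦ, hD⟩, hZ⟩ := h
  exact ⟨hZ, fun a b => hD ▸ Subgroup.commutator_mem_commutator (Subgroup.mem_top a) (Subgroup.mem_top b),
    fun a => hΦ ▸ Lib.Transfer.pow_mem_frattini hP a⟩

section pair

variable {p : ℕ} [Fact p.Prime] {E : Type u} [Group E] (x y : E)

/-- The centraliser of a pair. -/
def C : Subgroup E := Subgroup.centralizer {x, y}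

/-- Coordinates relative to a pair. -/
def f (a b : ℤ) (c : E) : E := x ^ a * y ^ b * c

theorem mem_C {w : E} : w ∈ C x y ↔ Commute x w ∧ Commute y w := by
  rw [C, Subgroup.mem_centralizer_iff]
  exact ⟨fun h => ⟨h x (Or.inl rfl), h y (Or.inr rfl)⟩, fun h z hz => by rcases hz with rfl | rfl; exacts [h.1, h.2]⟩

theorem center_le_C : Subgroup.center E ≤ C x y := fun w hw =>
  (mem_C x y).2 ⟨Subgroup.mem_center_iff.1 hw x, Subgroup.mem_center_iff.1 hw y⟩

variable (h : ES p E)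
include h

theorem comm_central (g : E) : Commute g ⁅x, y⁆ := Subgroup.mem_center_iff.1 (h.comm x y) g

theorem zpow_central (g : E) (n : ℤ) : Commute g (⁅x, y⁆ ^ n) := (comm_central x y h g).zpow_right n

theorem conj_x_zpow (b : ℤ) : x * y ^ b * x⁻¹ = ⁅x, y⁆ ^ b * y ^ b := by
  rw [← conj_zpow, ← (comm_central x y h y).symm.mul_zpow]
  congr 1
  rw [commutatorElement_def]; group

theorem conj_y_zpow (a b : ℤ) : (y ^ b)⁻¹ * x ^ a * y ^ b = ⁅x, y⁆ ^ (b * a) * x ^ a := by
  have h1 : (y ^ b)⁻¹ * x * y ^ b = ⁅x, y⁆ ^ b * x := by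
    calc (y ^ b)⁻¹ * x * y ^ b = (y ^ b)⁻¹ * (x * y ^ b * x⁻¹) * x := by group
      _ = (y ^ b)⁻¹ * ⁅x, y⁆ ^ b * y ^ b * x := by rw [conj_x_zpow x y h b]; group
      _ = ⁅x, y⁆ ^ b * x := by rw [(zpow_central x y h (y ^ b)⁻¹ b).eq]; group
  have h2 : (y ^ b)⁻¹ * x ^ a * y ^ b = ((y ^ b)⁻¹ * x * y ^ b) ^ a := by
    rw [show ((y ^ b)⁻¹ * x * y ^ b) = (y ^ b)⁻¹ * x * ((y ^ b)⁻¹)⁻¹ by group, conj_zpow, inv_inv]
  rw [h2, h1, (zpow_central x y h x b).symm.mul_zpow, ← zpow_mul]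

theorem swap (a b : ℤ) : y ^ b * x ^ a = ⁅x, y⁆ ^ (-(b * a)) * x ^ a * y ^ b := by
  calc y ^ b * x ^ a = y ^ b * ((y ^ b)⁻¹ * x ^ a * y ^ b) * (⁅x, y⁆ ^ (b * a))⁻¹ := by
        rw [conj_y_zpow x y h a b, (zpow_central x y h (x ^ a) (b * a)).symm.eq]; group
    _ = x ^ a * y ^ b * (⁅x, y⁆ ^ (b * a))⁻¹ := by group
    _ = _ := by
      rw [← zpow_neg, (zpow_central x y h (x ^ a * y ^ b) _).eq]; group

theorem f_mul (a b a' b' : ℤ) {c : E} (hc : c ∈ C x y) (c' : E) :
    f x y a b c * f x y a' b' c' = f x y (a + a') (b + b') (⁅x, y⁆ ^ (-(b * a')) * c * c') := by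
  obtain ⟨hcx, hcy⟩ := (mem_C x y).1 hc
  have hk : Commute c (x ^ a' * y ^ b') := ((hcx.symm.zpow_right a').mul_right (hcy.symm.zpow_right b'))
  calc f x y a b c * f x y a' b' c' = x ^ a * y ^ b * (c * (x ^ a' * y ^ b')) * c' := by simp only [f]; group
    _ = x ^ a * (y ^ b * x ^ a') * y ^ b' * c * c' := by rw [hk.eq]; group
    _ = x ^ a * (⁅x, y⁆ ^ (-(b * a')) * x ^ a' * y ^ b) * y ^ b' * c * c' := by rw [swap x y h a' b]
    _ = (x ^ a * ⁅x, y⁆ ^ (-(b * a'))) * x ^ a' * y ^ b * y ^ b' * c * c' := by group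
    _ = (⁅x, y⁆ ^ (-(b * a')) * (x ^ a * x ^ a' * y ^ b * y ^ b')) * c * c' := by
      rw [(zpow_central x y h (x ^ a) _).eq]; group
    _ = _ := by
      rw [← (zpow_central x y h (x ^ a * x ^ a' * y ^ b * y ^ b') _).eq]
      simp only [f, zpow_add]; group

theorem f_conj_x (a b : ℤ) {c : E} (hc : c ∈ C x y) :
    f x y a b c * x * (f x y a b c)⁻¹ = ⁅x, y⁆ ^ (-b) * x := by
  obtain ⟨hcx, hcy⟩ := (mem_C x y).1 hc
  calc f x y a b c * x * (f x y a b c)⁻¹ = x ^ a * y ^ b * (c * x) * c⁻¹ * (y ^ b)⁻¹ * (x ^ a)⁻¹ := by simp only [f]; group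
    _ = x ^ a * (y ^ b * x ^ (1 : ℤ)) * (y ^ b)⁻¹ * (x ^ a)⁻¹ := by rw [hcx.symm.eq]; group
    _ = (x ^ a * ⁅x, y⁆ ^ (-b)) * x * (x ^ a)⁻¹ := by rw [swap x y h 1 b, mul_one]; group
    _ = _ := by rw [(zpow_central x y h (x ^ a) _).eq]; group

theorem f_conj_y (a b : ℤ) {c : E} (hc : c ∈ C x y) :
    f x y a b c * y * (f x y a b c)⁻¹ = ⁅x, y⁆ ^ a * y := by
  obtain ⟨hcx, hcy⟩ := (mem_C x y).1 hc
  have h1 : x ^ a * y * (x ^ a)⁻¹ = ⁅x, y⁆ ^ a * y := by
    have e := conj_y_zpow x y h a 1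
    rw [zpow_one, one_mul] at e
    calc x ^ a * y * (x ^ a)⁻¹ = y * (y⁻¹ * x ^ a * y) * (x ^ a)⁻¹ := by group
      _ = y * ⁅x, y⁆ ^ a := by rw [e]; group
      _ = _ := (zpow_central x y h y a).eq
  calc f x y a b c * y * (f x y a b c)⁻¹ = x ^ a * y ^ b * (c * y) * c⁻¹ * (y ^ b)⁻¹ * (x ^ a)⁻¹ := by simp only [f]; group
    _ = x ^ a * y * (x ^ a)⁻¹ := by rw [hcy.symm.eq]; group
    _ = _ := h1

variable [Finite E] (hne : ⁅x, y⁆ ≠ 1)
include hne

theorem orderOf_comm : orderOf ⁅x, y⁆ = p := by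
  have hd : orderOf ⁅x, y⁆ ∣ p := by
    have := orderOf_dvd_natCard (⟨_, h.comm x y⟩ : Subgroup.center E)
    rwa [Subgroup.orderOf_mk, h.cardZ] at this
  exact ((Nat.dvd_prime (Fact.out : p.Prime)).1 hd).resolve_left (fun e => hne (orderOf_eq_one_iff.1 e))

theorem center_eq_zpow {w : E} (hw : w ∈ Subgroup.center E) : ∃ k : ℤ, ⁅x, y⁆ ^ k = w := by
  have hle : Subgroup.zpowers ⁅x, y⁆ ≤ Subgroup.center E := Subgroup.zpowers_le.2 (h.comm x y)
  have := Subgroup.eq_of_le_of_card_ge hle (by rw [Nat.card_zpowers, orderOf_comm x y h hne, h.cardZ])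
  exact Subgroup.mem_zpowers_iff.1 (this ▸ hw)

theorem decompose (e : E) : ∃ a b : ℤ, ∃ c ∈ C x y, e = f x y a b c := by
  obtain ⟨u, hu⟩ := center_eq_zpow x y h hne (h.comm e x)
  obtain ⟨v, hv⟩ := center_eq_zpow x y h hne (h.comm e y)
  set g := f x y v (-u) 1 with hg
  have hgx : g * x * g⁻¹ = e * x * e⁻¹ := by
    rw [hg, f_conj_x x y h v (-u) (one_mem _), neg_neg, hu, commutatorElement_def]; group
  have hgy : g * y * g⁻¹ = e * y * e⁻¹ := by
    rw [hg, f_conj_y x y h v (-u) (one_mem _), hv, commutatorElement_def]; group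
  refine ⟨v, -u, g⁻¹ * e, (mem_C x y).2 ⟨?_, ?_⟩, by simp only [hg, f]; group⟩
  · show x * (g⁻¹ * e) = g⁻¹ * e * x
    calc x * (g⁻¹ * e) = g⁻¹ * (g * x * g⁻¹) * e := by group
      _ = g⁻¹ * e * x := by rw [hgx]; group
  · show y * (g⁻¹ * e) = g⁻¹ * e * y
    calc y * (g⁻¹ * e) = g⁻¹ * (g * y * g⁻¹) * e := by group
      _ = g⁻¹ * e * y := by rw [hgy]; group

theorem dvd_of_eq {a b a' b' : ℤ} {c c' : E} (hc : c ∈ C x y) (hc' : c' ∈ C x y)
    (e : f x y a b c = f x y a' b' c') : (p : ℤ) ∣ a' - a ∧ (p : ℤ) ∣ b' - b := by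
  have h1 : ⁅x, y⁆ ^ (-b) = ⁅x, y⁆ ^ (-b') :=
    mul_right_cancel (((f_conj_x x y h a b hc).symm.trans (by rw [e])).trans (f_conj_x x y h a' b' hc'))
  have h2 : ⁅x, y⁆ ^ a = ⁅x, y⁆ ^ a' :=
    mul_right_cancel (((f_conj_y x y h a b hc).symm.trans (by rw [e])).trans (f_conj_y x y h a' b' hc'))
  rw [zpow_eq_zpow_iff_modEq, orderOf_comm x y h hne] at h1 h2
  refine ⟨h2.dvd, ?_⟩
  have := h1.dvd
  rw [show -b' - -b = -(b' - b) by ring, dvd_neg] at this
  exact this

theorem center_C : (Subgroup.center (C x y)).map (C x y).subtype = Subgroup.center E := by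
  ext w
  constructor
  · rintro ⟨⟨w, hwC⟩, hw, rfl⟩
    rw [Subgroup.mem_center_iff]
    intro g
    obtain ⟨a, b, c, hc, rfl⟩ := decompose x y h hne g
    have h1 : Commute c w := congrArg Subtype.val (Subgroup.mem_center_iff.1 hw ⟨c, hc⟩)
    obtain ⟨hx', hy'⟩ := (mem_C x y).1 hwC
    exact ((hx'.zpow_left a).mul_left (hy'.zpow_left b)).mul_left h1
  · intro hw
    exact ⟨⟨w, center_le_C x y hw⟩, Subgroup.mem_center_iff.2 fun g => Subtype.ext (Subgroup.mem_center_iff.1 hw g.1), rfl⟩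

theorem es_C : ES p (C x y) := by
  have hm : ∀ w : C x y, (w : E) ∈ Subgroup.center E → w ∈ Subgroup.center (C x y) := fun w hw =>
    Subgroup.mem_center_iff.2 fun g => Subtype.ext (Subgroup.mem_center_iff.1 hw g.1)
  refine ⟨?_, fun a b => hm _ (by rw [← Subgroup.subtype_apply, map_commutatorElement]; exact h.comm _ _),
    fun a => hm _ (by rw [SubgroupClass.coe_pow]; exact h.powc _)⟩
  rw [← h.cardZ, ← center_C x y h hne, Subgroup.card_map_of_injective (C x y).subtype_injective]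

/-- The coordinate map. -/
theorem f_bij : Function.Bijective fun t : (Fin p × Fin p) × C x y => f x y (t.1.1 : ℤ) (t.1.2 : ℤ) t.2 := by
  have hp : 0 < p := (Fact.out : p.Prime).pos
  constructor
  · rintro ⟨⟨a, b⟩, c⟩ ⟨⟨a', b'⟩, c'⟩ e
    obtain ⟨ha, hb⟩ := dvd_of_eq x y h hne c.2 c'.2 e
    have hzero : ∀ s t : Fin p, (p : ℤ) ∣ (t : ℤ) - (s : ℤ) → s = t := by
      intro s t hd
      have hs := s.2
      have ht := t.2
      have : ((t : ℤ) - (s : ℤ)) = 0 := Int.eq_zero_of_dvd_of_natAbs_lt_natAbs hd (by omega)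
      exact Fin.ext (by omega)
    obtain rfl := hzero a a' ha
    obtain rfl := hzero b b' hb
    exact Prod.ext rfl (Subtype.ext (mul_left_cancel (show x ^ (a : ℤ) * y ^ (b : ℤ) * (c : E) = x ^ (a : ℤ) * y ^ (b : ℤ) * (c' : E) from e)))
  · intro e
    obtain ⟨a, b, c, hc, rfl⟩ := decompose x y h hne e
    have hpos : (0 : ℤ) < p := by exact_mod_cast hp
    have hC : (x ^ p) ^ (a / p) * (y ^ p) ^ (b / p) * c ∈ C x y :=
      mul_mem (mul_mem (zpow_mem (center_le_C x y (h.powc x)) _) (zpow_mem (center_le_C x y (h.powc y)) _)) hc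
    refine ⟨((⟨(a % p).toNat, ?_⟩, ⟨(b % p).toNat, ?_⟩), ⟨_, hC⟩), ?_⟩
    · exact (Int.toNat_lt (Int.emod_nonneg _ hpos.ne')).2 (Int.emod_lt_of_pos _ hpos)
    · exact (Int.toNat_lt (Int.emod_nonneg _ hpos.ne')).2 (Int.emod_lt_of_pos _ hpos)
    · show x ^ (((a % p).toNat : ℕ) : ℤ) * y ^ (((b % p).toNat : ℕ) : ℤ) * _ = x ^ a * y ^ b * c
      rw [Int.toNat_of_nonneg (Int.emod_nonneg _ hpos.ne'), Int.toNat_of_nonneg (Int.emod_nonneg _ hpos.ne')]
      have hcx : Commute (y ^ (b % p)) ((x ^ p) ^ (a / p)) :=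
        (Subgroup.mem_center_iff.1 (zpow_mem (h.powc x) _) _)
      conv_rhs => rw [← Int.emod_add_ediv_mul a p, ← Int.emod_add_ediv_mul b p, zpow_add, zpow_add, mul_comm (a / (p : ℤ)),
        mul_comm (b / (p : ℤ)), zpow_mul, zpow_mul, zpow_natCast, zpow_natCast]
      rw [show x ^ (a % p) * y ^ (b % p) * ((x ^ p) ^ (a / p) * (y ^ p) ^ (b / p) * c) =
        x ^ (a % p) * (y ^ (b % p) * (x ^ p) ^ (a / p)) * (y ^ p) ^ (b / p) * c by group, hcx.eq]
      group

theorem card_eq : Nat.card E = p * p * Nat.card (C x y) := by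
  rw [← Nat.card_eq_of_bijective _ (f_bij x y h hne), Nat.card_prod, Nat.card_prod, Nat.card_fin]

end pair

theorem shift {p : ℕ} {G : Type*} [Group G] (s t d' : G) (A₀ B₀ k l : ℤ) (hs : s ^ p ∈ Subgroup.center G) :
    s ^ (A₀ + p * k) * t ^ (B₀ + p * l) * d' = s ^ A₀ * t ^ B₀ * ((s ^ p) ^ k * (t ^ p) ^ l * d') := by
  have hcx : Commute (t ^ B₀) ((s ^ p) ^ k) := Subgroup.mem_center_iff.1 (zpow_mem hs _) _
  rw [zpow_add, zpow_add, zpow_mul, zpow_mul, zpow_natCast, zpow_natCast,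
    show s ^ A₀ * t ^ B₀ * ((s ^ p) ^ k * (t ^ p) ^ l * d') =
      s ^ A₀ * (t ^ B₀ * (s ^ p) ^ k) * (t ^ p) ^ l * d' by group, hcx.eq]
  group

/-- Gluing isomorphisms along pairs. -/
theorem glue {p : ℕ} [Fact p.Prime] {E : Type u} [Group E] [Finite E] {E' : Type v} [Group E'] [Finite E']
    (h : ES p E) (h' : ES p E') (x y : E) (x' y' : E') (hne : ⁅x, y⁆ ≠ 1) (hne' : ⁅x', y'⁆ ≠ 1)
    (φ : C x y ≃* C x' y')
    (hz : (φ ⟨⁅x, y⁆, center_le_C x y (h.comm x y)⟩ : E') = ⁅x', y'⁆)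
    (hx : (φ ⟨x ^ p, center_le_C x y (h.powc x)⟩ : E') = x' ^ p)
    (hy : (φ ⟨y ^ p, center_le_C x y (h.powc y)⟩ : E') = y' ^ p) : Nonempty (E ≃* E') := by
  classical
  choose A B c hc he using decompose x y h hne
  let F : E → E' := fun e => f x' y' (A e) (B e) (φ ⟨c e, hc e⟩ : E')
  have hF : ∀ (a b : ℤ) (d : C x y) (e : E), e = f x y a b d → F e = f x' y' a b (φ d : E') := by
    intro a b d e hed
    have heq : f x y (A e) (B e) (c e) = f x y a b d := (he e).symm.trans hed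
    obtain ⟨⟨k, hk⟩, ⟨l, hl⟩⟩ := dvd_of_eq x y h hne (hc e) d.2 heq
    obtain rfl : a = A e + p * k := by omega
    obtain rfl : b = B e + p * l := by omega
    set xp : C x y := ⟨x ^ p, center_le_C x y (h.powc x)⟩
    set yp : C x y := ⟨y ^ p, center_le_C x y (h.powc y)⟩
    have e1 : (⟨c e, hc e⟩ : C x y) = xp ^ k * yp ^ l * d := by
      apply Subtype.ext
      have h1 := heq
      simp only [f] at h1
      rw [shift x y (d : E) (A e) (B e) k l (h.powc x)] at h1
      exact mul_left_cancel h1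
    show f x' y' (A e) (B e) (φ ⟨c e, hc e⟩ : E') = _
    rw [e1, map_mul, map_mul, map_zpow, map_zpow, Subgroup.coe_mul, Subgroup.coe_mul, SubgroupClass.coe_zpow,
      SubgroupClass.coe_zpow, hx, hy]
    exact (shift x' y' _ (A e) (B e) k l (h'.powc x')).symm
  set zC : C x y := ⟨⁅x, y⁆, center_le_C x y (h.comm x y)⟩
  let Φ : E →* E' := MonoidHom.mk' F (fun e e' => by
    have h1 : e * e' = f x y (A e + A e') (B e + B e') ((zC ^ (-(B e * A e')) * ⟨c e, hc e⟩ * ⟨c e', hc e'⟩ : C x y) : E) := by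
      conv_lhs => rw [he e, he e', f_mul x y h _ _ _ _ (hc e)]
      simp [zC]
    rw [hF _ _ _ _ h1]
    show _ = f x' y' (A e) (B e) (φ ⟨c e, hc e⟩ : E') * f x' y' (A e') (B e') (φ ⟨c e', hc e'⟩ : E')
    rw [f_mul x' y' h' _ _ _ _ (φ ⟨c e, hc e⟩).2, map_mul, map_mul, map_zpow, Subgroup.coe_mul, Subgroup.coe_mul,
      SubgroupClass.coe_zpow, hz])
  have hsurj : Function.Surjective Φ := fun e' => by
    obtain ⟨a, b, d, hd, rfl⟩ := decompose x' y' h' hne' e'
    refine ⟨f x y a b (φ.symm ⟨d, hd⟩ : E), ?_⟩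
    show F _ = _
    rw [hF a b _ _ rfl, MulEquiv.apply_symm_apply]
  have hcard : Nat.card E = Nat.card E' := by
    rw [card_eq x y h hne, card_eq x' y' h' hne', Nat.card_congr φ.toEquiv]
  exact ⟨MulEquiv.ofBijective Φ ((Nat.bijective_iff_surjective_and_card Φ).2 ⟨hsurj, hcard⟩)⟩

theorem exists_pair {p : ℕ} {E : Type u} [Group E] (h : ES p E) (hlt : p < Nat.card E) :
    ∃ x y : E, ⁅x, y⁆ ≠ 1 := by
  by_contra hno
  push Not at hno
  have : Subgroup.center E = ⊤ := by
    rw [eq_top_iff]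
    exact fun g _ => Subgroup.mem_center_iff.2 fun k => commutatorElement_eq_one_iff_mul_comm.1 (hno k g)
  have hc := h.cardZ
  rw [this, Subgroup.card_top] at hc
  omega

/-! ### Exponent `p` -/

theorem iso_exp.{a, b} {p : ℕ} [Fact p.Prime] : ∀ (n : ℕ) (E : Type a) [Group E] [Finite E] (E' : Type b) [Group E'] [Finite E'],
    ES p E → ES p E' → (∀ e : E, e ^ p = 1) → (∀ e : E', e ^ p = 1) → Nat.card E = n → Nat.card E' = n →
    Nonempty (E ≃* E') := by
  intro n
  induction n using Nat.strong_induction_on with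
  | _ n ih =>
  intro E _ _ E' _ _ h h' he he' hn hn'
  have hp := (Fact.out : p.Prime)
  by_cases hlt : p < n
  · obtain ⟨x, y, hne⟩ := exists_pair h (hn ▸ hlt)
    obtain ⟨x', y', hne'⟩ := exists_pair h' (hn' ▸ hlt)
    have hc1 := card_eq x y h hne
    have hc2 := card_eq x' y' h' hne'
    have hlt' : Nat.card (C x y) < n := by
      have := hp.two_le
      have : 0 < Nat.card (C x y) := Nat.card_pos
      have : 1 < p * p := Nat.one_lt_mul_iff.2 ⟨by omega, by omega, Or.inl hp.one_lt⟩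
      nlinarith
    obtain ⟨φ⟩ := ih _ hlt' (C x y) (C x' y') (es_C x y h hne) (es_C x' y' h' hne')
      (fun e => Subtype.ext (he e.1)) (fun e => Subtype.ext (he' e.1)) rfl (by
        have hpp : 0 < p * p := Nat.mul_pos hp.pos hp.pos
        exact Nat.eq_of_mul_eq_mul_left hpp (by omega))
    set zC : C x y := ⟨⁅x, y⁆, center_le_C x y (h.comm x y)⟩
    have hzc : zC ∈ Subgroup.center (C x y) := Subgroup.mem_center_iff.2 fun g => Subtype.ext (comm_central x y h g.1)
    have hφz : (φ zC : E') ∈ Subgroup.center E' := by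
      rw [← center_C x' y' h' hne']
      refine ⟨φ zC, Subgroup.mem_center_iff.2 fun g => ?_, rfl⟩
      obtain ⟨g, rfl⟩ := φ.surjective g
      rw [← map_mul, ← map_mul, Subgroup.mem_center_iff.1 hzc g]
    obtain ⟨k, hk⟩ := center_eq_zpow x' y' h' hne' hφz
    set y'' := y' ^ k
    have hz'' : ⁅x', y''⁆ = ⁅x', y'⁆ ^ k := by
      rw [commutatorElement_def x' y'', conj_x_zpow x' y' h' k, mul_inv_cancel_right]
    have hne'' : ⁅x', y''⁆ ≠ 1 := by
      rw [hz'', hk]
      intro e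
      have : zC = 1 := φ.injective (Subtype.ext (by rw [map_one]; exact e))
      exact hne (congrArg Subtype.val this)
    have hCeq : C x' y' = C x' y'' := by
      have hy' : y' ∈ Subgroup.zpowers y'' := by
        have hle : Subgroup.zpowers y'' ≤ Subgroup.zpowers y' := Subgroup.zpowers_le.2 (Subgroup.zpow_mem_zpowers y' k)
        have h2 : y'' ≠ 1 := fun e => hne'' (by rw [e, commutatorElement_one_right])
        have heq := Subgroup.eq_of_le_of_card_ge hle (by
          rw [Nat.card_zpowers, Nat.card_zpowers, orderOf_eq_prime (he' _) h2]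
          exact Nat.le_of_dvd hp.pos (orderOf_dvd_of_pow_eq_one (he' _)))
        rw [heq]; exact Subgroup.mem_zpowers y'
      obtain ⟨j, hj⟩ := Subgroup.mem_zpowers_iff.1 hy'
      ext w
      rw [mem_C, mem_C]
      exact ⟨fun hw => ⟨hw.1, hw.2.zpow_left k⟩, fun hw => ⟨hw.1, hj ▸ hw.2.zpow_left j⟩⟩
    refine glue h h' x y x' y'' hne hne'' (φ.trans (MulEquiv.subgroupCongr hCeq)) ?_ ?_ ?_
    · rw [hz'', hk]; rfl
    · simp only [he, he']; exact congrArg Subtype.val (map_one _)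
    · simp only [he, he']; exact congrArg Subtype.val (map_one _)
  · have hd := Subgroup.card_subgroup_dvd_card (Subgroup.center E)
    rw [h.cardZ, hn] at hd
    have hpn : p = n := le_antisymm (Nat.le_of_dvd (hn ▸ Nat.card_pos) hd) (not_lt.1 hlt)
    haveI : IsCyclic E := isCyclic_of_prime_card (hn.trans hpn.symm)
    haveI : IsCyclic E' := isCyclic_of_prime_card (hn'.trans hpn.symm)
    exact ⟨mulEquivOfCyclicCardEq (hn.trans hn'.symm)⟩

/-! ### The prime two -/

variable {E : Type u} [Group E] [Finite E]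

/-- The number of solutions of `x ^ 2 = 1`. -/
noncomputable def N (E : Type u) [Group E] : ℕ := Nat.card {x : E // x ^ 2 = 1}

theorem eq_z (h : ES 2 E) (x y : E) (hne : ⁅x, y⁆ ≠ 1) {w : E} (hw : w ∈ Subgroup.center E) :
    w = 1 ∨ w = ⁅x, y⁆ := by
  haveI := Fact.mk Nat.prime_two
  obtain ⟨k, rfl⟩ := center_eq_zpow x y h hne hw
  have hz2 : ⁅x, y⁆ ^ (2 : ℤ) = 1 := by
    rw [show (2 : ℤ) = ((2 : ℕ) : ℤ) from rfl, zpow_natCast, ← orderOf_comm x y h hne, pow_orderOf_eq_one]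
  rcases Int.even_or_odd k with ⟨j, rfl⟩ | ⟨j, rfl⟩
  · exact Or.inl (by rw [← two_mul, zpow_mul, hz2, one_zpow])
  · exact Or.inr (by rw [zpow_add, zpow_mul, hz2, one_zpow, one_mul, zpow_one])

theorem z_sq (h : ES 2 E) (x y : E) (hne : ⁅x, y⁆ ≠ 1) : ⁅x, y⁆ * ⁅x, y⁆ = 1 := by
  haveI := Fact.mk Nat.prime_two
  rw [← pow_two, ← orderOf_comm x y h hne, pow_orderOf_eq_one]

/-- A pair of involutions from one non-central involution. -/
theorem d8_of_invol (h : ES 2 E) {x : E} (hx : x ^ 2 = 1) (hxc : x ∉ Subgroup.center E) :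
    ∃ y : E, ⁅x, y⁆ ≠ 1 ∧ y ^ 2 = 1 := by
  obtain ⟨y, hy⟩ : ∃ y : E, ⁅x, y⁆ ≠ 1 := by
    by_contra hno
    push Not at hno
    exact hxc (Subgroup.mem_center_iff.2 fun g => (commutatorElement_eq_one_iff_mul_comm.1 (hno g)).symm)
  rcases eq_z h x y hy (h.powc y) with e | e
  · exact ⟨y, hy, e⟩
  · refine ⟨x * y, ?_, ?_⟩
    · rw [show ⁅x, x * y⁆ = x * ⁅x, y⁆ * x⁻¹ by simp only [commutatorElement_def]; group]
      intro e'
      exact hy (by rwa [(comm_central x y h x).eq, mul_inv_cancel_right] at e')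
    · calc (x * y) ^ 2 = (⁅x, y⁆ * y * x) * (x * y) := by rw [commutatorElement_def, pow_two]; group
        _ = ⁅x, y⁆ * y * (x ^ 2) * y := by rw [pow_two]; group
        _ = ⁅x, y⁆ * (y ^ 2) := by rw [hx, pow_two]; group
        _ = 1 := by rw [e, z_sq h x y hy]

theorem exists_invol (h : ES 2 E) (h32 : 8 < Nat.card E) : ∃ x : E, x ^ 2 = 1 ∧ x ∉ Subgroup.center E := by
  haveI := Fact.mk Nat.prime_two
  obtain ⟨x, y, hne⟩ := exists_pair h (by omega)
  have hxc : x ∉ Subgroup.center E := fun hc =>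
    hne (commutatorElement_eq_one_iff_mul_comm.2 (Subgroup.mem_center_iff.1 hc y).symm)
  rcases eq_z h x y hne (h.powc x) with hx | hx
  · exact ⟨x, hx, hxc⟩
  have hcc := card_eq x y h hne
  have hlt : Nat.card ((Subgroup.center E).subgroupOf (C x y)) < Nat.card (C x y) := by
    rw [Nat.card_congr (Subgroup.subgroupOfEquivOfLe (center_le_C x y)).toEquiv, h.cardZ]; omega
  obtain ⟨c, hc⟩ : ∃ c : C x y, (c : E) ∉ Subgroup.center E := by
    by_contra hno
    push Not at hno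
    have : (Subgroup.center E).subgroupOf (C x y) = ⊤ := eq_top_iff.2 fun w _ => hno w
    rw [this, Subgroup.card_top] at hlt
    exact lt_irrefl _ hlt
  rcases eq_z h x y hne (h.powc (c : E)) with e | e
  · exact ⟨c, e, hc⟩
  · obtain ⟨hcx, hcy⟩ := (mem_C x y).1 c.2
    refine ⟨x * c, by rw [hcx.mul_pow, hx, e, z_sq h x y hne], fun hm => hne ?_⟩
    have h1 : x * c * y = y * (x * c) := (Subgroup.mem_center_iff.1 hm y).symm
    rw [mul_assoc, hcy.symm.eq, ← mul_assoc, ← mul_assoc] at h1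
    exact commutatorElement_eq_one_iff_mul_comm.2 (mul_right_cancel h1)

theorem count_d8 (h : ES 2 E) (x y : E) (hne : ⁅x, y⁆ ≠ 1) (hx : x ^ 2 = 1) (hy : y ^ 2 = 1) :
    N E = 2 * N (C x y) + Nat.card (C x y) := by
  classical
  haveI := Fact.mk Nat.prime_two
  haveI : Fintype (C x y) := Fintype.ofFinite _
  let e := Equiv.ofBijective _ (f_bij x y h hne)
  have hN : N E = Nat.card {t : (Fin 2 × Fin 2) × C x y // (e t) ^ 2 = 1} :=
    (Nat.card_congr (e.subtypeEquiv (fun t => Iff.rfl))).symm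
  have hz2 := z_sq h x y hne
  have hsq : ∀ a b : Fin 2, ∀ c : C x y, (f x y (a : ℤ) (b : ℤ) c) ^ 2 = 1 ↔
      if a = 1 ∧ b = 1 then ¬ (c ^ 2 = 1) else c ^ 2 = 1 := by
    intro a b c
    have e1 : (f x y (a : ℤ) (b : ℤ) (c : E)) ^ 2 = ⁅x, y⁆ ^ (-((b : ℤ) * (a : ℤ))) * (c : E) ^ 2 := by
      rw [pow_two (f x y (a : ℤ) (b : ℤ) (c : E)), f_mul x y h _ _ _ _ c.2]
      have hxx : ∀ (g : E) (s : ℤ), g ^ 2 = 1 → g ^ (s + s) = 1 := fun g s hg => by
        rw [← two_mul, zpow_mul, show (2 : ℤ) = ((2 : ℕ) : ℤ) from rfl, zpow_natCast, hg, one_zpow]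
      simp only [f, hxx x _ hx, hxx y _ hy, one_mul]
      rw [pow_two, mul_assoc]
    rw [e1]
    have hc1 : (c : E) ^ 2 = 1 ↔ c ^ 2 = 1 := by rw [← SubgroupClass.coe_pow, OneMemClass.coe_eq_one]
    by_cases hab : a = 1 ∧ b = 1
    · rw [if_pos hab, hab.1, hab.2]
      have hz' : ⁅x, y⁆ ^ (-((((1 : Fin 2) : ℕ) : ℤ) * (((1 : Fin 2) : ℕ) : ℤ))) = ⁅x, y⁆ := by
        simpa using inv_eq_of_mul_eq_one_left hz2
      rw [hz', ← hc1]
      rcases eq_z h x y hne (h.powc (c : E)) with e2 | e2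
      · simp [e2, hne]
      · simp [e2, hne, hz2]
    · rw [if_neg hab, ← hc1]
      have : ((b : ℕ) : ℤ) * ((a : ℕ) : ℤ) = 0 := by fin_cases a <;> fin_cases b <;> simp_all
      rw [this, neg_zero, zpow_zero, one_mul]
  rw [hN, Nat.card_eq_fintype_card, Fintype.card_subtype, show (N (C x y)) = Fintype.card {c : C x y // c ^ 2 = 1} from
    Nat.card_eq_fintype_card, Fintype.card_subtype, Nat.card_eq_fintype_card]
  simp only [Finset.card_filter, Fintype.sum_prod_type, Fin.sum_univ_two, e, Equiv.ofBijective_apply, hsq]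
  rw [← Finset.card_univ, Finset.card_eq_sum_ones, Finset.mul_sum, ← Finset.sum_add_distrib, ← Finset.sum_add_distrib,
    ← Finset.sum_add_distrib, ← Finset.sum_add_distrib]
  refine Finset.sum_congr rfl fun c _ => ?_
  by_cases hc : c ^ 2 = 1 <;> simp [hc]

/-- Powers-of-two form of the count and the classification. -/
theorem classify.{a, b} : ∀ (m : ℕ) (E : Type a) [Group E] [Finite E], ES 2 E → Nat.card E = 2 ^ (2 * m + 1) →
    (N E = 2 ^ (2 * m) + 2 ^ m ∨ (1 ≤ m ∧ N E + 2 ^ m = 2 ^ (2 * m))) ∧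
    ∀ (E' : Type b) [Group E'] [Finite E'], ES 2 E' → Nat.card E' = Nat.card E → N E' = N E → Nonempty (E ≃* E') := by
  haveI := Fact.mk Nat.prime_two
  intro m
  induction m with
  | zero =>
    intro E _ _ h hc
    haveI : IsCyclic E := isCyclic_of_prime_card (p := 2) (by simpa using hc)
    refine ⟨Or.inl ?_, fun E' _ _ h' hc' _ => ?_⟩
    · have hall : ∀ e : E, e ^ 2 = 1 := fun e => by
        rw [show 2 = Nat.card E by simpa using hc.symm]; exact pow_card_eq_one'
      rw [N, Nat.card_congr (Equiv.subtypeUnivEquiv hall), hc]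
      simp
    · haveI : IsCyclic E' := isCyclic_of_prime_card (p := 2) (by rw [hc', hc]; simp)
      exact ⟨mulEquivOfCyclicCardEq hc'.symm⟩
  | succ m ih =>
    intro E _ _ h hc
    by_cases hinv : ∃ x : E, x ^ 2 = 1 ∧ x ∉ Subgroup.center E
    · obtain ⟨x, hx, hxc⟩ := hinv
      obtain ⟨y, hne, hy⟩ := d8_of_invol h hx hxc
      have hcard := card_eq x y h hne
      have hC : Nat.card (C x y) = 2 ^ (2 * m + 1) := by
        rw [hc] at hcard
        have : 2 * 2 * 2 ^ (2 * m + 1) = 2 ^ (2 * (m + 1) + 1) := by ring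
        omega
      obtain ⟨hN, hiso⟩ := ih (C x y) (es_C x y h hne) hC
      have hcount := count_d8 h x y hne hx hy
      have e2 : 2 ^ (2 * (m + 1)) = 2 * 2 ^ (2 * m) + 2 * 2 ^ (2 * m) := by ring
      have e2' : 2 ^ (2 * m + 1) = 2 * 2 ^ (2 * m) := by ring
      have e1 : 2 ^ (m + 1) = 2 * 2 ^ m := by ring
      have e3 : 2 ^ m ≤ 2 ^ (2 * m) := Nat.pow_le_pow_right (by norm_num) (by omega)
      refine ⟨?_, fun E' _ _ h' hc' hN' => ?_⟩
      · rcases hN with hN | ⟨hm, hN⟩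
        · exact Or.inl (by omega)
        · exact Or.inr ⟨by omega, by omega⟩
      · obtain ⟨x', hx', hxc'⟩ : ∃ x : E', x ^ 2 = 1 ∧ x ∉ Subgroup.center E' := by
          by_contra hno
          push Not at hno
          have hle : N E' ≤ 2 := by
            rw [← h'.cardZ]
            exact Nat.card_le_card_of_injective (fun t : {x : E' // x ^ 2 = 1} => (⟨t.1, hno t.1 t.2⟩ : Subgroup.center E'))
              (fun s t e => Subtype.ext (congrArg Subtype.val e :))
          have hge : 2 ^ (2 * m + 1) ≤ N E := by omega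
          have h1 : 0 < N (C x y) := by
            haveI : Nonempty {c : C x y // c ^ 2 = 1} := ⟨⟨1, one_pow 2⟩⟩
            exact Nat.card_pos
          omega
        obtain ⟨y', hne', hy'⟩ := d8_of_invol h' hx' hxc'
        have hcard' := card_eq x' y' h' hne'
        have hcount' := count_d8 h' x' y' hne' hx' hy'
        obtain ⟨φ⟩ := hiso (C x' y') (es_C x' y' h' hne') (by omega) (by omega)
        refine glue h h' x y x' y' hne hne' φ ?_ ?_ ?_
        · have hzc : (⟨⁅x, y⁆, center_le_C x y (h.comm x y)⟩ : C x y) ∈ Subgroup.center (C x y) :=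
            Subgroup.mem_center_iff.2 fun g => Subtype.ext (comm_central x y h g.1)
          have hm : (φ ⟨⁅x, y⁆, center_le_C x y (h.comm x y)⟩ : E') ∈ Subgroup.center E' := by
            rw [← center_C x' y' h' hne']
            refine ⟨_, Subgroup.mem_center_iff.2 fun g => ?_, rfl⟩
            obtain ⟨g, rfl⟩ := φ.surjective g
            rw [← map_mul, ← map_mul, Subgroup.mem_center_iff.1 hzc g]
          refine (eq_z h' x' y' hne' hm).resolve_left fun e => hne ?_
          exact congrArg Subtype.val (φ.injective (Subtype.ext (by rw [map_one]; exact e)) : (⟨⁅x, y⁆, _⟩ : C x y) = 1)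
        · simp only [hx, hx']; exact congrArg Subtype.val (map_one _)
        · simp only [hy, hy']; exact congrArg Subtype.val (map_one _)
    · push Not at hinv
      -- only central solutions, so the group is of quaternion type of order eight
      have hm : m = 0 := by
        by_contra hm
        obtain ⟨x, hx, hxc⟩ := exists_invol h (by
          rw [hc]
          have : 2 ^ 5 ≤ 2 ^ (2 * (m + 1) + 1) := Nat.pow_le_pow_right (by norm_num) (by omega)
          omega)
        exact hxc (hinv x hx)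
      subst hm
      have hN2 : N E = 2 := by
        refine Eq.trans (Nat.card_congr (Equiv.subtypeEquivRight fun t => ⟨hinv t, fun ht => ?_⟩)) h.cardZ
        have := pow_card_eq_one' (x := (⟨t, ht⟩ : Subgroup.center E))
        rw [h.cardZ] at this
        exact congrArg Subtype.val this
      refine ⟨Or.inr ⟨le_refl _, by rw [hN2]; norm_num⟩, fun E' _ _ h' hc' hN' => ?_⟩
      have hinv' : ∀ t : E', t ^ 2 = 1 → t ∈ Subgroup.center E' := by
        intro t ht
        by_contra htc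
        obtain ⟨y', hne', hy'⟩ := d8_of_invol h' ht htc
        have hcount' := count_d8 h' t y' hne' ht hy'
        have hcard' := card_eq t y' h' hne'
        have : 0 < N (C t y') := by
          haveI : Nonempty {c : C t y' // c ^ 2 = 1} := ⟨⟨1, one_pow 2⟩⟩
          exact Nat.card_pos
        norm_num [hc] at hc'
        omega
      obtain ⟨x, y, hne⟩ := exists_pair h (by rw [hc]; norm_num)
      obtain ⟨x', y', hne'⟩ := exists_pair h' (by rw [hc', hc]; norm_num)
      have hnc : ∀ {F : Type a} [Group F] (s t : F), ⁅s, t⁆ ≠ 1 → s ∉ Subgroup.center F ∧ t ∉ Subgroup.center F :=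
        fun {F} _ s t hst => ⟨fun hs => hst (commutatorElement_eq_one_iff_mul_comm.2 (Subgroup.mem_center_iff.1 hs t).symm),
          fun ht => hst (commutatorElement_eq_one_iff_mul_comm.2 (Subgroup.mem_center_iff.1 ht s))⟩
      have hx : x ^ 2 = ⁅x, y⁆ := (eq_z h x y hne (h.powc x)).resolve_left (fun e => (hnc x y hne).1 (hinv x e))
      have hy : y ^ 2 = ⁅x, y⁆ := (eq_z h x y hne (h.powc y)).resolve_left (fun e => (hnc x y hne).2 (hinv y e))
      have hx' : x' ^ 2 = ⁅x', y'⁆ := (eq_z h' x' y' hne' (h'.powc x')).resolve_left (fun e => hne'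
        (commutatorElement_eq_one_iff_mul_comm.2 (Subgroup.mem_center_iff.1 (hinv' x' e) y').symm))
      have hy' : y' ^ 2 = ⁅x', y'⁆ := (eq_z h' x' y' hne' (h'.powc y')).resolve_left (fun e => hne'
        (commutatorElement_eq_one_iff_mul_comm.2 (Subgroup.mem_center_iff.1 (hinv' y' e) x')))
      have hc2 : Nat.card (C x y) = 2 := by have := card_eq x y h hne; norm_num [hc] at this; omega
      have hc2' : Nat.card (C x' y') = 2 := by
        have := card_eq x' y' h' hne'; norm_num [hc', hc] at this; omega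
      haveI : IsCyclic (C x y) := isCyclic_of_prime_card hc2
      haveI : IsCyclic (C x' y') := isCyclic_of_prime_card hc2'
      let φ : C x y ≃* C x' y' := mulEquivOfCyclicCardEq (hc2.trans hc2'.symm)
      have hφz : (φ ⟨⁅x, y⁆, center_le_C x y (h.comm x y)⟩ : E') = ⁅x', y'⁆ := by
        have hall : ∀ w : C x' y', (w : E') ∈ Subgroup.center E' := fun w => hinv' _ (by
          have h1 := pow_card_eq_one' (x := w)
          rw [hc2'] at h1
          exact congrArg Subtype.val h1)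
        refine (eq_z h' x' y' hne' (hall _)).resolve_left fun e => hne ?_
        exact congrArg Subtype.val (φ.injective (Subtype.ext (by rw [map_one]; exact e)) : (⟨⁅x, y⁆, _⟩ : C x y) = 1)
      refine glue h h' x y x' y' hne hne' φ hφz ?_ ?_
      · simp only [hx, hx']; exact hφz
      · simp only [hy, hy']; exact hφz

end Cfsg.Lib.Transfer.ExtraspecialClass
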