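import Mathlib

/-!
Polynomial sequences with respect to a filtration, and the resulting Hall-Petrescu congruence
for `p`-th powers of products.
-/

set_option autoImplicit false

open scoped commutatorElement

namespace Cfsg.Lib.Transfer.PolySeq

variable {G : Type*} [Group G] {F : ℕ → Subgroup G}

structure Filt (F : ℕ → Subgroup G) : Prop where
  anti : Antitone F
  comm : ∀ i j, ⁅F i, F j⁆ ≤ F (i + j)

/-- `g` is polynomial of level `k`, checked up to `m` successive differences. -/
def Poly (F : ℕ → Subgroup G) : ℕ → ℕ → (ℕ → G) → Prop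
  | 0, k, g => ∀ n, g n ∈ F k
  | m + 1, k, g => (∀ n, g n ∈ F k) ∧ Poly F m (k + 1) (fun n => g (n + 1) * (g n)⁻¹)

theorem Poly.mem {m k : ℕ} {g : ℕ → G} (h : Poly F m k g) (n : ℕ) : g n ∈ F k := by
  cases m with
  | zero => exact h n
  | succ m => exact h.1 n

theorem Poly.mono (hF : Filt F) : ∀ {m k k' : ℕ} {g : ℕ → G}, Poly F m k g → k' ≤ k → Poly F m k' g := by
  intro m
  induction m with
  | zero => exact fun h hk n => hF.anti hk (h n)
  | succ m ih => exact fun h hk => ⟨fun n => hF.anti hk (h.1 n), ih h.2 (Nat.succ_le_succ hk)⟩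

theorem Poly.down : ∀ {m k : ℕ} {g : ℕ → G}, Poly F (m + 1) k g → Poly F m k g := by
  intro m
  induction m with
  | zero => exact fun h => h.1
  | succ m ih => exact fun h => ⟨h.1, ih h.2⟩

theorem poly_mul_comm (hF : Filt F) : ∀ m : ℕ,
    (∀ k (g h : ℕ → G), Poly F m k g → Poly F m k h → Poly F m k (fun n => g n * h n)) ∧
    (∀ i j (g h : ℕ → G), Poly F m i g → Poly F m j h → Poly F m (i + j) (fun n => ⁅g n, h n⁆)) := by
  intro m
  induction m with
  | zero =>
    exact ⟨fun k g h hg hh n => mul_mem (hg n) (hh n),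
      fun i j g h hg hh n => hF.comm i j (Subgroup.commutator_mem_commutator (hg n) (hh n))⟩
  | succ m ih =>
    obtain ⟨hmul, hcomm⟩ := ih
    constructor
    · intro k g h hg hh
      refine ⟨fun n => mul_mem (hg.1 n) (hh.1 n), ?_⟩
      have h1 := (hcomm k (k + 1) _ _ hg.down hh.2).mono hF (show k + 1 ≤ k + (k + 1) by omega)
      have := hmul _ _ _ (hmul _ _ _ hg.2 h1) hh.2
      refine Eq.mp (congrArg (Poly F m (k + 1)) ?_) this
      funext n
      simp only [commutatorElement_def]; group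
    · intro i j g h hg hh
      refine ⟨fun n => hF.comm i j (Subgroup.commutator_mem_commutator (hg.1 n) (hh.1 n)), ?_⟩
      set u : ℕ → G := fun n => g (n + 1) * (g n)⁻¹ with hu
      set v : ℕ → G := fun n => h (n + 1) * (h n)⁻¹ with hv
      have hU : Poly F m (i + 1) u := hg.2
      have hV : Poly F m (j + 1) v := hh.2
      have hX := hcomm i j _ _ hg.down hh.down
      have hA := (hcomm i (j + 1) _ _ hg.down hV).mono hF (show i + j + 1 ≤ i + (j + 1) by omega)
      have hB := (hcomm (i + 1) (j + 1) _ _ hU hV).mono hF (show i + j + 1 ≤ i + 1 + (j + 1) by omega)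
      have hC := (hcomm (i + 1) j _ _ hU hh.down).mono hF (show i + j + 1 ≤ i + 1 + j by omega)
      have hA2 := hmul _ _ _ hA ((hcomm (j + 1) (i + j) _ _ hV hX).mono hF (show i + j + 1 ≤ j + 1 + (i + j) by omega))
      have hZ := hmul _ _ _ (hmul _ _ _ hB
        ((hcomm (j + 1) (i + j + 1) _ _ hV hC).mono hF (show i + j + 1 ≤ j + 1 + (i + j + 1) by omega))) hC
      have h1 := (hcomm (i + 1) (i + j + 1) _ _ hU hA2).mono hF (show i + j + 1 ≤ i + 1 + (i + j + 1) by omega)
      have h2 := (hcomm (i + 1) (i + j) _ _ hU hX).mono hF (show i + j + 1 ≤ i + 1 + (i + j) by omega)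
      have h3 := (hcomm (i + j) (i + j + 1) _ _ hX hZ).mono hF (show i + j + 1 ≤ i + j + (i + j + 1) by omega)
      have := hmul _ _ _ (hmul _ _ _ (hmul _ _ _ (hmul _ _ _ h1 hA2) h2) h3) hZ
      refine Eq.mp (congrArg (Poly F m (i + j + 1)) ?_) this
      funext n
      simp only [hu, hv, commutatorElement_def]; group

theorem Poly.mul (hF : Filt F) {m k : ℕ} {g h : ℕ → G} (hg : Poly F m k g) (hh : Poly F m k h) :
    Poly F m k (fun n => g n * h n) :=
  (poly_mul_comm hF m).1 k g h hg hh

theorem poly_one : ∀ m k : ℕ, Poly F m k (fun _ => 1) := by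
  intro m
  induction m with
  | zero => exact fun k n => one_mem _
  | succ m ih =>
    intro k
    refine ⟨fun n => one_mem _, ?_⟩
    simpa using ih (k + 1)

theorem poly_pow_choose (hF : Filt F) : ∀ m k i : ℕ, ∀ c ∈ F (k + i), Poly F m k (fun n => c ^ n.choose i) := by
  intro m
  induction m with
  | zero => exact fun k i c hc n => pow_mem (hF.anti (Nat.le_add_right k i) hc) _
  | succ m ih =>
    intro k i c hc
    refine ⟨fun n => pow_mem (hF.anti (Nat.le_add_right k i) hc) _, ?_⟩
    rcases i with _ | i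
    · simpa using poly_one (F := F) m (k + 1)
    · have := ih (k + 1) i c (show c ∈ F (k + 1 + i) by rwa [show k + 1 + i = k + (i + 1) by omega])
      refine Eq.mp (congrArg (Poly F m (k + 1)) ?_) this
      funext n
      show c ^ n.choose i = c ^ (n + 1).choose (i + 1) * (c ^ n.choose (i + 1))⁻¹
      rw [Nat.choose_succ_succ', pow_add, mul_inv_cancel_right]

theorem poly_pow (hF : Filt F) (h0 : F 0 = ⊤) (h1 : F 1 = ⊤) (c : G) (m : ℕ) : Poly F m 0 (fun n => c ^ n) := by
  have := poly_pow_choose hF m 0 1 c (by rw [Nat.zero_add, h1]; exact Subgroup.mem_top c)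
  simpa using this

theorem vanish : ∀ j l : ℕ, ∀ g : ℕ → G, Poly F (j + 1) l g → Antitone F → (∀ i ≤ j, g i = 1) →
    ∀ n, g n ∈ F (l + j + 1) := by
  intro j
  induction j with
  | zero =>
    intro l g hg _ h0 n
    induction n with
    | zero => rw [h0 0 le_rfl]; exact one_mem _
    | succ n ih =>
      have := mul_mem (hg.2.mem n) ih
      simpa using this
  | succ j ihj =>
    intro l g hg ha h0 n
    have hu : ∀ n, g (n + 1) * (g n)⁻¹ ∈ F (l + (j + 1) + 1) := by
      intro n
      have := ihj (l + 1) _ hg.2 ha (fun i hi => by rw [h0 _ (by omega), h0 _ (by omega)]; simp) n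
      rwa [show l + 1 + j + 1 = l + (j + 1) + 1 by omega] at this
    induction n with
    | zero => rw [h0 0 (Nat.zero_le _)]; exact one_mem _
    | succ n ih =>
      have := mul_mem (hu n) ih
      simpa using this

/-- A polynomial sequence vanishing at `0` and `1` takes its value at `p` in any subgroup containing
the `p`-th powers of `F 2`, provided `F p` is trivial. -/
theorem value_at_prime (hF : Filt F) {p : ℕ} (hp : p.Prime) (hbot : F p = ⊥) (N : Subgroup G)
    (hN : ∀ c ∈ F 2, c ^ p ∈ N) : ∀ d k, k + d = p → 2 ≤ k → ∀ g : ℕ → G, (∀ m, Poly F m 0 g) →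
    (∀ i < k, g i = 1) → g p ∈ N := by
  intro d
  induction d with
  | zero =>
    intro k hk h2 g hg hv
    have := vanish (k - 1) 0 g (hg _) hF.anti (fun i hi => hv i (by omega)) p
    rw [show 0 + (k - 1) + 1 = p by omega, hbot, Subgroup.mem_bot] at this
    rw [this]; exact one_mem _
  | succ d ih =>
    intro k hk h2 g hg hv
    have hval := vanish (k - 1) 0 g (hg _) hF.anti (fun i hi => hv i (by omega))
    rw [show 0 + (k - 1) + 1 = k by omega] at hval
    have hc : (g k)⁻¹ ∈ F (0 + k) := by rw [Nat.zero_add]; exact inv_mem (hval k)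
    have hh : ∀ i < k + 1, ((g k)⁻¹) ^ i.choose k * g i = 1 := by
      intro i hi
      rcases Nat.lt_or_eq_of_le (Nat.le_of_lt_succ hi) with h | h
      · rw [Nat.choose_eq_zero_of_lt h, hv i h, pow_zero, one_mul]
      · rw [h, Nat.choose_self, pow_one, inv_mul_cancel]
    have := ih (k + 1) (by omega) (by omega) _ (fun m => (poly_pow_choose hF m 0 k _ hc).mul hF (hg m)) hh
    obtain ⟨t, ht⟩ := hp.dvd_choose_self (show k ≠ 0 by omega) (show k < p by omega)
    have hcN : (g k)⁻¹ ^ p.choose k ∈ N := by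
      rw [ht, pow_mul]
      exact pow_mem (hN _ (hF.anti h2 (inv_mem (hval k)))) t
    simpa using mul_mem (inv_mem hcN) this

/-- Hall-Petrescu congruence. -/
theorem mul_pow_prime (hF : Filt F) (h0 : F 0 = ⊤) (h1 : F 1 = ⊤) {p : ℕ} (hp : p.Prime) (hbot : F p = ⊥)
    (N : Subgroup G) (hN : ∀ c ∈ F 2, c ^ p ∈ N) (a b : G) : ∃ c ∈ N, (a * b) ^ p = a ^ p * b ^ p * c := by
  refine ⟨(b ^ p)⁻¹ * (a ^ p)⁻¹ * (a * b) ^ p, ?_, by group⟩
  have := value_at_prime hF hp hbot N hN (p - 2) 2 (by have := hp.two_le; omega) le_rfl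
    (fun n => b⁻¹ ^ n * a⁻¹ ^ n * (a * b) ^ n)
    (fun m => ((poly_pow hF h0 h1 b⁻¹ m).mul hF (poly_pow hF h0 h1 a⁻¹ m)).mul hF (poly_pow hF h0 h1 (a * b) m))
    (fun i hi => by interval_cases i <;> simp [mul_assoc])
  simpa only [inv_pow] using this

/-- The standard filtration by the lower central series, shifted to be indexed from one. -/
def gamma (G : Type*) [Group G] (i : ℕ) : Subgroup G := (⊤ : Subgroup G).lowerCentralSeries (i - 1)

theorem three_le (A B C N : Subgroup G) [N.Normal] (h1 : ⁅⁅B, C⁆, A⁆ ≤ N) (h2 : ⁅⁅C, A⁆, B⁆ ≤ N) :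
    ⁅⁅A, B⁆, C⁆ ≤ N := by
  have key : ∀ H : Subgroup G, H ≤ N ↔ H.map (QuotientGroup.mk' N) = ⊥ := fun H => by
    rw [Subgroup.map_eq_bot_iff, QuotientGroup.ker_mk']
  rw [key, Subgroup.map_commutator, Subgroup.map_commutator] at h1 h2 ⊢
  exact Subgroup.commutator_commutator_eq_bot_of_rotate h1 h2

theorem commutator_lcs_le : ∀ j i : ℕ,
    ⁅(⊤ : Subgroup G).lowerCentralSeries i, (⊤ : Subgroup G).lowerCentralSeries j⁆ ≤
      (⊤ : Subgroup G).lowerCentralSeries (i + j + 1) := by
  intro j
  induction j with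
  | zero => intro i; exact le_rfl
  | succ j ih =>
    intro i
    rw [Subgroup.lowerCentralSeries_succ (⊤ : Subgroup G) j, Subgroup.commutator_comm]
    refine three_le _ _ _ _ ?_ ?_
    · rw [Subgroup.commutator_comm ⊤, ← Subgroup.lowerCentralSeries_succ]
      exact (ih (i + 1)).trans (by rw [show i + 1 + j + 1 = i + (j + 1) + 1 by omega])
    · exact (Subgroup.commutator_mono (ih i) le_rfl).trans (le_of_eq rfl)

theorem filt_gamma : Filt (gamma G) := by
  haveI : ∀ i, (gamma G i).Normal := fun i => by unfold gamma; infer_instance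
  refine ⟨fun i j h => Subgroup.lowerCentralSeries_antitone _ (Nat.sub_le_sub_right h 1), fun i j => ?_⟩
  rcases i with _ | i
  · rw [Nat.zero_add]; exact Subgroup.commutator_le_right _ _
  rcases j with _ | j
  · exact Subgroup.commutator_le_left _ _
  refine (commutator_lcs_le (G := G) _ _).trans (le_of_eq ?_)
  show (⊤ : Subgroup G).lowerCentralSeries (i + 1 - 1 + (j + 1 - 1) + 1) = (⊤ : Subgroup G).lowerCentralSeries (i + 1 + (j + 1) - 1)
  congr 1
  omega

end Cfsg.Lib.Transfer.PolySeq
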