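import Mathlib
import Cfsg.Prelude.Def_PLocal
import Cfsg.Agent.Lib.Transfer.PGroupFrattini

/-!
Regular `p`-groups: Kemhadze's criterion, power structure, commuting powers.
-/

set_option autoImplicit false

open scoped commutatorElement
open Subgroup

namespace Cfsg.Lib.Transfer.Regular

/-- The defining condition of regularity for exponent one. -/
def Reg (p : ℕ) (G : Type*) [Group G] : Prop :=
  ∀ a b : G, ∃ c ∈ Cfsg.powerClosure p 1 ⁅closure ({a, b} : Set G), closure ({a, b} : Set G)⁆,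
    (a * b) ^ p = a ^ p * b ^ p * c

theorem map_powerClosure {G K : Type*} [Group G] [Group K] (p n : ℕ) (H : Subgroup G) (f : G →* K) :
    (Cfsg.powerClosure p n H).map f = Cfsg.powerClosure p n (H.map f) := by
  rw [Cfsg.powerClosure, MonoidHom.map_closure, Cfsg.powerClosure]
  congr 1
  ext y
  constructor
  · rintro ⟨_, ⟨x, hx, rfl⟩, rfl⟩
    exact ⟨f x, mem_map_of_mem f hx, map_pow f x _⟩
  · rintro ⟨_, ⟨x, hx, rfl⟩, rfl⟩
    exact ⟨x ^ p ^ n, ⟨x, hx, rfl⟩, map_pow f x _⟩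

theorem powerClosure_mono {G : Type*} [Group G] (p n : ℕ) {H K : Subgroup G} (h : H ≤ K) :
    Cfsg.powerClosure p n H ≤ Cfsg.powerClosure p n K :=
  closure_mono fun _ ⟨x, hx, e⟩ => ⟨x, h hx, e⟩

theorem powerClosure_le {G : Type*} [Group G] (p n : ℕ) (H : Subgroup G) : Cfsg.powerClosure p n H ≤ H :=
  (closure_le _).2 fun _ ⟨x, hx, e⟩ => e ▸ pow_mem hx _

theorem map_derivedPair {G K : Type*} [Group G] [Group K] (f : G →* K) (a b : G) :
    (⁅closure ({a, b} : Set G), closure ({a, b} : Set G)⁆).map f =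
      ⁅closure ({f a, f b} : Set K), closure ({f a, f b} : Set K)⁆ := by
  rw [map_commutator, MonoidHom.map_closure, Set.image_insert_eq, Set.image_singleton]

theorem reg_of_surjective {G K : Type*} [Group G] [Group K] {p : ℕ} (h : Reg p G) (f : G →* K)
    (hf : Function.Surjective f) : Reg p K := by
  intro a b
  obtain ⟨a, rfl⟩ := hf a
  obtain ⟨b, rfl⟩ := hf b
  obtain ⟨c, hc, he⟩ := h a b
  refine ⟨f c, ?_, by rw [← map_mul, ← map_pow, he]; simp only [map_mul, map_pow]⟩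
  rw [← map_derivedPair, ← map_powerClosure]
  exact mem_map_of_mem f hc

theorem reg_subgroup {G : Type*} [Group G] {p : ℕ} (h : Reg p G) (H : Subgroup G) : Reg p H := by
  intro a b
  obtain ⟨c, hc, he⟩ := h (a : G) (b : G)
  have hm : c ∈ (Cfsg.powerClosure p 1 ⁅closure ({a, b} : Set H), closure ({a, b} : Set H)⁆).map H.subtype := by
    rw [map_powerClosure, map_derivedPair]; exact hc
  obtain ⟨d, hd, rfl⟩ := hm
  exact ⟨d, hd, Subtype.ext (by simpa using he)⟩

/-- In a subgroup generated by two elements whose commutator lies in a normalized subgroup, all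
commutators do. -/
theorem commutator_closure_pair_le {G : Type*} [Group G] {a b : G} {S : Subgroup G}
    (hn : ∀ h ∈ closure ({a, b} : Set G), ∀ s ∈ S, h * s * h⁻¹ ∈ S) (hab : ⁅a, b⁆ ∈ S) :
    ⁅closure ({a, b} : Set G), closure ({a, b} : Set G)⁆ ≤ S := by
  set L := closure ({a, b} : Set G) with hL
  have step : ∀ x ∈ L, ⁅x, a⁆ ∈ S → ⁅x, b⁆ ∈ S → ∀ y ∈ L, ⁅x, y⁆ ∈ S := by
    intro x hx h1 h2 y hy
    induction hy using closure_induction with
    | mem z hz =>
      rcases hz with rfl | rfl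
      · exact h1
      · exact h2
    | one => rw [commutatorElement_one_right]; exact one_mem _
    | mul u v hu _ i1 i2 =>
      rw [show ⁅x, u * v⁆ = ⁅x, u⁆ * (u * ⁅x, v⁆ * u⁻¹) by simp only [commutatorElement_def]; group]
      exact mul_mem i1 (hn u hu _ i2)
    | inv u hu i1 =>
      rw [show ⁅x, u⁻¹⁆ = u⁻¹ * ⁅x, u⁆⁻¹ * u⁻¹⁻¹ by simp only [commutatorElement_def]; group]
      exact hn _ (inv_mem hu) _ (inv_mem i1)
  have ha : a ∈ L := subset_closure (Set.mem_insert a _)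
  have hb : b ∈ L := subset_closure (Set.mem_insert_of_mem a rfl)
  have hA := step a ha (by rw [commutatorElement_self]; exact one_mem _) hab
  have hB := step b hb (by rw [← commutatorElement_inv a b]; exact inv_mem hab)
    (by rw [commutatorElement_self]; exact one_mem _)
  refine commutator_le.2 fun x hx y hy => step x hx ?_ ?_ y hy
  · rw [← commutatorElement_inv a x]; exact inv_mem (hA x hx)
  · rw [← commutatorElement_inv b x]; exact inv_mem (hB x hx)

theorem zpowers_sup_derived_lt {G : Type*} [Group G] [Finite G] {p : ℕ} [Fact p.Prime] (hG : IsPGroup p G)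
    {H : Subgroup G} (hH : ⁅H, H⁆ ≠ ⊥) {x : G} (hx : x ∈ H) : zpowers x ⊔ ⁅H, H⁆ < H := by
  refine lt_of_le_of_ne (sup_le (zpowers_le.2 hx) (commutator_le_self _)) fun he => hH ?_
  have h1 : zpowers (⟨x, hx⟩ : H) ⊔ commutator H = ⊤ := by
    apply map_injective H.subtype_injective
    rw [Subgroup.map_sup, MonoidHom.map_zpowers, map_subtype_commutator, ← MonoidHom.range_eq_map, range_subtype]
    exact he
  have h2 : zpowers (⟨x, hx⟩ : H) = ⊤ := frattini_nongenerating (eq_top_iff.2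
    (h1.ge.trans (sup_le_sup le_rfl (Cfsg.Lib.Transfer.commutator_le_frattini (hG.to_subgroup H)))))
  rw [eq_bot_iff]
  refine commutator_le.2 fun u hu v hv => ?_
  have hu' : (⟨u, hu⟩ : H) ∈ zpowers (⟨x, hx⟩ : H) := h2 ▸ mem_top _
  have hv' : (⟨v, hv⟩ : H) ∈ zpowers (⟨x, hx⟩ : H) := h2 ▸ mem_top _
  obtain ⟨i, hi⟩ := mem_zpowers_iff.1 hu'
  obtain ⟨j, hj⟩ := mem_zpowers_iff.1 hv'
  have : Commute (⟨u, hu⟩ : H) ⟨v, hv⟩ := by rw [← hi, ← hj]; exact Commute.zpow_zpow_self _ i j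
  rw [mem_bot, commutatorElement_eq_one_iff_mul_comm]
  exact congrArg Subtype.val this.eq

theorem single_of_mul {G : Type*} [Group G] {p : ℕ} (K : Subgroup G)
    (h : ∀ x ∈ K, ∀ y ∈ K, ∃ z ∈ K, x ^ p * y ^ p = z ^ p) {c : G} (hc : c ∈ Cfsg.powerClosure p 1 K) :
    ∃ z ∈ K, c = z ^ p := by
  induction hc using closure_induction with
  | mem y hy => obtain ⟨x, hx, rfl⟩ := hy; exact ⟨x, hx, by rw [pow_one]⟩
  | one => exact ⟨1, one_mem _, (one_pow _).symm⟩
  | mul u v _ _ i1 i2 =>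
    obtain ⟨x, hx, rfl⟩ := i1
    obtain ⟨y, hy, rfl⟩ := i2
    exact h x hx y hy
  | inv u _ i1 =>
    obtain ⟨x, hx, rfl⟩ := i1
    exact ⟨x⁻¹, inv_mem hx, (inv_pow x p).symm⟩

variable {G : Type*} [Group G] [Finite G] {p : ℕ} [Fact p.Prime]

omit [Finite G] [Fact p.Prime] in
theorem derivedPair_le {H : Subgroup G} {a b : G} (ha : a ∈ H) (hb : b ∈ H) :
    ⁅closure ({a, b} : Set G), closure ({a, b} : Set G)⁆ ≤ ⁅H, H⁆ := by
  have : closure ({a, b} : Set G) ≤ H := (closure_le H).2 (Set.insert_subset ha (Set.singleton_subset_iff.2 hb))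
  exact commutator_mono this this

theorem pow_mul_pow (hG : IsPGroup p G) (hR : Reg p G) (H : Subgroup G) :
    ∀ x ∈ H, ∀ y ∈ H, ∃ z ∈ H, x ^ p * y ^ p = z ^ p := by
  induction H using WellFoundedLT.induction with
  | _ H ih =>
    intro x hx y hy
    by_cases hab : ⁅H, H⁆ = ⊥
    · refine ⟨x * y, mul_mem hx hy, ((?_ : Commute x y).mul_pow p).symm⟩
      exact commutatorElement_eq_one_iff_mul_comm.1 (mem_bot.1 (hab ▸ commutator_mem_commutator hx hy))
    have hlt : ⁅H, H⁆ < H := lt_of_le_of_lt le_sup_right (zpowers_sup_derived_lt hG hab hx)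
    obtain ⟨c, hc, he⟩ := hR x y
    obtain ⟨d, hd, rfl⟩ := single_of_mul _ (ih _ hlt) (powerClosure_mono p 1 (derivedPair_le hx hy) hc)
    obtain ⟨z, hz, hzz⟩ := ih _ (zpowers_sup_derived_lt hG hab (mul_mem hx hy)) (x * y)
      (mem_sup_left (mem_zpowers _)) d⁻¹ (mem_sup_right (inv_mem hd))
    refine ⟨z, (sup_le (zpowers_le.2 (mul_mem hx hy)) (commutator_le_self _)) hz, ?_⟩
    rw [← hzz, he, inv_pow]; group

theorem single (hG : IsPGroup p G) (hR : Reg p G) (K : Subgroup G) {c : G}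
    (hc : c ∈ Cfsg.powerClosure p 1 K) : ∃ z ∈ K, c = z ^ p :=
  single_of_mul K (pow_mul_pow hG hR K) hc

theorem inv_mul_pow_eq_one_aux (hG : IsPGroup p G) (hR : Reg p G) (H : Subgroup G) :
    ∀ a ∈ H, ∀ b ∈ H, a ^ p = b ^ p → (a⁻¹ * b) ^ p = 1 := by
  induction H using WellFoundedLT.induction with
  | _ H ih =>
    intro a ha b hb he
    set L := closure ({a, b} : Set G) with hLdef
    have hLH : L ≤ H := (closure_le H).2 (Set.insert_subset ha (Set.singleton_subset_iff.2 hb))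
    have haL : a ∈ L := subset_closure (Set.mem_insert a _)
    have hbL : b ∈ L := subset_closure (Set.mem_insert_of_mem a rfl)
    by_cases hab : ⁅L, L⁆ = ⊥
    · have hc : Commute a b :=
        commutatorElement_eq_one_iff_mul_comm.1 (mem_bot.1 (hab ▸ commutator_mem_commutator haL hbL))
      rw [hc.inv_left.mul_pow, inv_pow, he, inv_mul_cancel]
    have hlt : ∀ z ∈ L, zpowers z ⊔ ⁅L, L⁆ < H := fun z hz => (zpowers_sup_derived_lt hG hab hz).trans_le hLH
    have hDlt : ⁅L, L⁆ < H := lt_of_le_of_lt le_sup_right (hlt a haL)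
    let E : Subgroup G :=
      { carrier := {x | x ∈ ⁅L, L⁆ ∧ x ^ p = 1}
        one_mem' := ⟨one_mem _, one_pow _⟩
        inv_mem' := fun ⟨h1, h2⟩ => ⟨inv_mem h1, by rw [inv_pow, h2, inv_one]⟩
        mul_mem' := fun {x y} hx hy => ⟨mul_mem hx.1 hy.1, by
          have := ih _ hDlt x⁻¹ (inv_mem hx.1) y hy.1 (by rw [inv_pow, hx.2, hy.2, inv_one])
          rwa [inv_inv] at this⟩ }
    have hEn : ∀ h ∈ L, ∀ s ∈ E, h * s * h⁻¹ ∈ E := by
      intro h hh s hs
      refine ⟨?_, by rw [conj_pow, hs.2, mul_one, mul_inv_cancel]⟩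
      rw [show h * s * h⁻¹ = ⁅h, s⁆ * s by simp only [commutatorElement_def]; group]
      exact mul_mem (commutator_mem_commutator hh ((commutator_le_self L) hs.1)) hs.1
    have hq : (b⁻¹ * (a⁻¹ * b * a)) ^ p = 1 := by
      refine ih _ (hlt b hbL) b (mem_sup_left (mem_zpowers _)) (a⁻¹ * b * a) ?_ ?_
      · have : a⁻¹ * b * a = ⁅a⁻¹, b⁆ * b := by simp only [commutatorElement_def]; group
        rw [this]
        exact mul_mem (mem_sup_right (commutator_mem_commutator (inv_mem haL) hbL)) (mem_sup_left (mem_zpowers _))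
      · rw [show (a⁻¹ * b * a) ^ p = a⁻¹ * b ^ p * a⁻¹⁻¹ by rw [← conj_pow, inv_inv], ← he]
        group
    have habE : ⁅a, b⁆ ∈ E := by
      refine ⟨commutator_mem_commutator haL hbL, ?_⟩
      rw [show ⁅a, b⁆ = (b * a) * (b⁻¹ * (a⁻¹ * b * a))⁻¹ * (b * a)⁻¹ by simp only [commutatorElement_def]; group,
        conj_pow, inv_pow, hq, inv_one, mul_one, mul_inv_cancel]
    have hD : ⁅L, L⁆ ≤ E := commutator_closure_pair_le hEn habE
    obtain ⟨c, hc, hce⟩ := hR a⁻¹ b
    have hc1 : c = 1 := by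
      have hc' := powerClosure_mono p 1 (derivedPair_le (inv_mem haL) hbL) hc
      refine mem_bot.1 (((closure_le _).2 ?_ : Cfsg.powerClosure p 1 ⁅L, L⁆ ≤ ⊥) hc')
      rintro _ ⟨w, hw, rfl⟩
      rw [pow_one]; exact mem_bot.2 (hD hw).2
    rw [hce, hc1, inv_pow, he, inv_mul_cancel, one_mul]

theorem inv_mul_pow_eq_one (hG : IsPGroup p G) (hR : Reg p G) {a b : G} (he : a ^ p = b ^ p) :
    (a⁻¹ * b) ^ p = 1 :=
  inv_mul_pow_eq_one_aux hG hR ⊤ a (mem_top a) b (mem_top b) he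

/-- The elements of order dividing `p`. -/
def omega (hG : IsPGroup p G) (hR : Reg p G) : Subgroup G where
  carrier := {x | x ^ p = 1}
  one_mem' := one_pow _
  inv_mem' := fun {x} (h : x ^ p = 1) => by show x⁻¹ ^ p = 1; rw [inv_pow, h, inv_one]
  mul_mem' := fun {x y} (hx : x ^ p = 1) (hy : y ^ p = 1) => by
    have := inv_mul_pow_eq_one hG hR (show x⁻¹ ^ p = y ^ p by rw [inv_pow, hx, hy, inv_one])
    rwa [inv_inv] at this

theorem omega_normal (hG : IsPGroup p G) (hR : Reg p G) : (omega hG hR).Normal :=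
  ⟨fun x (hx : x ^ p = 1) g => by show (g * x * g⁻¹) ^ p = 1; rw [conj_pow, hx, mul_one, mul_inv_cancel]⟩

theorem pow_eq_iff_one (hG : IsPGroup p G) (hR : Reg p G) (a b : G) :
    a ^ p = b ^ p ↔ (a⁻¹ * b) ^ p = 1 := by
  refine ⟨inv_mul_pow_eq_one hG hR, fun h => ?_⟩
  obtain ⟨c, hc, hce⟩ := hR a (a⁻¹ * b)
  have hn := omega_normal hG hR
  have hD : ⁅closure ({a, a⁻¹ * b} : Set G), closure ({a, a⁻¹ * b} : Set G)⁆ ≤ omega hG hR := by
    refine commutator_closure_pair_le (fun g _ s hs => hn.conj_mem s hs g) ?_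
    rw [show ⁅a, a⁻¹ * b⁆ = (a * (a⁻¹ * b) * a⁻¹) * (a⁻¹ * b)⁻¹ by simp only [commutatorElement_def]]
    exact mul_mem (hn.conj_mem _ h a) (inv_mem (show a⁻¹ * b ∈ omega hG hR from h))
  have hc1 : c = 1 := by
    refine mem_bot.1 (((closure_le _).2 ?_ : Cfsg.powerClosure p 1 _ ≤ ⊥) (powerClosure_mono p 1 hD hc))
    rintro _ ⟨w, hw, rfl⟩
    rw [pow_one]; exact mem_bot.2 (show w ^ p = 1 from hw)
  rw [mul_inv_cancel_left, h, hc1, mul_one, mul_one] at hce
  exact hce.symm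

universe u

theorem pow_eq_iff {p : ℕ} [Fact p.Prime] : ∀ (k : ℕ) {G : Type u} [Group G] [Finite G],
    IsPGroup p G → Reg p G → ∀ a b : G, (a ^ p ^ k = b ^ p ^ k ↔ (a⁻¹ * b) ^ p ^ k = 1) := by
  intro k
  induction k with
  | zero => intro G _ _ _ _ a b; simp only [pow_zero, pow_one]; exact inv_mul_eq_one.symm
  | succ k ih =>
    intro G _ _ hG hR a b
    haveI := omega_normal hG hR
    have := ih (hG.to_quotient (omega hG hR)) (reg_of_surjective hR _ (QuotientGroup.mk'_surjective _))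
      (a : G ⧸ omega hG hR) (b : G ⧸ omega hG hR)
    rw [← QuotientGroup.mk_pow, ← QuotientGroup.mk_pow, ← QuotientGroup.mk_inv, ← QuotientGroup.mk_mul,
      ← QuotientGroup.mk_pow, QuotientGroup.eq_one_iff, QuotientGroup.eq] at this
    simp only [pow_succ, pow_mul]
    rw [pow_eq_iff_one hG hR]
    exact this

theorem comm_iff (hG : IsPGroup p G) (hR : Reg p G) (a b : G) (k : ℕ) :
    a ^ p ^ k * b = b * a ^ p ^ k ↔ (a⁻¹ * b⁻¹ * a * b) ^ p ^ k = 1 := by
  have h := pow_eq_iff k hG hR a (b⁻¹ * a * b)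
  rw [show a⁻¹ * (b⁻¹ * a * b) = a⁻¹ * b⁻¹ * a * b by group,
    show (b⁻¹ * a * b) ^ p ^ k = b⁻¹ * a ^ p ^ k * b by
      conv_lhs => rw [show b⁻¹ * a * b = b⁻¹ * a * b⁻¹⁻¹ by rw [inv_inv]]
      rw [conj_pow, inv_inv]] at h
  rw [← h, eq_comm (a := a ^ p ^ k) (b := b⁻¹ * a ^ p ^ k * b), mul_assoc, inv_mul_eq_iff_eq_mul]

theorem pow_mem_center (hG : IsPGroup p G) (hR : Reg p G) (k : ℕ)
    (he : ∀ x ∈ commutator G, x ^ p ^ k = 1) (a : G) : a ^ p ^ k ∈ center G := by
  rw [mem_center_iff]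
  intro b
  refine ((comm_iff hG hR a b k).2 (he _ ?_)).symm
  rw [show a⁻¹ * b⁻¹ * a * b = ⁅a⁻¹, b⁻¹⁆ by simp only [commutatorElement_def, inv_inv]]
  exact commutator_mem_commutator (mem_top _) (mem_top _)

theorem mul_pow_of_exponent {p : ℕ} [Fact p.Prime] : ∀ (n : ℕ) {G : Type u} [Group G] [Finite G],
    IsPGroup p G → Reg p G → (∀ x ∈ commutator G, x ^ p ^ n = 1) →
      ∀ a b : G, (a * b) ^ p ^ n = a ^ p ^ n * b ^ p ^ n := by
  intro n
  induction n with
  | zero => intro G _ _ _ _ _ a b; simp only [pow_zero, pow_one]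
  | succ n ih =>
    intro G _ _ hG hR he a b
    haveI := omega_normal hG hR
    set q := QuotientGroup.mk' (omega hG hR)
    have hRq : Reg p (G ⧸ omega hG hR) := reg_of_surjective hR q (QuotientGroup.mk'_surjective _)
    have hq : ∀ x ∈ commutator (G ⧸ omega hG hR), x ^ p ^ n = 1 := by
      intro x hx
      rw [show commutator (G ⧸ omega hG hR) = (commutator G).map q by
        show ⁅(⊤ : Subgroup (G ⧸ omega hG hR)), (⊤ : Subgroup (G ⧸ omega hG hR))⁆ = Subgroup.map q ⁅(⊤ : Subgroup G), (⊤ : Subgroup G)⁆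
        rw [map_commutator, map_top_of_surjective q (QuotientGroup.mk'_surjective _)]] at hx
      obtain ⟨y, hy, rfl⟩ := hx
      rw [← map_pow]
      refine (QuotientGroup.eq_one_iff _).2 ?_
      show (y ^ p ^ n) ^ p = 1
      rw [← pow_mul, ← pow_succ]; exact he y hy
    have h1 := ih (hG.to_quotient _) hRq hq (q a) (q b)
    have h2 := mem_center_iff.1 (pow_mem_center (hG.to_quotient _) hRq n hq (q a)) (q (b ^ p ^ n))
    rw [← map_mul, ← map_pow, ← map_pow, ← map_pow, ← map_mul] at h1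
    rw [← map_pow, ← map_mul, ← map_mul] at h2
    have h3 : (((a * b) ^ p ^ n)⁻¹ * (a ^ p ^ n * b ^ p ^ n)) ^ p = 1 := QuotientGroup.eq.1 h1
    have h4 : ⁅a ^ p ^ n, b ^ p ^ n⁆ ∈ omega hG hR := by
      rw [← QuotientGroup.eq_one_iff (N := omega hG hR)]
      show q _ = 1
      rw [map_commutatorElement, commutatorElement_eq_one_iff_mul_comm, ← map_mul, ← map_mul, h2]
    obtain ⟨c, hc, hce⟩ := hR (a ^ p ^ n) (b ^ p ^ n)
    have hD := commutator_closure_pair_le (a := a ^ p ^ n) (b := b ^ p ^ n)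
      (fun g _ s hs => (omega_normal hG hR).conj_mem s hs g) h4
    have hc1 : c = 1 := by
      refine mem_bot.1 (((closure_le _).2 ?_ : Cfsg.powerClosure p 1 _ ≤ ⊥) (powerClosure_mono p 1 hD hc))
      rintro _ ⟨w, hw, rfl⟩
      rw [pow_one]; exact mem_bot.2 (show w ^ p = 1 from hw)
    simp only [pow_succ, pow_mul]
    rw [(pow_eq_iff_one hG hR _ _).2 h3, hce, hc1, mul_one]

omit [Finite G] [Fact p.Prime] in
theorem powerClosure_normal (n : ℕ) (H : Subgroup G) [H.Normal] : (Cfsg.powerClosure p n H).Normal := by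
  refine ⟨fun x hx g => ?_⟩
  have h : (Cfsg.powerClosure p n H).map (MulAut.conj g).toMonoidHom ≤ Cfsg.powerClosure p n H := by
    rw [map_powerClosure]
    refine powerClosure_mono p n ?_
    rintro _ ⟨y, hy, rfl⟩
    exact Normal.conj_mem ‹H.Normal› y hy g
  exact h ⟨x, hx, rfl⟩

/-- In the group `G`, calculations modulo `p^n`-th powers of the derived subgroup. -/
theorem exponent_quotient (n : ℕ) (N : Subgroup G) [N.Normal]
    (hN : Cfsg.powerClosure p n (commutator G) ≤ N) : ∀ x ∈ commutator (G ⧸ N), x ^ p ^ n = 1 := by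
  intro x hx
  rw [show commutator (G ⧸ N) = (commutator G).map (QuotientGroup.mk' N) by
    show ⁅(⊤ : Subgroup (G ⧸ N)), (⊤ : Subgroup (G ⧸ N))⁆ = Subgroup.map (QuotientGroup.mk' N) ⁅(⊤ : Subgroup G), (⊤ : Subgroup G)⁆
    rw [map_commutator, map_top_of_surjective _ (QuotientGroup.mk'_surjective _)]] at hx
  obtain ⟨y, hy, rfl⟩ := hx
  rw [← map_pow]
  exact (QuotientGroup.eq_one_iff _).2 (hN (subset_closure ⟨y, hy, rfl⟩))

theorem isRegular (hG : IsPGroup p G) (hR : Reg p G) : Cfsg.IsRegularPGroup p G := by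
  refine ⟨hG, fun a b n => ?_⟩
  set L := closure ({a, b} : Set G) with hL
  haveI := powerClosure_normal (p := p) n (commutator L)
  have ha : a ∈ L := subset_closure (Set.mem_insert a _)
  have hb : b ∈ L := subset_closure (Set.mem_insert_of_mem a rfl)
  set N := Cfsg.powerClosure p n (commutator L)
  have h := mul_pow_of_exponent n ((hG.to_subgroup L).to_quotient N)
    (reg_of_surjective (reg_subgroup hR L) _ (QuotientGroup.mk'_surjective N))
    (exponent_quotient n N le_rfl) (QuotientGroup.mk' N ⟨a, ha⟩) (QuotientGroup.mk' N ⟨b, hb⟩)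
  simp only [← map_mul, ← map_pow] at h
  have h' : ((⟨a, ha⟩ * ⟨b, hb⟩ : L) ^ p ^ n)⁻¹ * ((⟨a, ha⟩ : L) ^ p ^ n * (⟨b, hb⟩ : L) ^ p ^ n) ∈ N :=
    QuotientGroup.eq.1 h
  refine ⟨((a ^ p ^ n * b ^ p ^ n)⁻¹ * (a * b) ^ p ^ n), ?_, by group⟩
  have hm := mem_map_of_mem L.subtype (inv_mem h')
  rw [map_powerClosure, map_subtype_commutator] at hm
  simpa using hm

theorem reg_of_isRegular (h : Cfsg.IsRegularPGroup p G) : Reg p G := fun a b => by
  obtain ⟨c, hc, he⟩ := h.2 a b 1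
  exact ⟨c, hc, by simpa using he⟩

theorem mem_powerClosure_single (hG : IsPGroup p G) (hR : Reg p G) : ∀ (n : ℕ) (H : Subgroup G) {y : G},
    y ∈ Cfsg.powerClosure p n H → ∃ x ∈ H, y = x ^ p ^ n := by
  intro n
  induction n with
  | zero => intro H y hy; exact ⟨y, powerClosure_le p 0 H hy, by rw [pow_zero, pow_one]⟩
  | succ n ih =>
    intro H y hy
    have hle : Cfsg.powerClosure p (n + 1) H ≤ Cfsg.powerClosure p 1 (Cfsg.powerClosure p n H) := by
      refine (closure_le _).2 ?_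
      rintro _ ⟨x, hx, rfl⟩
      exact subset_closure ⟨x ^ p ^ n, subset_closure ⟨x, hx, rfl⟩, by rw [pow_one, ← pow_mul, pow_succ]⟩
    obtain ⟨z, hz, rfl⟩ := single hG hR _ (hle hy)
    obtain ⟨x, hx, rfl⟩ := ih H hz
    exact ⟨x, hx, by rw [← pow_mul, pow_succ]⟩

theorem commutator_powerClosure_le (hG : IsPGroup p G) (hR : Reg p G) (H : Subgroup G) (n : ℕ) :
    ⁅Cfsg.powerClosure p n H, Cfsg.powerClosure p n H⁆ ≤ Cfsg.powerClosure p n ⁅H, H⁆ := by
  refine commutator_le.2 fun u hu v hv => ?_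
  obtain ⟨x, hx, rfl⟩ := mem_powerClosure_single hG hR n H hu
  haveI := powerClosure_normal (p := p) n (commutator H)
  set N := Cfsg.powerClosure p n (commutator H)
  have hc := mem_center_iff.1 (pow_mem_center ((hG.to_subgroup H).to_quotient N)
    (reg_of_surjective (reg_subgroup hR H) _ (QuotientGroup.mk'_surjective N)) n
    (exponent_quotient n N le_rfl) (QuotientGroup.mk' N ⟨x, hx⟩))
    (QuotientGroup.mk' N ⟨v, powerClosure_le p n H hv⟩)
  have h1 : ⁅(⟨x, hx⟩ : H) ^ p ^ n, (⟨v, powerClosure_le p n H hv⟩ : H)⁆ ∈ N := by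
    rw [← QuotientGroup.eq_one_iff (N := N)]
    show QuotientGroup.mk' N _ = 1
    rw [map_commutatorElement, commutatorElement_eq_one_iff_mul_comm, map_pow]
    exact hc.symm
  have hm := mem_map_of_mem H.subtype h1
  rw [map_powerClosure, map_subtype_commutator] at hm
  simpa using hm

end Cfsg.Lib.Transfer.Regular
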