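import Mathlib
import Cfsg.Prelude.Def_PLocal
import Cfsg.Prelude.Def_OddOrderLocal
import Cfsg.Agent.Lib.Transfer.Regular
import Cfsg.Agent.Lib.Transfer.PolySeq

/-!
Groups in which the elements of order `p` generate a subgroup of order at most `p²` (`p > 3`):
regularity, inheritance by quotients, metacyclicity.
-/

set_option autoImplicit false

open scoped commutatorElement
open Subgroup

namespace Cfsg.Lib.Transfer.RegularOmega

open Regular

variable {G : Type*} [Group G] [Finite G] {p : ℕ} [Fact p.Prime]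

theorem index_powerClosure (hG : IsPGroup p G) (hR : Reg p G) :
    (Cfsg.powerClosure p 1 (⊤ : Subgroup G)).index = Nat.card (omega hG hR) := by
  set W := Cfsg.powerClosure p 1 (⊤ : Subgroup G)
  have hmem : ∀ x : G, x ^ p ∈ W := fun x => subset_closure ⟨x, mem_top x, by rw [pow_one]⟩
  let φ : G ⧸ omega hG hR → W := fun q => Quotient.liftOn' q (fun x => ⟨x ^ p, hmem x⟩) fun a b h => by
    rw [QuotientGroup.leftRel_apply] at h
    exact Subtype.ext ((pow_eq_iff_one hG hR a b).2 h)
  have hφ : Function.Bijective φ := by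
    refine ⟨fun u v => ?_, fun w => ?_⟩
    · induction u using QuotientGroup.induction_on with
      | _ a =>
        induction v using QuotientGroup.induction_on with
        | _ b =>
          intro h
          exact QuotientGroup.eq.2 ((pow_eq_iff_one hG hR a b).1 (congrArg Subtype.val h))
    · obtain ⟨z, -, hz⟩ := single hG hR ⊤ w.2
      exact ⟨(z : G ⧸ omega hG hR), Subtype.ext hz.symm⟩
  have h1 : (omega hG hR).index = Nat.card W := Nat.card_congr (Equiv.ofBijective φ hφ)
  have h2 := (omega hG hR).card_mul_index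
  rw [h1, ← W.index_mul_card] at h2
  exact Nat.eq_of_mul_eq_mul_right Nat.card_pos h2.symm

theorem omega_le_omegaOne (hG : IsPGroup p G) (hR : Reg p G) : omega hG hR ≤ Cfsg.omegaOne p (⊤ : Subgroup G) :=
  fun x hx => subset_closure ⟨mem_top x, hx⟩

theorem isCyclic_quotient_top : IsCyclic (G ⧸ (⊤ : Subgroup G)) := by
  haveI := QuotientGroup.subsingleton_quotient_top (G := G)
  exact isCyclic_of_subsingleton

omit [Fact p.Prime] in
theorem card_omega_subgroup_le [Fact p.Prime] (D : Subgroup G) (hD : IsPGroup p D) (hR : Reg p D) :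
    Nat.card (omega hD hR) ≤ Nat.card ↥(Cfsg.omegaOne p (⊤ : Subgroup G)) := by
  rw [← card_map_of_injective D.subtype_injective]
  refine card_le_of_le ?_
  rintro _ ⟨x, hx, rfl⟩
  exact subset_closure ⟨mem_top _, congrArg Subtype.val (show x ^ p = 1 from hx)⟩

omit [Fact p.Prime] in
theorem card_lt_of_lt' {H K : Subgroup G} (h : H < K) : Nat.card H < Nat.card K :=
  lt_of_le_of_ne (card_le_of_le h.le) fun e => h.ne (eq_of_le_of_card_ge h.le e.ge)

theorem mul_le_of_lt (hG : IsPGroup p G) {H K : Subgroup G} (h : H < K) : Nat.card H * p ≤ Nat.card K := by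
  obtain ⟨i, hi⟩ := IsPGroup.iff_card.1 (hG.to_subgroup H)
  obtain ⟨j, hj⟩ := IsPGroup.iff_card.1 (hG.to_subgroup K)
  have h' := card_lt_of_lt' h
  rw [hi, hj] at h' ⊢
  rw [← pow_succ]
  exact Nat.pow_le_pow_right (Fact.out : p.Prime).pos ((Nat.pow_lt_pow_iff_right (Fact.out : p.Prime).one_lt).1 h')

/-- A `p`-group whose derived subgroup has order at most `p²` has class at most three. -/
theorem lcs_three_eq_bot (hG : IsPGroup p G) (h : Nat.card (commutator G) ≤ p ^ 2) :
    (⊤ : Subgroup G).lowerCentralSeries 3 = ⊥ := by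
  haveI : Group.IsNilpotent G := hG.isNilpotent
  set γ := (⊤ : Subgroup G).lowerCentralSeries
  have hstrict : ∀ i, γ i ≠ ⊥ → γ (i + 1) < γ i := by
    intro i hi
    refine lt_of_le_of_ne (Subgroup.lowerCentralSeries_antitone _ (Nat.le_succ i)) fun he => hi ?_
    have hk : ∀ k, γ (i + k) = γ i := by
      intro k
      induction k with
      | zero => rfl
      | succ k ih =>
        show ⁅γ (i + k), ⊤⁆ = γ i
        rw [ih]; exact he
    rw [← hk (Group.nilpotencyClass G), eq_bot_iff]
    exact (Subgroup.lowerCentralSeries_antitone _ (Nat.le_add_left _ i)).trans Subgroup.lowerCentralSeries_nilpotencyClass.le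
  by_contra h3
  have h2 : γ 2 ≠ ⊥ := fun e => h3 (eq_bot_iff.2 ((Subgroup.lowerCentralSeries_antitone _ (by norm_num)).trans e.le))
  have h1 : γ 1 ≠ ⊥ := fun e => h2 (eq_bot_iff.2 ((Subgroup.lowerCentralSeries_antitone _ (by norm_num)).trans e.le))
  have a3 : p ≤ Nat.card (γ 3) := by
    have := mul_le_of_lt hG (bot_lt_iff_ne_bot.2 h3)
    simpa using this
  have a2 := mul_le_of_lt hG (hstrict 2 h2)
  have a1 := mul_le_of_lt hG (hstrict 1 h1)
  have h' : Nat.card (γ 1) ≤ p ^ 2 := by
    rw [show γ 1 = commutator G from top_lowerCentralSeries_one]; exact h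
  have hp := (Fact.out : p.Prime).two_le
  nlinarith

/-- Regularity. -/
theorem reg_of_omega (hp : 3 < p) (hG : IsPGroup p G)
    (hO : Nat.card ↥(Cfsg.omegaOne p (⊤ : Subgroup G)) ≤ p ^ 2) : Reg p G := by
  suffices key : ∀ L : Subgroup G, ∀ a ∈ L, ∀ b ∈ L,
      ∃ c ∈ Cfsg.powerClosure p 1 ⁅closure ({a, b} : Set G), closure ({a, b} : Set G)⁆,
        (a * b) ^ p = a ^ p * b ^ p * c from fun a b => key ⊤ a (mem_top a) b (mem_top b)
  intro L
  induction L using WellFoundedLT.induction with
  | _ L ih =>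
    intro a ha b hb
    set M := closure ({a, b} : Set G) with hM
    have hML : M ≤ L := (closure_le L).2 (Set.insert_subset ha (Set.singleton_subset_iff.2 hb))
    have haM : a ∈ M := subset_closure (Set.mem_insert a _)
    have hbM : b ∈ M := subset_closure (Set.mem_insert_of_mem a rfl)
    rcases hML.lt_or_eq with hlt | heq
    · exact ih M hlt a haM b hbM
    by_cases hab : ⁅M, M⁆ = ⊥
    · refine ⟨1, one_mem _, ?_⟩
      rw [mul_one]
      exact (show Commute a b from commutatorElement_eq_one_iff_mul_comm.1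
        (mem_bot.1 (hab ▸ commutator_mem_commutator haM hbM))).mul_pow p
    set D := ⁅M, M⁆ with hD
    have hDM : D < M := lt_of_le_of_lt le_sup_right (zpowers_sup_derived_lt hG hab haM)
    have hRD : Reg p D := by
      intro u v
      obtain ⟨c, hc, he⟩ := ih D (heq ▸ hDM) u u.2 v v.2
      have hm : c ∈ (Cfsg.powerClosure p 1 ⁅closure ({u, v} : Set D), closure ({u, v} : Set D)⁆).map D.subtype := by
        rw [map_powerClosure, map_derivedPair]; exact hc
      obtain ⟨d, hd, rfl⟩ := hm
      exact ⟨d, hd, Subtype.ext (by simpa using he)⟩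
    have hDi : (Cfsg.powerClosure p 1 D).relIndex D ≤ p ^ 2 := by
      have h1 := index_powerClosure (hG.to_subgroup D) hRD
      have h2 := card_omega_subgroup_le D (hG.to_subgroup D) hRD
      rw [← relIndex_top_right, ← relIndex_map_map_of_injective _ _ D.subtype_injective, map_powerClosure,
        ← MonoidHom.range_eq_map, range_subtype] at h1
      exact h1 ▸ h2.trans hO
    haveI := powerClosure_normal (p := p) 1 (commutator M)
    set N := Cfsg.powerClosure p 1 (commutator M) with hN
    have hQ : Nat.card (commutator (M ⧸ N)) ≤ p ^ 2 := by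
      rw [show commutator (M ⧸ N) = (commutator M).map (QuotientGroup.mk' N) by
        show ⁅(⊤ : Subgroup (M ⧸ N)), (⊤ : Subgroup (M ⧸ N))⁆ = Subgroup.map (QuotientGroup.mk' N) ⁅(⊤ : Subgroup M), (⊤ : Subgroup M)⁆
        rw [map_commutator, map_top_of_surjective _ (QuotientGroup.mk'_surjective _)]]
      rw [← relIndex_ker, QuotientGroup.ker_mk', hN, ← relIndex_map_map_of_injective _ _ M.subtype_injective,
        map_powerClosure, map_subtype_commutator]
      exact hDi
    have hbot := lcs_three_eq_bot ((hG.to_subgroup M).to_quotient N) hQ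
    obtain ⟨c, hc, he⟩ := PolySeq.mul_pow_prime (G := M ⧸ N) PolySeq.filt_gamma rfl rfl (Fact.out : p.Prime)
      (eq_bot_iff.2 ((Subgroup.lowerCentralSeries_antitone _ (show 3 ≤ p - 1 by omega)).trans hbot.le)) ⊥
      (fun c hc => by
        rw [mem_bot]
        have := exponent_quotient (p := p) 1 N le_rfl c hc
        rwa [pow_one] at this)
      ((⟨a, haM⟩ : M) : M ⧸ N) ((⟨b, hbM⟩ : M) : M ⧸ N)
    rw [mem_bot] at hc
    rw [hc, mul_one, ← QuotientGroup.mk_mul, ← QuotientGroup.mk_pow, ← QuotientGroup.mk_pow, ← QuotientGroup.mk_pow,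
      ← QuotientGroup.mk_mul, eq_comm, QuotientGroup.eq] at he
    refine ⟨_, ?_, (mul_inv_cancel_left (a ^ p * b ^ p) _).symm⟩
    have hm := mem_map_of_mem M.subtype he
    rw [hN, map_powerClosure, map_subtype_commutator] at hm
    simpa using hm

theorem omegaOne_card_quotient_le (hp : 3 < p) (hG : IsPGroup p G)
    (hO : Nat.card ↥(Cfsg.omegaOne p (⊤ : Subgroup G)) ≤ p ^ 2) (T : Subgroup G) [T.Normal] :
    Nat.card ↥(Cfsg.omegaOne p (⊤ : Subgroup (G ⧸ T))) ≤ p ^ 2 := by
  have hR := reg_of_omega hp hG hO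
  have hRq : Reg p (G ⧸ T) := reg_of_surjective hR _ (QuotientGroup.mk'_surjective T)
  have h1 := index_powerClosure hG hR
  have h2 := index_powerClosure (hG.to_quotient T) hRq
  have h3 : (Cfsg.powerClosure p 1 (⊤ : Subgroup (G ⧸ T))).index ∣ (Cfsg.powerClosure p 1 (⊤ : Subgroup G)).index := by
    rw [← map_top_of_surjective _ (QuotientGroup.mk'_surjective T), ← map_powerClosure]
    exact index_map_dvd _ (QuotientGroup.mk'_surjective T)
  have h4 : Nat.card (omega hG hR) ≤ Nat.card ↥(Cfsg.omegaOne p (⊤ : Subgroup G)) :=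
    card_le_of_le (omega_le_omegaOne hG hR)
  refine le_trans (card_le_of_le (show Cfsg.omegaOne p (⊤ : Subgroup (G ⧸ T)) ≤ omega (hG.to_quotient T) hRq from
    (closure_le _).2 fun x hx => hx.2)) ?_
  rw [← h2]
  refine (Nat.le_of_dvd (Nat.pos_of_ne_zero index_ne_zero_of_finite) h3).trans ?_
  rw [h1]; exact h4.trans hO

theorem metacyclic_aux (hp : 3 < p) (hG : IsPGroup p G)
    (hO : Nat.card ↥(Cfsg.omegaOne p (⊤ : Subgroup G)) ≤ p ^ 2) (hcomm : ∃ y : G, commutator G ≤ zpowers y) :
    Cfsg.IsMetacyclic G := by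
  classical
  have hR := reg_of_omega hp hG hO
  obtain ⟨y0, hy0⟩ := hcomm
  set s := {y : G | commutator G ≤ zpowers y} with hs
  obtain ⟨y, hy, hmax⟩ := s.toFinite.exists_maximalFor orderOf s ⟨y0, hy0⟩
  by_cases hbot : (frattini G) = ⊤
  · refine ⟨⊤, inferInstance, ?_, ?_⟩
    · have h : (⊥ : Subgroup G) = ⊤ := frattini_nongenerating (by rw [bot_sup_eq]; exact hbot)
      haveI : Subsingleton G := ⟨fun u v => by
        have hu : u ∈ (⊥ : Subgroup G) := h ▸ mem_top u
        have hv : v ∈ (⊥ : Subgroup G) := h ▸ mem_top v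
        rw [mem_bot.1 hu, mem_bot.1 hv]⟩
      infer_instance
    · exact isCyclic_quotient_top
  have hΦW : frattini G = Cfsg.powerClosure p 1 (⊤ : Subgroup G) ∨ ∃ g : G, zpowers g ⊔ frattini G = ⊤ := by
    by_cases he : frattini G = Cfsg.powerClosure p 1 (⊤ : Subgroup G)
    · exact Or.inl he
    right
    have hle : Cfsg.powerClosure p 1 (⊤ : Subgroup G) ≤ frattini G := (closure_le _).2 fun x ⟨z, _, hz⟩ => by
      rw [hz, pow_one]; exact Cfsg.Lib.Transfer.pow_mem_frattini hG z
    have h1 := mul_le_of_lt hG (lt_of_le_of_ne hle (Ne.symm he))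
    have h2 : (Cfsg.powerClosure p 1 (⊤ : Subgroup G)).index ≤ p ^ 2 := by
      rw [index_powerClosure hG hR]
      exact (card_le_of_le (omega_le_omegaOne hG hR)).trans hO
    have h3 := (frattini G).card_mul_index
    rw [← (Cfsg.powerClosure p 1 (⊤ : Subgroup G)).card_mul_index] at h3
    obtain ⟨g, hg⟩ : ∃ g, g ∉ frattini G := by
      by_contra h; push Not at h; exact hbot (eq_top_iff.2 fun x _ => h x)
    refine ⟨g, ?_⟩
    have hlt : frattini G < zpowers g ⊔ frattini G :=
      lt_of_le_of_ne le_sup_right fun e => hg (e.ge (mem_sup_left (mem_zpowers g)))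
    have h4 := mul_le_of_lt hG hlt
    refine eq_top_of_le_card _ ?_
    have hW : 0 < Nat.card (Cfsg.powerClosure p 1 (⊤ : Subgroup G)) := Nat.card_pos
    have hΦ : 0 < Nat.card (frattini G) := Nat.card_pos
    have hi : (frattini G).index ≤ p := by
      have hp0 := (Fact.out : p.Prime).pos
      by_contra hc
      push Not at hc
      nlinarith
    have := (frattini G).card_mul_index
    nlinarith
  rcases hΦW with hΦ | ⟨g, hg⟩
  swap
  · -- cyclic
    have hg' : zpowers g = ⊤ := frattini_nongenerating hg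
    have hc : IsCyclic G := ⟨⟨g, fun x => mem_zpowers_iff.1 (hg' ▸ mem_top x)⟩⟩
    exact ⟨⊤, inferInstance, inferInstance, isCyclic_quotient_top⟩
  have hyΦ : y ∉ frattini G ∨ y = 1 := by
    by_cases h1 : y = 1
    · exact Or.inr h1
    refine Or.inl fun hyf => ?_
    rw [hΦ] at hyf
    obtain ⟨w, -, hw⟩ := single hG hR ⊤ hyf
    have hle : zpowers y ≤ zpowers w := zpowers_le.2 (hw ▸ pow_mem (mem_zpowers w) p)
    have hlt : orderOf y < orderOf w := by
      rw [hw]
      have hdvd : p ∣ orderOf w := by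
        obtain ⟨k, hk⟩ := IsPGroup.iff_orderOf.1 hG w
        rcases k with _ | k
        · exfalso; rw [pow_zero, orderOf_eq_one_iff] at hk; rw [hw, hk, one_pow] at h1; exact h1 rfl
        · exact hk ▸ dvd_pow_self p k.succ_ne_zero
      rw [orderOf_pow_of_dvd (Fact.out : p.Prime).ne_zero hdvd]
      exact Nat.div_lt_self (orderOf_pos w) (Fact.out : p.Prime).one_lt
    exact absurd (hmax (hy.trans hle) hlt.le) (not_le.2 hlt)
  have hn : (zpowers y).Normal := ⟨fun x hx g => by
    rw [show g * x * g⁻¹ = ⁅g, x⁆ * x by simp only [commutatorElement_def]; group]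
    exact mul_mem (hy (commutator_mem_commutator (mem_top g) (mem_top x))) hx⟩
  haveI := hn
  refine ⟨zpowers y, hn, inferInstance, ?_⟩
  obtain ⟨g, hg⟩ : ∃ g, zpowers g ⊔ (zpowers y ⊔ frattini G) = ⊤ := by
    by_cases ht : zpowers y ⊔ frattini G = ⊤
    · exact ⟨1, by rw [ht]; simp⟩
    obtain ⟨g, hg⟩ : ∃ g, g ∉ zpowers y ⊔ frattini G := by
      by_contra h; push Not at h; exact ht (eq_top_iff.2 fun x _ => h x)
    refine ⟨g, ?_⟩
    rcases hyΦ with hyΦ | hy1
    · have h1 := mul_le_of_lt hG (show frattini G < zpowers y ⊔ frattini G from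
        lt_of_le_of_ne le_sup_right fun e => hyΦ (e.ge (mem_sup_left (mem_zpowers y))))
      have h2 := mul_le_of_lt hG (show zpowers y ⊔ frattini G < zpowers g ⊔ (zpowers y ⊔ frattini G) from
        lt_of_le_of_ne le_sup_right fun e => hg (e.ge (mem_sup_left (mem_zpowers g))))
      have h3 : (frattini G).index ≤ p ^ 2 := by
        rw [hΦ, index_powerClosure hG hR]
        exact (card_le_of_le (omega_le_omegaOne hG hR)).trans hO
      have h4 := (frattini G).card_mul_index
      refine eq_top_of_le_card _ ?_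
      have hp0 := (Fact.out : p.Prime).pos
      nlinarith
    · -- commutative: a maximal element cannot be trivial
      exfalso
      have hz : zpowers y = ⊥ := zpowers_eq_bot.2 hy1
      rw [hz, bot_sup_eq] at hg
      have h1 : g ≠ 1 := fun e => hg (e ▸ one_mem _)
      have h2 := hmax (show g ∈ s from hy.trans (hz.le.trans bot_le)) (by rw [hy1, orderOf_one]; exact orderOf_pos g)
      rw [hy1, orderOf_one] at h2
      exact h1 (orderOf_eq_one_iff.1 (le_antisymm h2 (orderOf_pos g)))
  have hgy : zpowers g ⊔ zpowers y = ⊤ := frattini_nongenerating (by rw [sup_assoc]; exact hg)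
  refine ⟨⟨(g : G ⧸ zpowers y), fun x => ?_⟩⟩
  obtain ⟨x, rfl⟩ := QuotientGroup.mk_surjective x
  obtain ⟨u, hu, v, hv, rfl⟩ := mem_sup_of_normal_right.1 (hgy ▸ mem_top x)
  obtain ⟨i, rfl⟩ := mem_zpowers_iff.1 hu
  refine ⟨i, ?_⟩
  show (g : G ⧸ zpowers y) ^ i = _
  rw [QuotientGroup.mk_mul, (QuotientGroup.eq_one_iff v).2 hv, mul_one, QuotientGroup.mk_zpow]

universe u

/-- Huppert's criterion. -/
theorem metacyclic (hp : 3 < p) : ∀ (n : ℕ) (G : Type u) [Group G] [Finite G], Nat.card G = n → IsPGroup p G →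
    Nat.card ↥(Cfsg.omegaOne p (⊤ : Subgroup G)) ≤ p ^ 2 → Cfsg.IsMetacyclic G := by
  intro n
  induction n using Nat.strong_induction_on with
  | _ n ih =>
  intro G _ _ hn hG hO
  subst hn
  by_cases hab : commutator G = ⊥
  · exact metacyclic_aux hp hG hO ⟨1, by rw [hab]; exact bot_le⟩
  -- a central subgroup of order `p` inside the derived subgroup
  obtain ⟨z, hzc, hzD, hz⟩ : ∃ z, z ∈ center G ∧ z ∈ commutator G ∧ orderOf z = p := by
    haveI : Group.IsNilpotent G := hG.isNilpotent
    set K := commutator G ⊓ center G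
    have hK : K ≠ ⊥ := by
      intro hK
      obtain ⟨k, hk⟩ : ∃ k, k = Group.nilpotencyClass G := ⟨_, rfl⟩
      refine hab ?_
      have hdown : ∀ i, (⊤ : Subgroup G).lowerCentralSeries (k - i) ⊓ commutator G = ⊥ := by
        intro i
        induction i with
        | zero => rw [Nat.sub_zero, hk, Subgroup.lowerCentralSeries_nilpotencyClass, bot_inf_eq]
        | succ i ihi =>
          rcases Nat.lt_or_ge i k with hik | hik
          swap
          · rwa [show k - (i + 1) = k - i by omega]
          rw [eq_bot_iff, ← hK]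
          intro x hx
          refine ⟨hx.2, mem_center_iff.2 fun g => ?_⟩
          have h1 : ⁅x, g⁆ ∈ (⊤ : Subgroup G).lowerCentralSeries (k - i) := by
            rw [show k - i = k - (i + 1) + 1 by omega]
            exact commutator_mem_commutator hx.1 (mem_top g)
          have h2 : ⁅x, g⁆ ∈ commutator G := commutator_mem_commutator (mem_top x) (mem_top g)
          have h3 : ⁅x, g⁆ = 1 := mem_bot.1 ((ihi).le ⟨h1, h2⟩)
          exact (commutatorElement_eq_one_iff_mul_comm.1 h3).symm
      simpa using hdown k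
    haveI : Nontrivial K := (nontrivial_iff_ne_bot K).2 hK
    obtain ⟨i, hi⟩ := IsPGroup.iff_card.1 (hG.to_subgroup K)
    obtain ⟨z, hz⟩ := exists_prime_orderOf_dvd_card' p (show p ∣ Nat.card K by
      rcases i with _ | i
      · exact absurd hi (Finite.one_lt_card).ne'
      · exact hi ▸ dvd_pow_self p i.succ_ne_zero)
    exact ⟨z, z.2.2, z.2.1, by rw [orderOf_coe]; exact hz⟩
  set Z := zpowers z with hZ
  haveI hZn : Z.Normal := ⟨fun x hx g => by
    rw [show g * x * g⁻¹ = x by rw [mem_center_iff.1 ((zpowers_le.2 hzc) hx) g, mul_inv_cancel_right]]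
    exact hx⟩
  have hcard : Nat.card Z = p := by rw [hZ, Nat.card_zpowers, hz]
  obtain ⟨B, hBn, hBc, hQc⟩ := ih (Nat.card (G ⧸ Z)) (by
    rw [Subgroup.card_eq_card_quotient_mul_card_subgroup Z, hcard]
    exact lt_mul_of_one_lt_right Nat.card_pos (Fact.out : p.Prime).one_lt) (G ⧸ Z) rfl (hG.to_quotient Z)
    (omegaOne_card_quotient_le hp hG hO Z)
  haveI := hBn
  obtain ⟨bB, hbB⟩ := hBc.exists_generator
  obtain ⟨a, ha⟩ := QuotientGroup.mk'_surjective Z (bB : G ⧸ Z)
  obtain ⟨bq, hbq⟩ := hQc.exists_generator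
  obtain ⟨b, rfl⟩ := (QuotientGroup.mk'_surjective B).comp (QuotientGroup.mk'_surjective Z) bq
  set q := QuotientGroup.mk' Z with hq
  set A := B.comap q with hA
  haveI : A.Normal := Subgroup.Normal.comap hBn q
  have hAmem : ∀ x ∈ A, ∃ i : ℤ, ∃ w ∈ Z, x = a ^ i * w := by
    intro x hx
    obtain ⟨i, hi⟩ := hbB ⟨q x, hx⟩
    refine ⟨i, (a ^ i)⁻¹ * x, QuotientGroup.eq.1 ?_, by group⟩
    show q (a ^ i) = q x
    rw [map_zpow, ha]; exact congrArg Subtype.val hi
  have haA : a ∈ A := by show q a ∈ B; rw [ha]; exact bB.2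
  have hgen : zpowers a ⊔ zpowers b = ⊤ := by
    refine frattini_nongenerating (eq_top_iff.2 fun x _ => ?_)
    obtain ⟨j, hj⟩ := hbq (QuotientGroup.mk' B (q x))
    have h1 : (b ^ j)⁻¹ * x ∈ A := by
      show q ((b ^ j)⁻¹ * x) ∈ B
      rw [map_mul, map_inv]
      refine QuotientGroup.eq.1 ?_
      show QuotientGroup.mk' B (q (b ^ j)) = QuotientGroup.mk' B (q x)
      rw [map_zpow, map_zpow]; exact hj
    obtain ⟨i, w, hw, hx⟩ := hAmem _ h1
    rw [show x = b ^ j * (a ^ i * w) by rw [← hx]; group]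
    exact mul_mem (mem_sup_left (mem_sup_right (zpow_mem (mem_zpowers b) j)))
      (mul_mem (mem_sup_left (mem_sup_left (zpow_mem (mem_zpowers a) i)))
        (mem_sup_right (Cfsg.Lib.Transfer.commutator_le_frattini hG ((zpowers_le.2 hzD) hw))))
  by_cases hzA : z ∈ zpowers a
  · -- `A` is cyclic
    refine metacyclic_aux hp hG hO ⟨a, ?_⟩
    have hAz : A ≤ zpowers a := fun x hx => by
      obtain ⟨i, w, hw, rfl⟩ := hAmem x hx
      exact mul_mem (zpow_mem (mem_zpowers a) i) ((zpowers_le.2 hzA) hw)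
    refine le_trans ?_ hAz
    haveI : IsMulCommutative (G ⧸ A) := by
      haveI := hQc
      have e : (G ⧸ Z) ⧸ B ≃* G ⧸ A :=
        (QuotientGroup.quotientKerEquivOfSurjective ((QuotientGroup.mk' B).comp q)
          ((QuotientGroup.mk'_surjective B).comp (QuotientGroup.mk'_surjective Z))).symm.trans
          (QuotientGroup.quotientMulEquivOfEq (by rw [← MonoidHom.comap_ker, QuotientGroup.ker_mk']))
      refine ⟨⟨fun u v => e.symm.injective ?_⟩⟩
      rw [map_mul, map_mul]; exact IsMulCommutative.is_comm.comm _ _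
    exact Normal.quotient_commutative_iff_commutator_le.1 inferInstance
  -- otherwise the derived subgroup is `Z`
  obtain ⟨s, w, hw, hc⟩ := hAmem (b * a * b⁻¹ * a⁻¹) (A.mul_mem (Normal.conj_mem inferInstance a haA b) (A.inv_mem haA))
  have hwc : ∀ g : G, g * w = w * g := mem_center_iff.1 ((zpowers_le.2 hzc) hw)
  set c := a ^ s * w with hcdef
  have hac : Commute a c := ((Commute.refl a).zpow_right s).mul_right (hwc a)
  have hbc : b * c * b⁻¹ = c ^ (s + 1) := by
    have h1 : b * a * b⁻¹ = c * a := by rw [← hc]; group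
    rw [hcdef, show b * (a ^ s * w) * b⁻¹ = (b * a ^ s * b⁻¹) * (b * w * b⁻¹) by group, ← conj_zpow, h1,
      hac.symm.mul_zpow, hwc b, mul_inv_cancel_right, mul_assoc, zpow_add_one]
  set C := zpowers c with hC
  haveI hCn : C.Normal := by
    rw [← normalizer_eq_top_iff, eq_top_iff, ← hgen]
    refine sup_le (zpowers_le.2 ?_) (zpowers_le.2 ?_)
    · refine centralizer_le_normalizer _ (mem_centralizer_iff.2 ?_)
      rintro _ ⟨i, rfl⟩
      exact (hac.zpow_right i).eq.symm
    · have hle : C.map (MulAut.conj b).toMonoidHom ≤ C := by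
        rw [hC, MonoidHom.map_zpowers, zpowers_le]
        show b * c * b⁻¹ ∈ zpowers c
        rw [hbc]; exact zpow_mem (mem_zpowers c) _
      have heq := eq_of_le_of_card_ge hle (card_map_of_injective (MulAut.conj b).injective).ge
      refine mem_normalizer_iff.2 fun x => ⟨fun hx => hle ⟨x, hx, rfl⟩, fun hx => ?_⟩
      rw [← heq] at hx
      obtain ⟨y, hy, hxy⟩ := hx
      have : y = x := (MulAut.conj b).injective hxy
      exact this ▸ hy
  have hcl : closure ({b, a} : Set G) = ⊤ := by
    rw [eq_top_iff, ← hgen]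
    exact sup_le (zpowers_le.2 (subset_closure (Set.mem_insert_of_mem b rfl))) (zpowers_le.2 (subset_closure (Set.mem_insert b _)))
  have hDC : commutator G ≤ C := by
    have := commutator_closure_pair_le (a := b) (b := a) (S := C) (fun h _ x hx => hCn.conj_mem x hx h) (by
      rw [commutatorElement_def, hc]; exact mem_zpowers c)
    rwa [hcl] at this
  obtain ⟨k, hk⟩ := mem_zpowers_iff.1 (hDC hzD)
  rw [hcdef, (show Commute (a ^ s) w from hwc (a ^ s)).mul_zpow, ← zpow_mul] at hk
  have hak : a ^ (s * k) ∈ Z := by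
    have h : a ^ (s * k) = z * (w ^ k)⁻¹ := eq_mul_inv_of_mul_eq hk
    rw [h]; exact mul_mem (mem_zpowers z) (inv_mem (zpow_mem hw k))
  have hak1 : a ^ (s * k) = 1 := by
    by_contra hne
    haveI : Fact (Nat.card Z).Prime := ⟨hcard ▸ (Fact.out : p.Prime)⟩
    have htop := zpowers_eq_top_of_prime_card rfl (g := (⟨_, hak⟩ : Z)) (fun e => hne (congrArg Subtype.val e))
    obtain ⟨m, hm⟩ := mem_zpowers_iff.1 (htop ▸ mem_top (⟨z, mem_zpowers z⟩ : Z))
    exact hzA ⟨s * k * m, by simp only; rw [zpow_mul]; exact congrArg Subtype.val hm⟩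
  have has : a ^ s = 1 := by
    rw [hak1, one_mul] at hk
    obtain ⟨i, hi⟩ := IsPGroup.iff_orderOf.1 hG (a ^ s)
    have h1 : (a ^ s) ^ k = 1 := by rw [← zpow_mul]; exact hak1
    have hcop : IsCoprime k ((p : ℤ) ^ i) := by
      refine IsCoprime.pow_right (Int.isCoprime_iff_gcd_eq_one.2 ?_)
      rcases (Nat.dvd_prime (Fact.out : p.Prime)).1 (Int.natCast_dvd_natCast.1 (Int.gcd_dvd_right k p)) with h | h
      · exact h
      · exfalso
        have hpk : (p : ℤ) ∣ k := h ▸ Int.gcd_dvd_left k p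
        have hw1 : w ^ k = 1 := by
          obtain ⟨j, rfl⟩ := hpk
          have : w ^ p = 1 := by
            have := pow_card_eq_one' (x := (⟨w, hw⟩ : Z))
            rw [hcard] at this
            exact congrArg Subtype.val this
          rw [zpow_mul, zpow_natCast, this, one_zpow]
        rw [hw1] at hk
        rw [← hk, orderOf_one] at hz
        exact (Fact.out : p.Prime).ne_one hz.symm
    obtain ⟨u, v, huv⟩ := hcop
    have h2 : (a ^ s) ^ ((p : ℤ) ^ i) = 1 := by
      rw [show ((p : ℤ) ^ i) = ((p ^ i : ℕ) : ℤ) by push_cast; rfl, zpow_natCast, ← hi, pow_orderOf_eq_one]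
    calc a ^ s = (a ^ s) ^ (u * k + v * (p : ℤ) ^ i) := by rw [huv, zpow_one]
      _ = 1 := by rw [zpow_add, mul_comm u k, mul_comm v, zpow_mul, zpow_mul, h1, h2, one_zpow, one_zpow, one_mul]
  refine metacyclic_aux hp hG hO ⟨z, hDC.trans (zpowers_le.2 ?_)⟩
  rw [hcdef, has, one_mul]; exact hw

end Cfsg.Lib.Transfer.RegularOmega
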