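import Mathlib
import Cfsg.Prelude.Def_Transfer
import Cfsg.Agent.Lib.Transfer.OmegaCentralizer
import Cfsg.Agent.Lib.Transfer.RegularOmega
import Cfsg.Agent.Lib.Transfer.PolySeq
import Cfsg.Agent.S0129
import Cfsg.Agent.S0636

/-!
`p`-groups of rank at most two.
-/

set_option autoImplicit false

open scoped commutatorElement Pointwise
open Subgroup

namespace Cfsg.Lib.Transfer.RankTwo

open Regular RegularOmega

variable {G : Type*} [Group G] [Finite G] {p : ℕ} [Fact p.Prime]

theorem le_center_of_commutator_top {H : Subgroup G} (h : ⁅H, (⊤ : Subgroup G)⁆ = ⊥) : H ≤ center G :=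
  fun x hx => mem_center_iff.2 fun g =>
    (commutatorElement_eq_one_iff_mul_comm.1 (mem_bot.1 (h ▸ commutator_mem_commutator hx (mem_top g)))).symm

theorem exists_normal_le_card (hG : IsPGroup p G) (A : Subgroup G) [A.Normal] {k : ℕ} (hk : Nat.card A = p ^ k) :
    ∀ j ≤ k, ∃ B : Subgroup G, B ≤ A ∧ B.Normal ∧ Nat.card B = p ^ j := by
  intro j
  induction j with
  | zero => exact fun _ => ⟨⊥, bot_le, inferInstance, by rw [card_bot, pow_zero]⟩
  | succ j ih =>
    intro hj
    obtain ⟨B, hBA, hBn, hBc⟩ := ih (by omega)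
    haveI := hBn
    have hlt : B < A := lt_of_le_of_ne hBA fun e => by
      rw [e, hk] at hBc
      exact absurd (Nat.pow_right_injective (Fact.out : p.Prime).two_le hBc) (by omega)
    obtain ⟨B', b, hB'n, -, hB'A, hB'c, -⟩ := Cfsg.Lib.Transfer.exists_normal_step hG B A hlt
    exact ⟨B', hB'A, hB'n, by rw [hB'c, hBc, pow_succ']⟩

omit [Finite G] [Fact p.Prime] in
theorem mem_isPGroup (hG : IsPGroup p G) (H : Subgroup G) : IsPGroup p H := hG.to_subgroup H

theorem rank_le_two_of_no_normal (hp : p ≠ 2) (hP : IsPGroup p G)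
    (h : ∀ A : Subgroup G, A.Normal → IsMulCommutative A → (∀ a ∈ A, a ^ p = 1) → Nat.card A ≠ p ^ 3)
    (E : Subgroup G) (hE : IsMulCommutative E) (hEe : ∀ e ∈ E, e ^ p = 1) : Nat.card E ≤ p ^ 2 := by
  classical
  set S := {A : Subgroup G | A.Normal ∧ IsMulCommutative A ∧ ∀ a ∈ A, a ^ p = 1}
  have hne : S.Nonempty := ⟨⊥, inferInstance, ⟨⟨fun u v => Subsingleton.elim _ _⟩⟩, fun a ha => by rw [mem_bot.1 ha, one_pow]⟩
  obtain ⟨A, ⟨hAn, hAc, hAe⟩, hAmax⟩ := S.toFinite.exists_maximal hne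
  haveI := hAn
  have hp1 : p ^ 1 ≠ 2 := by rwa [pow_one]
  have hmem := fun (x : G) (hx : x ∈ centralizer (A : Set G)) (hxp : x ^ p = 1) => Cfsg.Lib.Transfer.mem_of_maximal_normal_abelian_exponent hP 1 hp1 A hAc
    (fun a ha => by rw [pow_one]; exact hAe a ha)
    (fun B hB hBc hBe hle => le_antisymm (hAmax ⟨hB, hBc, fun b hb => by simpa using hBe b hb⟩ hle) hle) x hx
    (by rw [pow_one]; exact hxp)
  have hAle : Nat.card A ≤ p ^ 2 := by
    obtain ⟨k, hk⟩ := IsPGroup.iff_card.1 (hP.to_subgroup A)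
    rw [hk]
    refine Nat.pow_le_pow_right (Fact.out : p.Prime).pos ?_
    by_contra hk2
    -- a normal subgroup of index `p ^ (k - 3)` inside `A`
    obtain ⟨B, hBA, hBn, hBc⟩ : ∃ B : Subgroup G, B ≤ A ∧ B.Normal ∧ Nat.card B = p ^ 3 := by
      obtain ⟨B, hB, hBn, hBc⟩ := exists_normal_le_card hP A hk 3 (by omega)
      exact ⟨B, hB, hBn, hBc⟩
    refine h B hBn ?_ (fun b hb => hAe b (hBA hb)) hBc
    haveI := hAc
    exact ⟨⟨fun u v => Subtype.ext (Subgroup.mul_comm_of_mem_isMulCommutative A (hBA u.2) (hBA v.2))⟩⟩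
  by_contra hbig
  push Not at hbig
  haveI := hE
  have hEA : ¬ E ≤ A := fun hle => absurd ((card_le_of_le hle).trans hAle) (not_le.2 hbig)
  have hnot : ¬ A ≤ center G := fun hle => hEA fun e he => hmem e
    (mem_centralizer_iff.2 fun a ha => (mem_center_iff.1 (hle ha) e).symm) (hEe e he)
  obtain ⟨a, haA, haZ⟩ := SetLike.not_le_iff_exists.1 hnot
  set W := ⁅A, (⊤ : Subgroup G)⁆ with hW
  have hWA : W ≤ A := commutator_le_left A ⊤
  have hA1 : A ≠ ⊥ := fun e => haZ (by rw [e, mem_bot] at haA; rw [haA]; exact one_mem _)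
  have hWlt : W < A := by
    refine lt_of_le_of_ne hWA fun e => hA1 ?_
    haveI : Group.IsNilpotent G := hP.isNilpotent
    have hk : ∀ k, A ≤ (⊤ : Subgroup G).lowerCentralSeries k := by
      intro k
      induction k with
      | zero => exact le_top
      | succ k ih => rw [← e, hW]; exact commutator_mono ih le_rfl
    exact eq_bot_iff.2 ((hk _).trans Subgroup.lowerCentralSeries_nilpotencyClass.le)
  have hWp : Nat.card W ≤ p := by
    have h1 := RegularOmega.mul_le_of_lt hP hWlt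
    have hp0 := (Fact.out : p.Prime).pos
    nlinarith
  haveI : W.Normal := Subgroup.commutator_normal A ⊤
  have hWc : W ≤ center G := by
    refine le_center_of_commutator_top ?_
    by_contra hne
    have h2 : ⁅W, (⊤ : Subgroup G)⁆ < W := by
      refine lt_of_le_of_ne (commutator_le_left W ⊤) fun e => hne ?_
      haveI : Group.IsNilpotent G := hP.isNilpotent
      have hk : ∀ k, W ≤ (⊤ : Subgroup G).lowerCentralSeries k := by
        intro k
        induction k with
        | zero => exact le_top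
        | succ k ih => rw [← e]; exact commutator_mono ih le_rfl
      exact eq_bot_iff.2 ((commutator_le_left W ⊤).trans ((hk _).trans Subgroup.lowerCentralSeries_nilpotencyClass.le))
    have h3 := RegularOmega.mul_le_of_lt hP h2
    have h4 := RegularOmega.mul_le_of_lt hP (bot_lt_iff_ne_bot.2 hne)
    rw [card_bot, one_mul] at h4
    have := (Fact.out : p.Prime).two_le
    nlinarith
  have hWmem : ∀ e : G, ⁅e, a⁆ ∈ W := fun e => by
    rw [← commutatorElement_inv a e]; exact inv_mem (commutator_mem_commutator haA (mem_top e))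
  let f : E →* W := MonoidHom.mk' (fun e => ⟨⁅(e : G), a⁆, hWmem e⟩) fun e e' => Subtype.ext (by
    show ⁅(e : G) * e', a⁆ = ⁅(e : G), a⁆ * ⁅(e' : G), a⁆
    rw [show ⁅(e : G) * e', a⁆ = (e : G) * ⁅(e' : G), a⁆ * (e : G)⁻¹ * ⁅(e : G), a⁆ by
      simp only [commutatorElement_def]; group, mem_center_iff.1 (hWc (hWmem e')) e, mul_inv_cancel_right,
      ← mem_center_iff.1 (hWc (hWmem e')) ⁅(e : G), a⁆])
  set K := f.ker.map E.subtype
  have hKcent : ∀ x ∈ K, x * a = a * x := by
    rintro _ ⟨e, he, rfl⟩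
    exact commutatorElement_eq_one_iff_mul_comm.1 (congrArg Subtype.val (he : f e = 1))
  have hKA : K ≤ A := by
    intro x hx
    have hxE : x ∈ E := by obtain ⟨e, _, rfl⟩ := hx; exact e.2
    refine hmem x (mem_centralizer_iff.2 ?_) (hEe x hxE)
    -- `A` is generated by its central part and `a`
    have hgen : A ≤ (A ⊓ center G) ⊔ zpowers a := by
      have hle : (A ⊓ center G) ⊔ zpowers a ≤ A := sup_le inf_le_left (zpowers_le.2 haA)
      refine (eq_of_le_of_card_ge hle ?_).ge
      have hlt : A ⊓ center G < (A ⊓ center G) ⊔ zpowers a :=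
        lt_of_le_of_ne le_sup_left fun e => haZ (e.ge (mem_sup_right (mem_zpowers a))).2
      have hnb : (A ⊓ center G) ≠ ⊥ := fun e => by
        by_cases hWb : W = ⊥
        · refine haZ (mem_center_iff.2 fun g => ?_)
          exact commutatorElement_eq_one_iff_mul_comm.1 (mem_bot.1 (hWb ▸ hWmem g))
        · exact hWb (eq_bot_iff.2 ((le_inf hWA hWc).trans e.le))
      have h1 := RegularOmega.mul_le_of_lt hP hlt
      have h2 := RegularOmega.mul_le_of_lt hP (bot_lt_iff_ne_bot.2 hnb)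
      rw [card_bot, one_mul] at h2
      have hp0 := (Fact.out : p.Prime).pos
      nlinarith
    intro y hy
    have hcl : (A ⊓ center G) ⊔ zpowers a ≤ centralizer ({x} : Set G) := sup_le
      (fun u hu => mem_centralizer_singleton_iff.2 (mem_center_iff.1 hu.2 x).symm)
      (zpowers_le.2 (mem_centralizer_singleton_iff.2 (hKcent x hx).symm))
    exact mem_centralizer_singleton_iff.1 (hcl (hgen hy))
  have hcard : Nat.card E ≤ p * Nat.card K := by
    rw [card_map_of_injective E.subtype_injective, ← f.ker.card_mul_index, mul_comm, index_ker]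
    exact Nat.mul_le_mul_right _ ((card_le_card_group _).trans hWp)
  have hE3 : p ^ 3 ≤ Nat.card E := by
    obtain ⟨i, hi⟩ := IsPGroup.iff_card.1 (hP.to_subgroup E)
    rw [hi] at hbig ⊢
    exact Nat.pow_le_pow_right (Fact.out : p.Prime).pos ((Nat.pow_lt_pow_iff_right (Fact.out : p.Prime).one_lt).1 hbig)
  have hKeq : K = A := by
    refine eq_of_le_of_card_ge hKA ?_
    have hp0 := (Fact.out : p.Prime).pos
    nlinarith
  refine hEA fun e he => hmem e (mem_centralizer_iff.2 fun y hy => ?_) (hEe e he)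
  have hyE : y ∈ E := by
    have : y ∈ K := hKeq.ge hy
    obtain ⟨u, -, rfl⟩ := this
    exact u.2
  exact Subgroup.mul_comm_of_mem_isMulCommutative E hyE he

/-- Exponent `p` subgroups. -/
theorem card_le_of_exponent (hp : p ≠ 2) (hG : IsPGroup p G)
    (hrk : ∀ E : Subgroup G, Cfsg.IsElementaryAbelian p E → Nat.card E ≤ p ^ 2) (X : Subgroup G)
    (hX : ∀ x ∈ X, x ^ p = 1) : Nat.card X ≤ p ^ 3 := by
  classical
  set S := {A : Subgroup X | A.Normal ∧ IsMulCommutative A}
  have hne : S.Nonempty := ⟨⊥, inferInstance, ⟨⟨fun u v => Subsingleton.elim _ _⟩⟩⟩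
  obtain ⟨A, ⟨hAn, hAc⟩, hAmax⟩ := S.toFinite.exists_maximal hne
  haveI := hAn
  obtain ⟨a, ha⟩ := IsPGroup.iff_card.1 ((hG.to_subgroup X).to_subgroup A)
  have h1 := Cfsg.Agent.S0129.result (hG.to_subgroup X) A hAc
    (fun B hB hBc hle => le_antisymm (hAmax ⟨hB, hBc⟩ hle) hle) a ha
  have h2 : a ≤ 2 := by
    have := hrk (A.map X.subtype) ⟨(haveI := hAc; inferInstance), fun y hy => by
      obtain ⟨v, hv, rfl⟩ := hy
      exact hX v v.2⟩
    rw [card_map_of_injective X.subtype_injective, ha] at this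
    exact (Nat.pow_le_pow_iff_right (Fact.out : p.Prime).one_lt).1 this
  exact h1.trans (Nat.pow_le_pow_right (Fact.out : p.Prime).pos (by interval_cases a <;> norm_num))

/-- Small groups generated by elements of order `p`. -/
theorem exponent_of_small (hp : 3 < p) (hG : IsPGroup p G) (K : Subgroup G) (hK : Nat.card K ≤ p ^ 4)
    (hgen : K ≤ closure {x : G | x ∈ K ∧ x ^ p = 1}) : ∀ x ∈ K, x ^ p = 1 := by
  classical
  have hD : Nat.card (commutator K) ≤ p ^ 2 := by
    rw [← card_map_of_injective K.subtype_injective, map_subtype_commutator]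
    by_cases hab : ⁅K, K⁆ = ⊥
    · rw [hab, card_bot]; exact Nat.one_le_pow _ _ (Fact.out : p.Prime).pos
    obtain ⟨x, hx, hxD⟩ : ∃ x ∈ K, x ∉ ⁅K, K⁆ := by
      by_contra hc
      push Not at hc
      exact absurd (lt_of_le_of_lt le_sup_right (zpowers_sup_derived_lt hG hab (one_mem K))) (fun h => h.ne (le_antisymm h.le hc))
    have h1 := RegularOmega.mul_le_of_lt hG (show ⁅K, K⁆ < zpowers x ⊔ ⁅K, K⁆ from
      lt_of_le_of_ne le_sup_right fun e => hxD (e.ge (mem_sup_left (mem_zpowers x))))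
    have h2 := RegularOmega.mul_le_of_lt hG (zpowers_sup_derived_lt hG hab hx)
    have hp0 := (Fact.out : p.Prime).pos
    nlinarith
  have hbot := RegularOmega.lcs_three_eq_bot (hG.to_subgroup K) hD
  have hR : Reg p K := fun u v => by
    set M := closure ({u, v} : Set K)
    obtain ⟨c, hc, he⟩ := PolySeq.mul_pow_prime (G := M) PolySeq.filt_gamma rfl rfl (Fact.out : p.Prime)
      (by
        apply map_injective M.subtype_injective
        rw [Subgroup.map_bot, eq_bot_iff, ← hbot]
        refine (Subgroup.top_subtype_lowerCentralSeries M (p - 1)).le.trans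
          (le_trans ?_ (Subgroup.lowerCentralSeries_antitone _ (show 3 ≤ p - 1 by omega)))
        induction (p - 1) with
        | zero => exact le_top
        | succ m ih => exact commutator_mono ih le_top)
      (Cfsg.powerClosure p 1 (commutator M)) (fun c hc => subset_closure ⟨c, hc, by rw [pow_one]⟩)
      ⟨u, subset_closure (Set.mem_insert u _)⟩ ⟨v, subset_closure (Set.mem_insert_of_mem u rfl)⟩
    refine ⟨(c : K), ?_, congrArg Subtype.val he⟩
    have hm := mem_map_of_mem M.subtype hc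
    rw [map_powerClosure, map_subtype_commutator] at hm
    exact hm
  have hle : K ≤ (omega (hG.to_subgroup K) hR).map K.subtype :=
    hgen.trans ((closure_le _).2 fun x hx => ⟨⟨x, hx.1⟩, (Subtype.ext hx.2 : (⟨x, hx.1⟩ : K) ^ p = 1), rfl⟩)
  intro x hx
  obtain ⟨y, hy, rfl⟩ := hle hx
  exact congrArg Subtype.val (show y ^ p = 1 from hy)

theorem omega_exponent (hp : 3 < p) (hG : IsPGroup p G)
    (hrk : ∀ E : Subgroup G, Cfsg.IsElementaryAbelian p E → Nat.card E ≤ p ^ 2) (L : Subgroup G) :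
    ∀ g ∈ closure {x : G | x ∈ L ∧ x ^ p = 1}, g ^ p = 1 := by
  classical
  induction L using WellFoundedLT.induction with
  | _ L ih =>
  set S := {x : G | x ∈ L ∧ x ^ p = 1} with hS
  have hSL : closure S ≤ L := (closure_le L).2 fun x hx => hx.1
  rcases hSL.lt_or_eq with hlt | heq
  · intro g hg
    refine ih _ hlt g ((Subgroup.closure_mono ?_) hg)
    exact fun x hx => ⟨subset_closure hx, hx.2⟩
  rw [heq]
  by_cases hc : IsCyclic L
  · intro g hg
    rw [← heq] at hg
    induction hg using closure_induction with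
    | mem x hx => exact hx.2
    | one => exact one_pow p
    | mul u v hu hv h1 h2 =>
      have : Commute u v := congrArg Subtype.val (IsMulCommutative.is_comm.comm (⟨u, hSL hu⟩ : L) ⟨v, hSL hv⟩)
      rw [this.mul_pow, h1, h2, one_mul]
    | inv u _ h1 => rw [inv_pow, h1, inv_one]
  obtain ⟨E', -, hE'n, ⟨hE'c, hE'e⟩, hE'card⟩ := Cfsg.Agent.S0636.result (by omega) (hG.to_subgroup L) (⊤ : Subgroup L)
    (fun h => hc (topEquiv.isCyclic.1 h))
  set E := E'.map L.subtype with hE
  have hEL : E ≤ L := map_subtype_le _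
  have hEe : ∀ e ∈ E, e ^ p = 1 := by
    rintro _ ⟨e, he, rfl⟩
    exact congrArg Subtype.val (hE'e e he)
  have hEcard : Nat.card E = p ^ 2 := by rw [hE, card_map_of_injective L.subtype_injective, hE'card]
  have hEn : ∀ x ∈ L, ∀ e ∈ E, x * e * x⁻¹ ∈ E := by
    rintro x hx _ ⟨e, he, rfl⟩
    exact ⟨⟨x, hx⟩ * e * ⟨x, hx⟩⁻¹, hE'n.conj_mem e he _, rfl⟩
  have hbound : ∀ (Y : Subgroup G), ∀ z : G, z ^ p = 1 → (∀ y ∈ Y, y ^ p = 1) → z ∈ normalizer (Y : Set G) →
      Nat.card ↥(Y ⊔ zpowers z) ≤ Nat.card Y * p := by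
    intro Y z hz _ hzN
    have hc : Nat.card (zpowers z) ≤ p := by
      rw [Nat.card_zpowers]; exact Nat.le_of_dvd (Fact.out : p.Prime).pos (orderOf_dvd_of_pow_eq_one hz)
    refine le_trans ?_ (Nat.mul_le_mul_left _ hc)
    have hcoe : ((Y ⊔ zpowers z : Subgroup G) : Set G) = (Y : Set G) * (zpowers z : Set G) :=
      coe_mul_of_right_le_normalizer_left Y (zpowers z) (zpowers_le.2 hzN)
    rw [← Nat.card_prod]
    refine Nat.card_le_card_of_surjective
      (fun w : Y × zpowers z => (⟨w.1 * w.2, mul_mem (mem_sup_left w.1.2) (mem_sup_right w.2.2)⟩ : ↥(Y ⊔ zpowers z))) ?_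
    rintro ⟨w, hw⟩
    have hw' : w ∈ (Y : Set G) * (zpowers z : Set G) := hcoe ▸ hw
    obtain ⟨u, hu, v, hv, rfl⟩ := hw'
    exact ⟨(⟨u, hu⟩, ⟨v, hv⟩), rfl⟩
  by_cases hall : ∀ x ∈ S, x ∈ E
  · exact fun g hg => hEe g ((closure_le E).2 hall (heq.ge hg))
  push Not at hall
  obtain ⟨x, hxS, hxE⟩ := hall
  set K := E ⊔ zpowers x with hK
  have hxN : x ∈ normalizer (E : Set G) := mem_normalizer_iff.2 fun e => ⟨hEn x hxS.1 e, fun he => by
    have := hEn x⁻¹ (inv_mem hxS.1) _ he
    simpa [mul_assoc] using this⟩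
  have hKL : K ≤ L := sup_le hEL (zpowers_le.2 hxS.1)
  have hKgen : K ≤ closure {y : G | y ∈ K ∧ y ^ p = 1} := sup_le
    (fun e he => subset_closure ⟨mem_sup_left he, hEe e he⟩)
    (zpowers_le.2 (subset_closure ⟨mem_sup_right (mem_zpowers x), hxS.2⟩))
  have hK3 := hbound E x hxS.2 hEe hxN
  rw [hEcard, ← pow_succ, ← hK] at hK3
  rcases hKL.eq_or_lt with heK | hKlt
  · rw [← heK]
    exact exponent_of_small hp hG K (hK3.trans (Nat.pow_le_pow_right (Fact.out : p.Prime).pos (by norm_num))) hKgen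
  -- a maximal subgroup of `L` above `K`
  obtain ⟨M', hM'max, hKM'⟩ := (eq_top_or_exists_le_coatom (K.subgroupOf L)).resolve_left (fun e => hKlt.not_ge (subgroupOf_eq_top.1 e))
  obtain ⟨hM'n, -⟩ := Cfsg.Lib.Transfer.coatom_normal_index (hG.to_subgroup L) hM'max
  set M := M'.map L.subtype with hM
  have hMlt : M < L := lt_of_le_of_ne (map_subtype_le _) fun e => hM'max.1 (by
    apply map_injective L.subtype_injective
    rw [← MonoidHom.range_eq_map, range_subtype]; exact e)
  have hKM : K ≤ M := fun k hk => ⟨⟨k, hKL hk⟩, hKM' (show (⟨k, hKL hk⟩ : L) ∈ K.subgroupOf L from hk), rfl⟩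
  set Y := closure {y : G | y ∈ M ∧ y ^ p = 1} with hY
  have hYe : ∀ y ∈ Y, y ^ p = 1 := ih M hMlt
  have hYL : Y ≤ L := ((closure_le M).2 fun y hy => hy.1).trans hMlt.le
  have hKY : K ≤ Y := hKgen.trans (Subgroup.closure_mono fun y hy => ⟨hKM hy.1, hy.2⟩)
  have hEK : E < K := lt_of_le_of_ne le_sup_left fun e => hxE (e.ge (mem_sup_right (mem_zpowers x)))
  have hY3 : p ^ 3 ≤ Nat.card Y := by
    refine le_trans ?_ (card_le_of_le hKY)
    have := RegularOmega.mul_le_of_lt hG hEK
    rwa [hEcard, ← pow_succ] at this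
  have hYn : ∀ z ∈ L, z ∈ normalizer (Y : Set G) := by
    have h1 : ∀ z ∈ L, ∀ y ∈ Y, z * y * z⁻¹ ∈ Y := by
      intro z hz y hy
      have hle : Y.map (MulAut.conj z).toMonoidHom ≤ Y := by
        rw [hY, MonoidHom.map_closure]
        refine Subgroup.closure_mono ?_
        rintro _ ⟨w, ⟨hwM, hwp⟩, rfl⟩
        obtain ⟨v, hv, rfl⟩ := hwM
        refine ⟨⟨⟨z, hz⟩ * v * ⟨z, hz⟩⁻¹, hM'n.conj_mem v hv _, rfl⟩, ?_⟩
        show (z * (v : G) * z⁻¹) ^ p = 1
        rw [conj_pow, show ((v : G)) ^ p = 1 from hwp, mul_one, mul_inv_cancel]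
      exact hle ⟨y, hy, rfl⟩
    exact fun z hz => mem_normalizer_iff.2 fun y => ⟨h1 z hz y, fun hy => by
      have := h1 z⁻¹ (inv_mem hz) _ hy
      simpa [mul_assoc] using this⟩
  have hle : L ≤ Y := by
    rw [← heq, closure_le]
    intro z hz
    by_contra hzY
    have h4 := hbound Y z hz.2 hYe (hYn z hz.1)
    have hgen : Y ⊔ zpowers z ≤ closure {y : G | y ∈ Y ⊔ zpowers z ∧ y ^ p = 1} := sup_le
      (fun y hy => subset_closure ⟨mem_sup_left hy, hYe y hy⟩)
      (zpowers_le.2 (subset_closure ⟨mem_sup_right (mem_zpowers z), hz.2⟩))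
    have hY3' := card_le_of_exponent (by omega) hG hrk Y hYe
    have h5 : Nat.card ↥(Y ⊔ zpowers z) ≤ p ^ 4 := h4.trans (by rw [pow_succ]; exact Nat.mul_le_mul_right _ hY3')
    have h6 := card_le_of_exponent (by omega) hG hrk _ (exponent_of_small hp hG _ h5 hgen)
    have h7 := RegularOmega.mul_le_of_lt hG (show Y < Y ⊔ zpowers z from
      lt_of_le_of_ne le_sup_left fun e => hzY (e.ge (mem_sup_right (mem_zpowers z))))
    have := (Fact.out : p.Prime).two_le
    nlinarith
  exact fun g hg => hYe g (hle hg)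

end Cfsg.Lib.Transfer.RankTwo
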