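import Mathlib
import Cfsg.Agent.Lib.Transfer.Frobenius

/-!
Wielandt: nilpotent Hall subgroups are conjugate; normal complements from control of fusion.
-/

set_option autoImplicit false

open scoped Pointwise

namespace Cfsg.Lib.Transfer

universe u

variable {G : Type u} [Group G]

theorem card_sup_of_disjoint_normal [Finite G] (A B : Subgroup G) [B.Normal] (h : A ⊓ B = ⊥) :
    Nat.card ↥(A ⊔ B) = Nat.card A * Nat.card B := by
  have e3 : Nat.card B * B.relIndex A = Nat.card ↥(A ⊔ B) := by
    rw [← Subgroup.relIndex_sup_right,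
      ← Nat.card_congr (Subgroup.subgroupOfEquivOfLe (le_sup_right : B ≤ A ⊔ B)).toEquiv]
    exact Subgroup.card_mul_index _
  rw [← e3, mul_comm, ← Subgroup.inf_relIndex_left, h, Subgroup.relIndex_bot_left]

/-- A nilpotent subgroup splits as `p`-part times `p'`-part. -/
theorem exists_nilpotent_split [Finite G] {p : ℕ} [Fact p.Prime] (H : Subgroup G)
    (hH : Group.IsNilpotent H) :
    ∃ P Q : Subgroup G, P ⊔ Q = H ∧ Nat.card P * Nat.card Q = Nat.card H ∧ IsPGroup p P ∧
      (Nat.card Q).Coprime p ∧ Q ≤ Subgroup.centralizer (P : Set G) := by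
  haveI := pCore_normal (G := H) p
  haveI := pPrimeCore_normal (G := H) p
  have htop : Cfsg.pCore p H ⊔ Cfsg.pPrimeCore p H = ⊤ := by
    rw [eq_top_iff]
    refine le_trans ?_ (fittingSubgroup_le_pCore_sup p)
    exact le_sSup ⟨inferInstance,
      (Group.isNilpotent_congr Subgroup.topEquiv).2 hH⟩
  have hd := pCore_disjoint_pPrimeCore (G := H) p
  refine ⟨(Cfsg.pCore p H).map H.subtype, (Cfsg.pPrimeCore p H).map H.subtype, ?_, ?_, ?_, ?_, ?_⟩
  · rw [← Subgroup.map_sup, htop, ← MonoidHom.range_eq_map, Subgroup.range_subtype]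
  · rw [Subgroup.card_map_of_injective H.subtype_injective,
      Subgroup.card_map_of_injective H.subtype_injective,
      ← card_sup_of_disjoint_normal _ _ hd.eq_bot, htop, Subgroup.card_top]
  · exact (pCore_isPGroup p).map _
  · rw [Subgroup.card_map_of_injective H.subtype_injective]
    exact coprime_card_pPrimeCore p
  · rintro _ ⟨q, hq, rfl⟩
    rw [Subgroup.mem_centralizer_iff]
    rintro _ ⟨x, hx, rfl⟩
    exact congrArg H.subtype
      (Subgroup.commute_of_normal_of_disjoint _ _ (pCore_normal p) (pPrimeCore_normal p) hd x q hx hq).eq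

theorem isNilpotent_of_le {H K : Subgroup G} (hK : Group.IsNilpotent K) (h : H ≤ K) :
    Group.IsNilpotent H :=
  (Group.isNilpotent_congr (Subgroup.subgroupOfEquivOfLe h)).1 inferInstance

theorem isNilpotent_map_conj {H : Subgroup G} (hH : Group.IsNilpotent H) (g : G) :
    Group.IsNilpotent (H.map (MulAut.conj g).toMonoidHom) :=
  (Group.isNilpotent_congr (H.equivMapOfInjective _ (MulAut.conj g).injective)).1 hH

theorem map_conj_map_conj (a b : G) (H : Subgroup G) :
    (H.map (MulAut.conj a).toMonoidHom).map (MulAut.conj b).toMonoidHom =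
      H.map (MulAut.conj (b * a)).toMonoidHom := by
  rw [Subgroup.map_map]
  congr 1
  ext x
  simp [mul_assoc]

theorem wielandt_aux (n : ℕ) : ∀ (G : Type u) [Group G] [Finite G], Nat.card G = n →
    ∀ H K : Subgroup G, Group.IsNilpotent H → Group.IsNilpotent K → Nat.card H = Nat.card K →
      (Nat.card H).Coprime H.index → ∃ g : G, K = H.map (MulAut.conj g).toMonoidHom := by
  induction n using Nat.strong_induction_on with
  | _ n ih =>
  intro G _ _ hn H K hH hK hcard hcop
  by_cases h1 : Nat.card H = 1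
  · refine ⟨1, ?_⟩
    rw [Subgroup.eq_bot_of_card_eq H h1, Subgroup.map_bot,
      Subgroup.eq_bot_of_card_eq K (hcard ▸ h1)]
  obtain ⟨p, hp, hpH⟩ := Nat.exists_prime_and_dvd h1
  haveI := Fact.mk hp
  obtain ⟨P, Q, hPQ, hcPQ, hP, hQ, hQC⟩ := exists_nilpotent_split (p := p) H hH
  obtain ⟨P', Q', hPQ', hcPQ', hP', hQ', hQC'⟩ := exists_nilpotent_split (p := p) K hK
  have hndvd : ∀ (A B : Subgroup G), IsPGroup p A → (Nat.card B).Coprime p →
      Nat.card A * Nat.card B = Nat.card H → ¬ p ∣ A.index := by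
    intro A B _ hB hAB hd
    have h2 : A.index = Nat.card B * H.index := by
      refine mul_left_cancel₀ (Nat.card_pos (α := A)).ne' ?_
      rw [← mul_assoc, hAB, Subgroup.card_mul_index, Subgroup.card_mul_index]
    rw [h2] at hd
    rcases (Nat.Prime.dvd_mul hp).1 hd with h | h
    · exact hp.coprime_iff_not_dvd.1 hB.symm h
    · exact hp.coprime_iff_not_dvd.1 (Nat.Coprime.coprime_dvd_left hpH hcop) h
  let S := hP.toSylow (hndvd P Q hP hQ hcPQ)
  let S' := hP'.toSylow (hndvd P' Q' hP' hQ' (hcPQ'.trans hcard.symm))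
  obtain ⟨a, ha⟩ := MulAction.exists_smul_eq G S' S
  have haP : P'.map (MulAut.conj a).toMonoidHom = P := congrArg Sylow.toSubgroup ha
  set R := Q'.map (MulAut.conj a).toMonoidHom with hR
  have hRC : R ≤ Subgroup.centralizer (P : Set G) := by
    rintro _ ⟨q, hq, rfl⟩
    rw [Subgroup.mem_centralizer_iff, ← haP]
    rintro _ ⟨x, hx, rfl⟩
    exact (map_mul (MulAut.conj a) x q).symm.trans
      ((congrArg (MulAut.conj a) (Subgroup.mem_centralizer_iff.1 (hQC' hq) x hx)).trans
        (map_mul (MulAut.conj a) q x))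
  have hcR : Nat.card R = Nat.card Q := by
    have e1 : Nat.card R = Nat.card Q' := Subgroup.card_map_of_injective (MulAut.conj a).injective
    have e2 : Nat.card P' = Nat.card P := by
      rw [← haP]; exact (Subgroup.card_map_of_injective (MulAut.conj a).injective).symm
    refine mul_left_cancel₀ (Nat.card_pos (α := P)).ne' ?_
    rw [e1, hcPQ, hcard, ← hcPQ', e2]
  have hpG : p ∣ Nat.card G := hpH.trans (Subgroup.card_subgroup_dvd_card _)
  have hP1 : P ≠ ⊥ := S.ne_bot_of_dvd_card hpG
  -- a smaller group in which both p'-parts live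
  obtain ⟨M, hMlt, hMC, hQM, hRM⟩ : ∃ M : Subgroup G, Nat.card M < Nat.card G ∧
      M ≤ Subgroup.centralizer (P : Set G) ∧ Q ≤ M ∧ R ≤ M := by
    by_cases hC : Subgroup.centralizer (P : Set G) = ⊤
    · have hN : Cfsg.HasNormalPComplement p G :=
        ⟨S, _, inferInstance, MonoidHom.ker_transferSylow_isComplement' S
          (le_top.trans hC.ge)⟩
      rw [hasNormalPComplement_iff_pResidual] at hN
      refine ⟨Cfsg.pResidual p G, lt_of_le_of_ne (Subgroup.card_le_card_group _) (fun he => ?_),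
        le_top.trans hC.ge, ?_, ?_⟩
      · rw [he] at hN
        exact hp.coprime_iff_not_dvd.1 hN.symm hpG
      · exact fun x hx => coprime_orderOf_mem_pResidual
          (Nat.Coprime.coprime_dvd_left (Subgroup.orderOf_dvd_natCard _ hx) hQ)
      · exact fun x hx => coprime_orderOf_mem_pResidual
          (Nat.Coprime.coprime_dvd_left (Subgroup.orderOf_dvd_natCard _ hx) (hcR ▸ hQ))
    · exact ⟨_, lt_of_le_of_ne (Subgroup.card_le_card_group _)
        fun he => hC (Subgroup.eq_top_of_card_eq _ he), le_rfl, hQC, hRC⟩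
  have hQH : Q ≤ H := hPQ ▸ le_sup_right
  have hRn : Group.IsNilpotent R :=
    isNilpotent_map_conj (isNilpotent_of_le hK (hPQ' ▸ le_sup_right)) a
  have hcQ : (Nat.card Q).Coprime Q.index := by
    have h2 : Q.index = Nat.card P * H.index := by
      refine mul_left_cancel₀ (Nat.card_pos (α := Q)).ne' ?_
      rw [← mul_assoc, mul_comm (Nat.card Q) (Nat.card P), hcPQ, Subgroup.card_mul_index,
        Subgroup.card_mul_index]
    rw [h2]
    obtain ⟨k, hk⟩ := IsPGroup.iff_card.1 hP
    refine Nat.Coprime.mul_right (hk ▸ hQ.pow_right k) ?_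
    exact Nat.Coprime.coprime_dvd_left (Subgroup.card_dvd_of_le hQH) hcop
  obtain ⟨⟨c, hc⟩, hcQR⟩ := ih (Nat.card M) (hn ▸ hMlt) M rfl (Q.subgroupOf M) (R.subgroupOf M)
    ((Group.isNilpotent_congr (Subgroup.subgroupOfEquivOfLe hQM)).2 (isNilpotent_of_le hH hQH))
    ((Group.isNilpotent_congr (Subgroup.subgroupOfEquivOfLe hRM)).2 hRn)
    (by rw [Nat.card_congr (Subgroup.subgroupOfEquivOfLe hQM).toEquiv,
      Nat.card_congr (Subgroup.subgroupOfEquivOfLe hRM).toEquiv, hcR])
    (by
      rw [Nat.card_congr (Subgroup.subgroupOfEquivOfLe hQM).toEquiv]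
      exact hcQ.coprime_dvd_right (Subgroup.relIndex_dvd_index_of_le hQM))
  have hcR' : Q.map (MulAut.conj c).toMonoidHom = R := by
    have := congrArg (Subgroup.map M.subtype) hcQR
    rw [Subgroup.map_subgroupOf_eq_of_le hRM, Subgroup.map_map,
      show M.subtype.comp (MulAut.conj (⟨c, hc⟩ : M)).toMonoidHom =
        (MulAut.conj c).toMonoidHom.comp M.subtype from rfl,
      ← Subgroup.map_map, Subgroup.map_subgroupOf_eq_of_le hQM] at this
    exact this.symm
  have hcP : P.map (MulAut.conj c).toMonoidHom = P := by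
    ext z
    have hfix : ∀ w ∈ P, (MulAut.conj c).toMonoidHom w = w := fun w hw => by
      show c * w * c⁻¹ = w
      rw [mul_inv_eq_iff_eq_mul]
      exact (Subgroup.mem_centralizer_iff.1 (hMC hc) w hw).symm
    constructor
    · rintro ⟨w, hw, rfl⟩
      rwa [hfix w hw]
    · exact fun hz => ⟨z, hz, hfix z hz⟩
  refine ⟨a⁻¹ * c, ?_⟩
  have hKa : K.map (MulAut.conj a).toMonoidHom = H.map (MulAut.conj c).toMonoidHom := by
    rw [← hPQ', ← hPQ, Subgroup.map_sup, Subgroup.map_sup, haP, hcP, hcR']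
  rw [← map_conj_map_conj, ← hKa, map_conj_map_conj, inv_mul_cancel, map_one]
  exact (Subgroup.map_id K).symm

/-- Wielandt: nilpotent Hall subgroups of the same order are conjugate. -/
theorem nilpotent_hall_conj [Finite G] (H K : Subgroup G) (hH : Group.IsNilpotent H)
    (hK : Group.IsNilpotent K) (hcard : Nat.card H = Nat.card K)
    (hcop : (Nat.card H).Coprime H.index) : ∃ g : G, K = H.map (MulAut.conj g).toMonoidHom :=
  wielandt_aux _ G rfl H K hH hK hcard hcop

/-- A nilpotent Hall subgroup controlling its own fusion has a normal complement. -/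
theorem exists_normal_complement_of_controls [Finite G] (H : Subgroup G) (hH : Group.IsNilpotent H)
    (hcop : (Nat.card H).Coprime H.index)
    (h : ∀ x ∈ H, ∀ y ∈ H, (∃ g : G, g * x * g⁻¹ = y) → ∃ z ∈ H, z * x * z⁻¹ = y) :
    ∃ N : Subgroup G, N.Normal ∧ N.IsComplement' H := by
  have key : ∀ p : ℕ, p.Prime → p ∣ Nat.card H → Cfsg.HasNormalPComplement p G := by
    intro p hp hpH
    haveI := Fact.mk hp
    obtain ⟨P, Q, hPQ, hcPQ, hP, hQ, hQC⟩ := exists_nilpotent_split (p := p) H hH
    have hndvd : ¬ p ∣ P.index := by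
      intro hd
      have h2 : P.index = Nat.card Q * H.index := by
        refine mul_left_cancel₀ (Nat.card_pos (α := P)).ne' ?_
        rw [← mul_assoc, hcPQ, Subgroup.card_mul_index, Subgroup.card_mul_index]
      rw [h2] at hd
      rcases (Nat.Prime.dvd_mul hp).1 hd with h | h
      · exact hp.coprime_iff_not_dvd.1 hQ.symm h
      · exact hp.coprime_iff_not_dvd.1 (Nat.Coprime.coprime_dvd_left hpH hcop) h
    refine hasNormalPComplement_of_controls (P := hP.toSylow hndvd) fun x hx y hy hxy => ?_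
    have hPH : P ≤ H := hPQ ▸ le_sup_left
    obtain ⟨z, hz, hz'⟩ := h x (hPH hx) y (hPH hy) hxy
    have hz2 : z ∈ P ⊔ Q := hPQ.symm ▸ hz
    rw [← SetLike.mem_coe, Subgroup.coe_mul_of_right_le_normalizer_left P Q
      (hQC.trans (Subgroup.centralizer_le_normalizer _))] at hz2
    obtain ⟨u, hu, v, hv, rfl⟩ := hz2
    refine ⟨u, hu, ?_⟩
    rw [← hz']
    calc u * x * u⁻¹ = u * (v * x * v⁻¹) * u⁻¹ := by
          rw [show v * x = x * v from (Subgroup.mem_centralizer_iff.1 (hQC hv) x hx).symm,
            mul_inv_cancel_right]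
      _ = u * v * x * (u * v)⁻¹ := by group
  classical
  let N : Subgroup G := ⨅ p ∈ (Nat.card H).primeFactors, Cfsg.pResidual p G
  have hNn : N.Normal := by
    refine ⟨fun n hn g => ?_⟩
    simp only [N, Subgroup.mem_iInf] at hn ⊢
    exact fun p hp => (pResidual_normal p).conj_mem n (hn p hp) g
  have hmem : ∀ p ∈ (Nat.card H).primeFactors, p.Prime ∧ p ∣ Nat.card H :=
    fun p hp => ⟨Nat.prime_of_mem_primeFactors hp, Nat.dvd_of_mem_primeFactors hp⟩
  refine ⟨N, hNn, ?_⟩
  have hcN : (Nat.card N).Coprime (Nat.card H) := by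
    refine Nat.coprime_of_dvd fun q hq hqN hqH => ?_
    haveI := Fact.mk hq
    have hk := key q hq hqH
    rw [hasNormalPComplement_iff_pResidual] at hk
    refine hq.coprime_iff_not_dvd.1 hk.symm (hqN.trans (Subgroup.card_dvd_of_le ?_))
    exact iInf₂_le q (Nat.mem_primeFactors.2 ⟨hq, hqH, Nat.card_pos.ne'⟩)
  have hexp : ∀ x : G, x ^ Nat.card H ∈ N := by
    intro x
    simp only [N, Subgroup.mem_iInf]
    intro p hp
    haveI := Fact.mk (hmem p hp).1
    have hd : ordProj[p] (orderOf x) ∣ Nat.card H := by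
      have h2 : ordProj[p] (orderOf x) ∣ Nat.card H * H.index := by
        rw [Subgroup.card_mul_index]
        exact (Nat.ordProj_dvd _ _).trans (orderOf_dvd_natCard x)
      refine Nat.Coprime.dvd_of_dvd_mul_right (Nat.Coprime.pow_left _ ?_) h2
      exact Nat.Coprime.coprime_dvd_left (hmem p hp).2 hcop
    obtain ⟨c, hc⟩ := hd
    rw [hc, pow_mul]
    exact pow_mem (pow_ordProj_mem_pResidual x) c
  have hidx : N.index.Coprime H.index := by
    refine Nat.coprime_of_dvd fun q hq hqN hqH => ?_
    haveI := Fact.mk hq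
    haveI := hNn
    rw [Subgroup.index_eq_card] at hqN
    obtain ⟨z, hz⟩ := exists_prime_orderOf_dvd_card' q hqN
    obtain ⟨x, rfl⟩ := QuotientGroup.mk'_surjective N z
    have h3 : (QuotientGroup.mk' N x) ^ Nat.card H = 1 := by
      rw [← map_pow]
      exact (QuotientGroup.eq_one_iff _).2 (hexp x)
    have h4 : q ∣ Nat.card H := hz ▸ orderOf_dvd_of_pow_eq_one h3
    exact hq.coprime_iff_not_dvd.1 (Nat.Coprime.coprime_dvd_left h4 hcop) hqH
  have e : Nat.card N * N.index = Nat.card H * H.index := by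
    rw [Subgroup.card_mul_index, Subgroup.card_mul_index]
  refine Subgroup.isComplement'_of_coprime ?_ hcN
  refine Nat.dvd_antisymm ?_ ?_
  · rw [mul_comm, ← Subgroup.card_mul_index H]
    exact Nat.mul_dvd_mul_left _ (hcN.dvd_of_dvd_mul_left ⟨N.index, e.symm⟩)
  · rw [← Subgroup.card_mul_index N]
    refine Nat.mul_dvd_mul_left _ ?_
    exact hidx.dvd_of_dvd_mul_right ⟨Nat.card N, by rw [← e, mul_comm]⟩

end Cfsg.Lib.Transfer
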