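import Mathlib
import Cfsg.Prelude.Def_OddOrderLocal

/-!
# Powers in metacyclic groups of odd prime power order

In such a group `x ^ p ^ i = y ^ p ^ i` if and only if `(x⁻¹ * y) ^ p ^ i = 1`.
-/

set_option autoImplicit false

namespace Cfsg.Lib.Transfer.Metacyclic

open Finset

/-- The geometric sum. -/
def gsum (R : ℤ) (n : ℕ) : ℤ := ∑ j ∈ range n, R ^ j

theorem gsum_mul (R : ℤ) (m n : ℕ) : gsum R (m * n) = gsum R m * gsum (R ^ m) n := by
  induction n with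
  | zero => simp [gsum]
  | succ n ih =>
    rw [Nat.mul_succ]
    simp only [gsum] at ih ⊢
    rw [sum_range_add, ih, sum_range_succ, mul_add, ← pow_mul]
    congr 1
    rw [sum_mul]
    exact sum_congr rfl fun j _ => by rw [pow_add, mul_comm]

theorem gsum_mul_sub (R : ℤ) (n : ℕ) : gsum R n * (R - 1) = R ^ n - 1 := geom_sum_mul R n

variable {p : ℕ}

theorem dvd_pow_sub_one {R : ℤ} (hR : (p : ℤ) ∣ R - 1) (k : ℕ) : (p : ℤ) ∣ R ^ k - 1 :=
  hR.trans (by simpa using sub_dvd_pow_sub_pow R 1 k)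

theorem gsum_sub_dvd [hp : Fact p.Prime] (hodd : p ≠ 2) {R R' : ℤ} (hR : (p : ℤ) ∣ R - 1)
    (hR' : (p : ℤ) ∣ R' - 1) (i : ℕ) :
    ((p : ℤ) ^ i * (R' - R)) ∣ gsum R' (p ^ i) - gsum R (p ^ i) := by
  have base : ∀ A B : ℤ, (p : ℤ) ∣ A - 1 → (p : ℤ) ∣ B - 1 →
      ((p : ℤ) * (B - A)) ∣ gsum B p - gsum A p := by
    intro A B hA hB
    have h1 : gsum B p - gsum A p =
        (B - A) * ∑ j ∈ range p, ∑ l ∈ range j, B ^ l * A ^ (j - 1 - l) := by
      rw [gsum, gsum, ← sum_sub_distrib, mul_sum]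
      refine sum_congr rfl fun j _ => ?_
      rw [mul_comm, geom_sum₂_mul]
    rw [h1, mul_comm]
    refine mul_dvd_mul_left _ ?_
    rw [← ZMod.intCast_zmod_eq_zero_iff_dvd]
    have hA' : (A : ZMod p) = 1 := by
      rw [← sub_eq_zero, ← Int.cast_one, ← Int.cast_sub, ZMod.intCast_zmod_eq_zero_iff_dvd]
      exact hA
    have hB' : (B : ZMod p) = 1 := by
      rw [← sub_eq_zero, ← Int.cast_one, ← Int.cast_sub, ZMod.intCast_zmod_eq_zero_iff_dvd]
      exact hB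
    push_cast
    rw [hA', hB']
    simp only [one_pow, mul_one, sum_const, card_range, nsmul_eq_mul]
    rw [← Nat.cast_sum, ZMod.natCast_eq_zero_iff]
    have h2 : (∑ j ∈ range p, j) * 2 = p * (p - 1) := sum_range_id_mul_two p
    exact (Nat.Coprime.dvd_of_dvd_mul_right
      ((Nat.coprime_primes hp.out Nat.prime_two).2 hodd) ⟨p - 1, h2⟩)
  induction i with
  | zero => simp [gsum]
  | succ i ih =>
    rw [pow_succ p i, gsum_mul, gsum_mul, pow_succ (p : ℤ) i]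
    obtain ⟨u, hu⟩ := ih
    obtain ⟨w, hw⟩ := base (R ^ p ^ i) (R' ^ p ^ i) (dvd_pow_sub_one hR _) (dvd_pow_sub_one hR' _)
    obtain ⟨v, hv⟩ := sub_dvd_pow_sub_pow R' R (p ^ i)
    have hp1 : (p : ℤ) ∣ gsum (R' ^ p ^ i) p := by
      rw [← ZMod.intCast_zmod_eq_zero_iff_dvd]
      have hB' : ((R' ^ p ^ i : ℤ) : ZMod p) = 1 := by
        rw [← sub_eq_zero, ← Int.cast_one, ← Int.cast_sub, ZMod.intCast_zmod_eq_zero_iff_dvd]
        exact dvd_pow_sub_one hR' _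
      rw [gsum, Int.cast_sum, Finset.sum_congr rfl fun j _ => by rw [Int.cast_pow, hB', one_pow]]
      simp
    have hpi : ((p : ℤ) ^ i) ∣ gsum R (p ^ i) := by
      clear u hu w hw v hv hp1
      induction i with
      | zero => simp
      | succ i ih2 =>
        rw [pow_succ p i, gsum_mul, pow_succ (p : ℤ) i]
        refine mul_dvd_mul ih2 ?_
        rw [← ZMod.intCast_zmod_eq_zero_iff_dvd]
        have hB' : ((R ^ p ^ i : ℤ) : ZMod p) = 1 := by
          rw [← sub_eq_zero, ← Int.cast_one, ← Int.cast_sub, ZMod.intCast_zmod_eq_zero_iff_dvd]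
          exact dvd_pow_sub_one hR _
        rw [gsum, Int.cast_sum, Finset.sum_congr rfl fun j _ => by rw [Int.cast_pow, hB', one_pow]]
        simp
    obtain ⟨s, hs⟩ := hp1
    obtain ⟨t, ht⟩ := hpi
    refine ⟨u * s + t * v * w, ?_⟩
    have : gsum R' (p ^ i) * gsum (R' ^ p ^ i) p - gsum R (p ^ i) * gsum (R ^ p ^ i) p =
        (gsum R' (p ^ i) - gsum R (p ^ i)) * gsum (R' ^ p ^ i) p +
          gsum R (p ^ i) * (gsum (R' ^ p ^ i) p - gsum (R ^ p ^ i) p) := by ring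
    rw [this, hu, hw, hs, ht, hv]
    ring

theorem gsum_eq [Fact p.Prime] (hodd : p ≠ 2) {R : ℤ} (hR : (p : ℤ) ∣ R - 1) (i : ℕ) :
    ∃ z, gsum R (p ^ i) = (p : ℤ) ^ i + (p : ℤ) ^ i * (R - 1) * z := by
  obtain ⟨z, hz⟩ := gsum_sub_dvd hodd (R := 1) (R' := R) (by simp) hR i
  refine ⟨z, ?_⟩
  have h1 : gsum 1 (p ^ i) = (p : ℤ) ^ i := by simp [gsum]
  rw [← h1, ← sub_eq_iff_eq_add', hz, h1]

variable {G : Type*} [Group G]

theorem conj_pow_mul {a b : G} {R : ℤ} (hR : b * a * b⁻¹ = a ^ R) (u : ℤ) (n : ℕ) :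
    (a ^ u * b) ^ n = a ^ (u * gsum R n) * b ^ n := by
  induction n with
  | zero => simp [gsum]
  | succ n ih =>
    have h : ∀ k : ℕ, b ^ k * a ^ u = a ^ (u * R ^ k) * b ^ k := by
      intro k
      induction k with
      | zero => simp
      | succ k ihk =>
        have e : b * a ^ (u * R ^ k) = a ^ (u * R ^ (k + 1)) * b := by
          rw [← mul_inv_eq_iff_eq_mul, ← conj_zpow, hR, ← zpow_mul]
          congr 1; ring
        rw [pow_succ', mul_assoc, ihk, ← mul_assoc, e, mul_assoc]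
    rw [pow_succ, ih, mul_assoc, ← mul_assoc (b ^ n), h n, mul_assoc (a ^ (u * R ^ n)), ← pow_succ,
      ← mul_assoc, ← zpow_add, gsum, gsum, sum_range_succ, mul_add]

theorem conj_pow_base {a b : G} {r : ℤ} (hr : b * a * b⁻¹ = a ^ r) (k : ℕ) :
    b ^ k * a * (b ^ k)⁻¹ = a ^ (r ^ k) := by
  induction k with
  | zero => simp
  | succ k ih =>
    calc b ^ (k + 1) * a * (b ^ (k + 1))⁻¹ = b * (b ^ k * a * (b ^ k)⁻¹) * b⁻¹ := by
          rw [pow_succ']; group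
      _ = a ^ (r ^ (k + 1)) := by rw [ih, ← conj_zpow, hr, ← zpow_mul]; ring_nf

/-- A metacyclic presentation. -/
structure Data (p : ℕ) (a b : G) (r : ℤ) : Prop where
  rel : b * a * b⁻¹ = a ^ r
  one : (p : ℤ) ∣ r - 1
  cover : ∀ x : G, ∃ u : ℤ, ∃ k : ℕ, x = a ^ u * b ^ k
  comm : ∀ x y : G, x * y * x⁻¹ * y⁻¹ ∈ Subgroup.zpowers a

theorem Data.key [hp : Fact p.Prime] (hodd : p ≠ 2) {a b : G} {r : ℤ} (h : Data p a b r)
    (hG : IsPGroup p G) (u u' : ℤ) (k d i : ℕ) :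
    (a ^ u * b ^ k) ^ p ^ i = (a ^ u' * b ^ (k + d)) ^ p ^ i ↔
      ((a ^ u * b ^ k)⁻¹ * (a ^ u' * b ^ (k + d))) ^ p ^ i = 1 := by
  obtain ⟨e, he⟩ := hG a
  set n := p ^ i with hn
  have hM : ∀ {z : ℤ}, a ^ z = 1 ↔ ((orderOf a : ℕ) : ℤ) ∣ z := fun {z} =>
    orderOf_dvd_iff_zpow_eq_one.symm
  obtain ⟨m, hm⟩ : ∃ m, orderOf a = p ^ m := (IsPGroup.iff_orderOf.1 hG) a
  have hcop : ∀ {z : ℤ}, ¬ (p : ℤ) ∣ z → ∀ {w : ℤ}, a ^ (w * z) = 1 → a ^ w = 1 := by
    intro z hz w hw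
    rw [hM, hm, Nat.cast_pow] at hw ⊢
    exact (((Nat.prime_iff_prime_int.1 hp.out).coprime_iff_not_dvd).2 hz).pow_left.dvd_of_dvd_mul_right hw
  have hunit : ∀ z R : ℤ, (p : ℤ) ∣ R - 1 → ¬ (p : ℤ) ∣ 1 + (R - 1) * z := by
    intro z R hR hd
    have := Int.dvd_sub hd (hR.mul_right z)
    rw [add_sub_cancel_right] at this
    exact (Nat.prime_iff_prime_int.1 hp.out).not_unit (isUnit_of_dvd_one this)
  set Rk := r ^ k
  set Rd := r ^ d
  set Rk' := r ^ (k + d)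
  have hRk : (p : ℤ) ∣ Rk - 1 := dvd_pow_sub_one h.one k
  have hRd : (p : ℤ) ∣ Rd - 1 := dvd_pow_sub_one h.one d
  have hRk' : (p : ℤ) ∣ Rk' - 1 := dvd_pow_sub_one h.one (k + d)
  -- consequences of `b ^ (d n)` being a power of `a`
  have cons : ∀ E : ℤ, b ^ (d * n) = a ^ E →
      a ^ ((p : ℤ) ^ i * (Rd - 1)) = 1 ∧ a ^ (E * (r - 1)) = 1 := by
    intro E hE
    constructor
    · have h1 := conj_pow_base h.rel (d * n)
      rw [hE, show a ^ E * a * (a ^ E)⁻¹ = a by group, pow_mul] at h1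
      have h2 : a ^ (Rd ^ n - 1) = 1 := by rw [zpow_sub, zpow_one, ← h1, mul_inv_cancel]
      obtain ⟨z, hz⟩ := gsum_eq hodd hRd i
      rw [← gsum_mul_sub, hn, hz] at h2
      refine hcop (hunit z Rd hRd) ?_
      rw [← h2]
      congr 1
      ring
    · have h1 : b * a ^ E * b⁻¹ = a ^ E := by rw [← hE]; group
      rw [← conj_zpow, h.rel, ← zpow_mul] at h1
      rw [mul_sub, mul_one, zpow_sub, mul_comm E r, h1, mul_inv_cancel]
  have hS : a ^ ((p : ℤ) ^ i * (Rd - 1)) = 1 → ∀ w : ℤ,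
      a ^ (w * gsum Rk' n) = a ^ (w * gsum Rk n) ∧ a ^ (w * gsum Rd n) = a ^ (w * (p : ℤ) ^ i) := by
    intro h0 w
    rw [hM] at h0
    constructor
    · obtain ⟨z, hz⟩ := gsum_sub_dvd hodd hRk hRk' i
      rw [← mul_inv_eq_one, ← zpow_sub, ← mul_sub, hM, hn, hz,
        show Rk' - Rk = Rk * (Rd - 1) by simp only [Rk', Rk, Rd, pow_add]; ring]
      exact Dvd.dvd.mul_left (Dvd.dvd.mul_right (by
        rw [mul_left_comm]; exact h0.mul_left _) z) w
    · obtain ⟨z, hz⟩ := gsum_eq hodd hRd i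
      rw [← mul_inv_eq_one, ← zpow_sub, ← mul_sub, hM, hn, hz, add_sub_cancel_left]
      exact Dvd.dvd.mul_left (h0.mul_right z) w
  have hxn : ∀ (u : ℤ) (k : ℕ), (a ^ u * b ^ k) ^ n = a ^ (u * gsum (r ^ k) n) * b ^ (k * n) := by
    intro u k
    rw [conj_pow_mul (conj_pow_base h.rel k), pow_mul]
  have hc : ((a ^ u * b ^ k)⁻¹ * (a ^ u' * b ^ (k + d))) ^ n =
      (b ^ k)⁻¹ * (a ^ ((u' - u) * gsum Rd n) * b ^ (d * n)) * b ^ k := by
    rw [← hxn (u' - u) d]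
    have e1 : (a ^ u * b ^ k)⁻¹ * (a ^ u' * b ^ (k + d)) =
        MulAut.conj (b ^ k)⁻¹ (a ^ (u' - u) * b ^ d) := by
      rw [MulAut.conj_apply, zpow_sub, inv_inv, add_comm, pow_add]
      group
    rw [e1, ← map_pow, MulAut.conj_apply, inv_inv]
  have hconj : ∀ X : G, (b ^ k)⁻¹ * X * b ^ k = 1 ↔ X = 1 := fun X =>
    ⟨fun hX => by
      calc X = b ^ k * ((b ^ k)⁻¹ * X * b ^ k) * (b ^ k)⁻¹ := by group
        _ = 1 := by rw [hX]; group, fun hX => by rw [hX]; group⟩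
  rw [hc, hxn, hxn, hconj]
  constructor
  · intro heq
    have hE : b ^ (d * n) = a ^ (u * gsum Rk n - u' * gsum Rk' n) := by
      have h1 : b ^ (k * n) * b ^ (d * n) =
          a ^ (u * gsum Rk n - u' * gsum Rk' n) * b ^ (k * n) := by
        rw [← pow_add, ← add_mul, sub_eq_add_neg, zpow_add, mul_assoc]
        rw [← mul_assoc]
        rw [show a ^ (u * gsum Rk n) * a ^ (-(u' * gsum Rk' n)) =
          a ^ (-(u' * gsum Rk' n)) * a ^ (u * gsum Rk n) by rw [← zpow_add, ← zpow_add, add_comm],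
          mul_assoc, heq, ← mul_assoc, ← zpow_add, neg_add_cancel, zpow_zero, one_mul]
      have h2 : b ^ (d * n) * b ^ (k * n) = a ^ (u * gsum Rk n - u' * gsum Rk' n) * b ^ (k * n) := by
        rw [← h1, ← pow_add, ← pow_add, add_comm]
      exact mul_right_cancel h2
    obtain ⟨h0, h1⟩ := cons _ hE
    have hA := (hS h0 u').1
    have hE' : a ^ (u * gsum Rk n - u' * gsum Rk' n) = a ^ ((u - u') * gsum Rk n) := by
      rw [zpow_sub, hA, ← zpow_sub]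
      ring_nf
    obtain ⟨z, hz⟩ := gsum_eq hodd hRk i
    obtain ⟨q, hq⟩ : (r - 1) ∣ Rk - 1 := by simpa using sub_dvd_pow_sub_pow r 1 k
    have h3 : a ^ ((u - u') * (p : ℤ) ^ i * (r - 1)) = 1 := by
      refine hcop (hunit z Rk hRk) ?_
      calc a ^ ((u - u') * (p : ℤ) ^ i * (r - 1) * (1 + (Rk - 1) * z))
          = (a ^ ((u - u') * gsum Rk n)) ^ (r - 1) := by rw [← zpow_mul, hn, hz]; ring_nf
        _ = 1 := by rw [← hE', ← zpow_mul]; exact h1
    have h4 : a ^ ((u - u') * gsum Rk n) = a ^ ((u - u') * (p : ℤ) ^ i) := by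
      rw [hn, hz, mul_add, zpow_add, hq,
        show (u - u') * ((p : ℤ) ^ i * ((r - 1) * q) * z) =
          (u - u') * (p : ℤ) ^ i * (r - 1) * (q * z) by ring, zpow_mul a _ (q * z), h3, one_zpow,
        mul_one]
    rw [(hS h0 (u' - u)).2, hE, hE', h4, ← zpow_add]
    rw [← zpow_zero a]
    congr 1
    ring
  · intro hcn
    have hE : b ^ (d * n) = a ^ (-((u' - u) * gsum Rd n)) := by
      rw [zpow_neg]; exact eq_inv_of_mul_eq_one_right hcn
    obtain ⟨h0, h1⟩ := cons _ hE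
    have hA := (hS h0 u').1
    have hB := (hS h0 (u' - u)).2
    have h3 : a ^ ((u' - u) * (p : ℤ) ^ i * (r - 1)) = 1 := by
      rw [zpow_mul, zpow_neg, hB, inv_zpow, inv_eq_one, ← zpow_mul] at h1
      exact h1
    obtain ⟨z, hz⟩ := gsum_eq hodd hRk i
    obtain ⟨q, hq⟩ : (r - 1) ∣ Rk - 1 := by simpa using sub_dvd_pow_sub_pow r 1 k
    have h4 : a ^ ((u' - u) * gsum Rk n) = a ^ ((u' - u) * (p : ℤ) ^ i) := by
      rw [hn, hz, mul_add, zpow_add, hq,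
        show (u' - u) * ((p : ℤ) ^ i * ((r - 1) * q) * z) =
          (u' - u) * (p : ℤ) ^ i * (r - 1) * (q * z) by ring, zpow_mul a _ (q * z), h3, one_zpow,
        mul_one]
    rw [hA, show (k + d) * n = d * n + k * n by ring, pow_add, ← mul_assoc, hE, zpow_neg, hB, ← h4,
      ← zpow_neg, ← zpow_add]
    congr 2
    ring

/-- Regularity of powers. -/
theorem Data.pow_eq_iff [hp : Fact p.Prime] (hodd : p ≠ 2) {a b : G} {r : ℤ} (h : Data p a b r)
    (hG : IsPGroup p G) (x y : G) (i : ℕ) :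
    x ^ p ^ i = y ^ p ^ i ↔ (x⁻¹ * y) ^ p ^ i = 1 := by
  obtain ⟨u, k, rfl⟩ := h.cover x
  obtain ⟨u', k', rfl⟩ := h.cover y
  rcases Nat.le_total k k' with hle | hle
  · obtain ⟨d, rfl⟩ := Nat.exists_eq_add_of_le hle
    exact h.key hodd hG u u' k d i
  · obtain ⟨d, rfl⟩ := Nat.exists_eq_add_of_le hle
    rw [eq_comm, h.key hodd hG u' u k' d i, ← inv_eq_one, ← inv_pow, mul_inv_rev, inv_inv]

/-- Metacyclic groups of odd prime power order have such data. -/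
theorem exists_data [hp : Fact p.Prime] [Finite G] (hG : IsPGroup p G) (hm : Cfsg.IsMetacyclic G) :
    ∃ (a b : G) (r : ℤ), Data p a b r ∧ (Subgroup.zpowers a).Normal ∧
      True := by
  obtain ⟨N, hN, hNc, hQc⟩ := hm
  obtain ⟨a, ha⟩ := (Subgroup.isCyclic_iff_exists_zpowers_eq_top (H := N)).1 hNc
  subst ha
  obtain ⟨bq, hbq⟩ := IsCyclic.exists_generator (α := G ⧸ Subgroup.zpowers a)
  obtain ⟨b, rfl⟩ := QuotientGroup.mk_surjective bq
  obtain ⟨r₀, hr₀⟩ := Subgroup.mem_zpowers_iff.1 (hN.conj_mem a (Subgroup.mem_zpowers a) b)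
  obtain ⟨r, hr, hr1⟩ : ∃ r : ℤ, b * a * b⁻¹ = a ^ r ∧ (p : ℤ) ∣ r - 1 := by
    by_cases ha1 : a = 1
    · exact ⟨1, by simp [ha1], by simp⟩
    refine ⟨r₀, hr₀.symm, ?_⟩
    obtain ⟨m, hm⟩ := (IsPGroup.iff_orderOf.1 hG) a
    obtain ⟨s, hs⟩ := (IsPGroup.iff_orderOf.1 hG) b
    have h1 := conj_pow_base hr₀.symm (p ^ s)
    rw [← hs, pow_orderOf_eq_one, one_mul, inv_one, mul_one] at h1
    have h2 : ((orderOf a : ℕ) : ℤ) ∣ r₀ ^ p ^ s - 1 := by
      rw [orderOf_dvd_iff_zpow_eq_one, zpow_sub, zpow_one, ← hs, ← h1, mul_inv_cancel]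
    have h3 : (p : ℤ) ∣ r₀ ^ p ^ s - 1 := by
      refine (Int.natCast_dvd_natCast.2 ?_).trans h2
      rcases m with _ | m
      · exact absurd (orderOf_eq_one_iff.1 (by simpa using hm)) ha1
      · exact hm ▸ dvd_pow_self p m.succ_ne_zero
    rw [← ZMod.intCast_zmod_eq_zero_iff_dvd] at h3 ⊢
    push_cast at h3 ⊢
    rwa [ZMod.pow_card_pow] at h3
  refine ⟨a, b, r, ⟨hr, hr1, fun x => ?_, fun x y => ?_⟩, hN, trivial⟩
  · obtain ⟨k, hk⟩ : ∃ k : ℕ, (QuotientGroup.mk b : G ⧸ Subgroup.zpowers a) ^ k = QuotientGroup.mk x :=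
      (mem_powers_iff_mem_zpowers.2 (hbq _))
    rw [← QuotientGroup.mk_pow, eq_comm, QuotientGroup.eq] at hk
    have h5 := hN.conj_mem _ hk x
    obtain ⟨u, hu⟩ := Subgroup.mem_zpowers_iff.1 h5
    exact ⟨-u, k, by rw [zpow_neg, hu]; group⟩
  · rw [← QuotientGroup.eq_one_iff]
    simp only [QuotientGroup.mk_mul, QuotientGroup.mk_inv]
    haveI := hQc
    rw [mul_comm' (QuotientGroup.mk x : G ⧸ Subgroup.zpowers a) (QuotientGroup.mk y),
      mul_assoc, mul_assoc, mul_inv_cancel_left, mul_inv_cancel]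

end Cfsg.Lib.Transfer.Metacyclic
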