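import Mathlib
import Cfsg.Agent.Lib.Comp.Constrained
import Cfsg.Agent.Lib.PLocal.Factorization
import Cfsg.Agent.Lib.Transfer.Frobenius

/-!
Fusion modulo `O_{p'}`: `G = O_{p'}(G) N(P ∩ O_{p',p}(G))`.
-/

set_option autoImplicit false

namespace Cfsg.Lib.Transfer

variable {G : Type*} [Group G] [Finite G] {p : ℕ} [Fact p.Prime]

theorem inf_sup_core_eq (S : Sylow p G) :
    (S : Subgroup G) ⊓ Cfsg.pPrimePCore p G ⊔ Cfsg.pPrimeCore p G = Cfsg.pPrimePCore p G := by
  haveI : (Cfsg.pPrimePCore p G).Normal := by unfold Cfsg.pPrimePCore; infer_instance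
  set T := Cfsg.pPrimePCore p G with hT
  have hp : IsPGroup p ↥((S : Subgroup G).subgroupOf T) :=
    S.2.comap_of_injective T.subtype T.subtype_injective
  have hidx : ¬ p ∣ ((S : Subgroup G).subgroupOf T).index := fun h =>
    S.not_dvd_index (h.trans (relIndex_dvd_index_of_normal_right _ _))
  have h := Cfsg.Lib.Comp.sylow_sup_core_eq (hp.toSylow hidx)
  rwa [show ((hp.toSylow hidx : Sylow p ↥T) : Subgroup ↥T) = (S : Subgroup G).subgroupOf T from rfl,
    Subgroup.subgroupOf_map_subtype] at h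

theorem exists_core_mul_normalizer (S : Sylow p G) (g : G) :
    ∃ o ∈ Cfsg.pPrimeCore p G, o * g ∈ Subgroup.normalizer
      (((S : Subgroup G) ⊓ Cfsg.pPrimePCore p G : Subgroup G) : Set G) := by
  haveI : (Cfsg.pPrimePCore p G).Normal := by unfold Cfsg.pPrimePCore; infer_instance
  refine Cfsg.Lib.PLocal.exists_mul_mem_normalizer _ _ (Cfsg.Lib.Solv.coprime_pPrimeCore p)
    (S.2.to_le inf_le_left) ?_
  rw [sup_comm, inf_sup_core_eq S]
  rintro _ ⟨x, hx, rfl⟩
  exact Subgroup.Normal.conj_mem inferInstance x hx.2 g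

theorem eq_of_mem_pgroup_core {S : Subgroup G} (hS : IsPGroup p ↥S) {x : G} (hx : x ∈ S)
    (hxO : x ∈ Cfsg.pPrimeCore p G) : x = 1 := by
  obtain ⟨k, hk⟩ := hS.exists_card_eq
  have h1 := hk ▸ Subgroup.orderOf_dvd_natCard S hx
  have h2 := Subgroup.orderOf_dvd_natCard _ hxO
  exact orderOf_eq_one_iff.1 (Nat.eq_one_of_dvd_coprimes
    ((Cfsg.Lib.Solv.coprime_pPrimeCore p).pow_right k).symm h1 h2)

end Cfsg.Lib.Transfer
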