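import Mathlib
import Cfsg.Prelude.Def_FusionSystem
import Cfsg.Agent.Lib.Fusion.GroupSystem
import Cfsg.Agent.Lib.Fusion.Hyperfocal
import Cfsg.Agent.Lib.Fusion.LocalSystem
import Cfsg.Agent.Lib.Fusion.TateFusion
import Cfsg.Agent.Lib.Fusion.YoshidaFusion
import Cfsg.Agent.Lib.Transfer.NormalPComplement
import Cfsg.Agent.Lib.Transfer.Frobenius

/-!
The hyperfocal subgroup theorem for groups, and control of the p-residual by the Sylow normalizer in
the absence of a wreath quotient.
-/

set_option autoImplicit false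
set_option linter.style.haveILetI false
set_option linter.unusedVariables false

namespace Cfsg.Lib.Transfer.GroupHyperfocal

open Cfsg Cfsg.Lib.Fusion Cfsg.FusionSystem Subgroup

universe u

variable {G : Type u} [Group G] {p : ℕ}

theorem hyperfocal_le_of {S : Subgroup G} {F : FusionSystem S} (D : Subgroup G)
    (h : ∀ P : Subgroup G, P ≤ S → ∀ α : MulAut P, α ∈ F.autGroup P → (orderOf α).Coprime p →
      ∀ x : P, (x : G)⁻¹ * (α x : G) ∈ D) : F.hyperfocalSubgroup p ≤ D := by
  refine (Subgroup.closure_le _).2 ?_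
  rintro _ ⟨P, α, x, hP, hα, rfl⟩
  revert x
  refine Subgroup.closure_induction (p := fun (β : F.autGroup P) _ =>
    ∀ x : P, (x : G)⁻¹ * ((β : MulAut P) x : G) ∈ D) ?_ ?_ ?_ ?_ hα
  · intro β hβ x
    refine h P hP β β.2 ?_ x
    rw [Subgroup.orderOf_coe]
    exact hβ
  · intro x; simp
  · intro a b _ _ ha hb x
    have := D.mul_mem (hb x) (ha ((b : MulAut P) x))
    simpa [mul_assoc] using this
  · intro a _ ha x
    have := D.inv_mem (ha ((a : MulAut P)⁻¹ x))
    simpa [mul_assoc] using this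

theorem realizes_pow {P : Subgroup G} {α : MulAut P} {c : G}
    (h : ∀ x : P, (α x : G) = c * x * c⁻¹) (k : ℕ) (x : P) :
    ((α ^ k) x : G) = c ^ k * x * (c ^ k)⁻¹ := by
  induction k generalizing x with
  | zero => simp
  | succ k ih =>
    rw [pow_succ, MulAut.mul_apply, ih, h, pow_succ]
    group

theorem pow_orderOf_eq_one' {P : Subgroup G} {α : MulAut P} {c : G}
    (h : ∀ x : P, (α x : G) = c * x * c⁻¹) : α ^ orderOf c = 1 := by
  ext x
  rw [realizes_pow h, pow_orderOf_eq_one]
  simp

/-- An automorphism of order prime to `p` induced by conjugation is induced by a `p'`-element. -/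
theorem exists_coprime_realizer [Finite G] [hp : Fact p.Prime] {P : Subgroup G} {α : MulAut P}
    {M : Subgroup G} {c : G} (hc : c ∈ M) (h : ∀ x : P, (α x : G) = c * x * c⁻¹)
    (hα : (orderOf α).Coprime p) :
    ∃ d ∈ M, (orderOf d).Coprime p ∧ ∀ x : P, (α x : G) = d * x * d⁻¹ := by
  set n := orderOf c
  have hn : n ≠ 0 := (orderOf_pos c).ne'
  set a := p ^ n.factorization p
  set b := n / a
  have hab : a * b = n := Nat.ordProj_mul_ordCompl_eq_self n p
  have hb : b.Coprime p := (Nat.coprime_ordCompl hp.out hn).symm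
  have hcop : b.Coprime a := hb.pow_right _
  obtain ⟨k, hk1, hk2⟩ := Nat.chineseRemainder hcop 1 0
  have hdvd : orderOf α ∣ b := by
    have h1 : orderOf α ∣ a * b := hab ▸ orderOf_dvd_of_pow_eq_one (pow_orderOf_eq_one' h)
    exact (hα.pow_right _).dvd_of_dvd_mul_left h1
  have hαk : α ^ k = α := by
    conv_rhs => rw [← pow_one α]
    rw [pow_eq_pow_iff_modEq]
    exact hk1.of_dvd hdvd
  refine ⟨c ^ k, pow_mem hc k, ?_, fun x => ?_⟩
  · refine Nat.Coprime.coprime_dvd_left (orderOf_dvd_of_pow_eq_one ?_) hb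
    obtain ⟨q, hq⟩ : a ∣ k := Nat.modEq_zero_iff_dvd.1 hk2
    rw [← pow_mul, hq, show a * q * b = n * q by rw [← hab]; ring, pow_mul, pow_orderOf_eq_one,
      one_pow]
  · rw [← realizes_pow h k x, hαk]

theorem hyperfocal_group_le [Finite G] [Fact p.Prime] (S : Sylow p G) (D : Subgroup G)
    (h : ∀ P : Subgroup G, P ≤ (S : Subgroup G) → ∀ d : G, (orderOf d).Coprime p →
      (∀ x ∈ P, d * x * d⁻¹ ∈ P) → ∀ x ∈ P, x⁻¹ * (d * x * d⁻¹) ∈ D) :
    (groupFusionSystem (S : Subgroup G)).hyperfocalSubgroup p ≤ D := by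
  refine hyperfocal_le_of D fun P hP α hα hcop x => ?_
  obtain ⟨-, c, hc⟩ := mor_group_iff.1 ((mem_autGroup_iff hP).1 hα)
  obtain ⟨d, -, hd, hde⟩ := exists_coprime_realizer (M := ⊤) (Subgroup.mem_top c)
    (fun y => (autFun_coe α y).symm.trans (hc y y.2).1) hcop
  rw [hde]
  exact h P hP d hd (fun y hy => hde ⟨y, hy⟩ ▸ (α ⟨y, hy⟩).2) x x.2

theorem mem_hyperfocal_group [Finite G] [Fact p.Prime] (S : Sylow p G) {P : Subgroup G}
    (hP : P ≤ (S : Subgroup G)) {d : G} (hd : (orderOf d).Coprime p)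
    (hn : ∀ x ∈ P, d * x * d⁻¹ ∈ P) {x : G} (hx : x ∈ P) :
    x⁻¹ * (d * x * d⁻¹) ∈ (groupFusionSystem (S : Subgroup G)).hyperfocalSubgroup p := by
  have hinj : Function.Injective fun y : P => (⟨d * y * d⁻¹, hn y y.2⟩ : P) := fun a b hab =>
    Subtype.ext (mul_left_cancel (mul_right_cancel (congrArg Subtype.val hab :)))
  let α : MulAut P := MulEquiv.ofBijective
    ({ toFun := fun y => ⟨d * y * d⁻¹, hn y y.2⟩
       map_one' := Subtype.ext (by simp)
       map_mul' := fun a b => Subtype.ext (by simp [mul_assoc]) } : P →* P)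
    (Finite.injective_iff_bijective.1 hinj)
  have hα : ∀ y : P, (α y : G) = d * y * d⁻¹ := fun y => rfl
  have hαF : α ∈ (groupFusionSystem (S : Subgroup G)).autGroup P := by
    refine (mem_autGroup_iff hP).2 (mor_group_iff.2 ⟨hP, d, fun y hy => ⟨?_, hP (hn y hy)⟩⟩)
    exact (autFun_coe α ⟨y, hy⟩).trans (hα _)
  have hres : (⟨α, hαF⟩ : (groupFusionSystem (S : Subgroup G)).autGroup P) ∈ pResidual p _ := by
    refine Transfer.coprime_orderOf_mem_pResidual (Nat.Coprime.coprime_dvd_left ?_ hd)
    rw [Subgroup.orderOf_mk]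
    exact orderOf_dvd_of_pow_eq_one (pow_orderOf_eq_one' hα)
  exact mem_hyperfocal_of_residual (α := ⟨α, hαF⟩) hP hres ⟨x, hx⟩

theorem hyperfocal_group_le_residual [Finite G] [Fact p.Prime] (S : Sylow p G) :
    (groupFusionSystem (S : Subgroup G)).hyperfocalSubgroup p ≤
      (S : Subgroup G) ⊓ pResidual p G := by
  haveI := Transfer.pResidual_normal (G := G) p
  refine le_inf hyperfocal_le (hyperfocal_group_le S _ fun P _ d hd _ x _ => ?_)
  have hdK : d ∈ pResidual p G := Transfer.coprime_orderOf_mem_pResidual hd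
  have e : x⁻¹ * (d * x * d⁻¹) = x⁻¹ * d * x⁻¹⁻¹ * d⁻¹ := by group
  rw [e]
  exact mul_mem (Subgroup.Normal.conj_mem inferInstance d hdK x⁻¹) (inv_mem hdK)

/-- Puig's hyperfocal subgroup theorem. -/
theorem hyperfocal_group_eq [Finite G] [hp : Fact p.Prime] (S : Sylow p G) :
    (groupFusionSystem (S : Subgroup G)).hyperfocalSubgroup p = (S : Subgroup G) ⊓ pResidual p G := by
  refine le_antisymm (hyperfocal_group_le_residual S) ?_
  haveI hKn : (pResidual p G).Normal := Transfer.pResidual_normal p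
  set K := pResidual p G
  obtain ⟨T, hT⟩ : ∃ T : Sylow p K, (T : Subgroup K) = (S : Subgroup G).subgroupOf K := by
    refine ⟨(S.isPGroup'.comap_of_injective K.subtype Subtype.val_injective).toSylow ?_, rfl⟩
    intro hd
    refine S.not_dvd_index (hd.trans ?_)
    show (S : Subgroup G).relIndex K ∣ _
    exact Transfer.relIndex_dvd_index_of_normal_right _ _
  have htop : pResidual p K = ⊤ := by
    haveI := Transfer.pResidual_characteristic (G := K) p
    have hm : ((pResidual p K).map K.subtype).Normal := ConjAct.normal_of_characteristic_of_normal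
    have hle : K ≤ (pResidual p K).map K.subtype := by
      haveI := hm
      refine (Subgroup.closure_le _).2 fun x hx => ?_
      exact ⟨⟨x, Transfer.coprime_orderOf_mem_pResidual hx⟩,
        Transfer.coprime_orderOf_mem_pResidual (by rwa [Subgroup.orderOf_mk]), rfl⟩
    rw [eq_top_iff]
    rintro ⟨x, hx⟩ -
    obtain ⟨y, hy, hyx⟩ := hle hx
    rwa [show (⟨x, hx⟩ : K) = y from Subtype.ext hyx.symm]
  set F := groupFusionSystem (T : Subgroup K)
  have hsat : F.IsSaturated p := saturated_group _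
  have hfoc : (T : Subgroup K) ≤ F.focalSubgroup := by
    have hker : (T : Subgroup K) ≤ (T : Subgroup K).focalSubgroup := by
      intro z hz
      rw [← Subgroup.ker_transferFocal_inf_eq_focalSubgroup T]
      refine ⟨?_, hz⟩
      have hpg : IsPGroup p (K ⧸ (Subgroup.transferFocal (T : Subgroup K)).ker) :=
        (T.isPGroup'.to_quotient _).of_equiv
          (Subgroup.transferFocal.quotientKerMulEquivQuotientFocalSubroupOf T).symm
      obtain ⟨k, hk⟩ := IsPGroup.iff_card.1 hpg
      exact Transfer.pResidual_le_of_index_eq_pow _ (by rw [Subgroup.index_eq_card]; exact hk)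
        (htop ▸ Subgroup.mem_top z)
    refine hker.trans ?_
    rw [Subgroup.focalSubgroup_def, Subgroup.closure_le]
    rintro g ⟨hg, x, hx, v, rfl⟩
    have hconj : v * x⁻¹ * v⁻¹ ∈ (T : Subgroup K) := by
      have h1 := mul_mem (inv_mem hx) hg
      rwa [commutatorElement_def, mul_assoc, mul_assoc, inv_mul_cancel_left, ← mul_assoc] at h1
    have h2 := mem_focal (F := F) (mor_group_conj (P := zpowers x⁻¹) (c := v)
      (zpowers_le.2 (inv_mem hx)) (fun y hy => by
        obtain ⟨n, rfl⟩ := mem_zpowers_iff.1 hy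
        rw [← conj_zpow]
        exact zpow_mem hconj n)) (mem_zpowers x⁻¹)
    simpa [commutatorElement_def, mul_assoc] using h2
  rw [focal_eq T.isPGroup' hsat] at hfoc
  have hhypT : (T : Subgroup K) ≤ F.hyperfocalSubgroup p := by
    haveI : Group.IsNilpotent (T : Subgroup K) := T.isPGroup'.isNilpotent
    have hΦ : ⁅(T : Subgroup K), (T : Subgroup K)⁆ ≤ (frattini (T : Subgroup K)).map (T : Subgroup K).subtype := by
      rw [← Subgroup.map_subtype_commutator]
      exact Subgroup.map_mono (Cfsg.Lib.Solv.commutator_le_frattini T.isPGroup')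
    have h1 : (F.hyperfocalSubgroup p).subgroupOf T ⊔ frattini (T : Subgroup K) = ⊤ := by
      rw [eq_top_iff]
      intro z _
      have h2 := (hfoc.trans (sup_le_sup_left hΦ _)) z.2
      rw [← Subgroup.map_subgroupOf_eq_of_le (hyperfocal_le (F := F) (p := p)), ← Subgroup.map_sup] at h2
      obtain ⟨w, hw, hwz⟩ := h2
      rwa [← Subtype.ext (a1 := w) (a2 := z) hwz]
    exact Subgroup.subgroupOf_eq_top.1 (frattini_nongenerating h1)
  intro x hx
  have hmap : F.hyperfocalSubgroup p ≤
      ((groupFusionSystem (S : Subgroup G)).hyperfocalSubgroup p).comap K.subtype := by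
    refine hyperfocal_group_le T _ fun P hP d hd hn y hy => ?_
    rw [mem_comap]
    have hPS : P.map K.subtype ≤ (S : Subgroup G) := by
      rintro _ ⟨z, hz, rfl⟩
      have := hP hz
      rw [hT] at this
      exact this
    have := mem_hyperfocal_group S hPS (d := (d : G)) (by rwa [Subgroup.orderOf_coe])
      (by rintro _ ⟨z, hz, rfl⟩; exact ⟨_, hn z hz, rfl⟩) (x := (y : G)) ⟨y, hy, rfl⟩
    simpa using this
  exact hmap (hhypT (show (⟨x, hx.2⟩ : K) ∈ (T : Subgroup K) by rw [hT]; exact hx.1))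

/-- Without a wreath quotient of a Sylow subgroup its normalizer controls the `p`-residual. -/
theorem inf_pResidual_le_normalizer [Finite G] [hp : Fact p.Prime] (S : Sylow p G)
    (hW : ∀ (W : Sylow p (Equiv.Perm (Fin (p ^ 2))))
      (f : (S : Subgroup G) →* ↥(W : Subgroup (Equiv.Perm (Fin (p ^ 2))))), ¬ Function.Surjective f) :
    (S : Subgroup G) ⊓ pResidual p G ≤
      (pResidual p (normalizer ((S : Subgroup G) : Set G))).map
        (normalizer ((S : Subgroup G) : Set G)).subtype := by
  set F := groupFusionSystem (S : Subgroup G)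
  have hsat : F.IsSaturated p := saturated_group _
  set M := normalizer ((S : Subgroup G) : Set G)
  set E := normalizerExt F S (normalizerIn S S) le_rfl le_rfl
  have hE : F.IsNormalizerSystem S E := isNormalizerSystem_normalizerExt le_rfl
  have hfoc : E.focalSubgroup = F.focalSubgroup := by
    by_contra hne
    obtain ⟨W, f, hf⟩ := exists_wreath_of_focal_ne S.isPGroup' hsat E hE hne
    exact hW W f hf
  set H := normalizerExt F S (S : Subgroup G) le_rfl normalizerIn_self.ge
  have hsatE : E.IsSaturated p := saturated_normalizerSystem S.isPGroup' hsat fullyNormalized_top hE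
  have hgen : ∀ (T : Subgroup G) (hT : T ≤ normalizerIn (S : Subgroup G) S), T = normalizerIn (S : Subgroup G) S →
      (normalizerExt F S T le_rfl hT).IsSaturated p ∧
      (normalizerExt F S T le_rfl hT).focalSubgroup = F.focalSubgroup := by
    rintro T hT rfl
    exact ⟨hsatE, hfoc⟩
  obtain ⟨hsatH, hfocH⟩ := hgen (S : Subgroup G) normalizerIn_self.ge normalizerIn_self.symm
  have hHF : ∀ P f, Mor H P f → Mor F P f := fun P f hf => by
    obtain ⟨-, -, k, hk, hke, -⟩ := mor_normalizerExt_iff.1 hf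
    exact (hk.restrict le_sup_left).congr hke
  have hle := hyperfocal_le_of_focal_le (F := F) (H := H) S.isPGroup' hsat hsatH hHF hfocH.ge
  rw [← hyperfocal_group_eq S]
  refine hle.trans (hyperfocal_le_of _ fun P hP α hα hcop x => ?_)
  obtain ⟨-, -, k, hk, hke, hkS⟩ := mor_normalizerExt_iff.1 ((mem_autGroup_iff hP).1 hα)
  obtain ⟨-, c, hc⟩ := mor_group_iff.1 hk
  have hcM : c ∈ M := by
    refine mem_normalizer_fintype fun y hy => ?_
    have hm := mem_img_of_mem (f := k) hy
    rw [hkS] at hm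
    rwa [(hc y (mem_sup_right hy)).1] at hm
  obtain ⟨d, hdM, hd, hde⟩ := exists_coprime_realizer hcM (α := α)
    (fun y => ((autFun_coe α y).symm.trans (hke y y.2).symm).trans (hc y (mem_sup_left y.2)).1) hcop
  rw [hde]
  have hxM : (x : G) ∈ M := le_normalizer (hP x.2)
  haveI := Transfer.pResidual_normal (G := M) p
  have hdK : (⟨d, hdM⟩ : M) ∈ pResidual p M :=
    Transfer.coprime_orderOf_mem_pResidual (by rwa [Subgroup.orderOf_mk])
  refine ⟨(⟨x, hxM⟩ : M)⁻¹ * ⟨d, hdM⟩ * (⟨x, hxM⟩ : M)⁻¹⁻¹ * ⟨d, hdM⟩⁻¹,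
    mul_mem (Subgroup.Normal.conj_mem inferInstance _ hdK _) (inv_mem hdK), ?_⟩
  simp [mul_assoc]

end Cfsg.Lib.Transfer.GroupHyperfocal
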