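import Mathlib
import Cfsg.Agent.Lib.Solv.MinNormal
import Cfsg.Agent.Lib.Solv.Cores
import Cfsg.Agent.Lib.Solv.Frattini
import Cfsg.Agent.Lib.Transfer.NormalPComplement
import Cfsg.Agent.Lib.PLocal.NormalComplement
import Cfsg.Agent.Lib.Characters.Burnside
import Cfsg.Agent.Lib.Transfer.PGroupNormal
import Cfsg.Agent.Lib.Solv.MinimalNonNilpotent

/-!
The theorem of Hughes and Thompson: a proper subgroup outside which every element has order `p` is nilpotent.
-/

set_option autoImplicit false

namespace Cfsg.Lib.Transfer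

open Cfsg

universe u

variable {G : Type u} [Group G] {p : ℕ}

theorem mul_pow_conj {V : Subgroup G} [V.Normal] (g : G) (v : V) :
    ∀ n : ℕ, ((v : G) * g) ^ n =
      ((List.range n).map fun i => ((MulAut.conjNormal (g ^ i) v : V) : G)).prod * g ^ n := by
  intro n
  induction n with
  | zero => simp
  | succ n ih =>
    rw [pow_succ, ih, List.range_succ, List.map_append, List.prod_append, List.map_singleton,
      List.prod_singleton, MulAut.conjNormal_apply]
    group

variable {V : Subgroup G} [V.Normal] [IsMulCommutative V]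

/-- the conjugation action as an action on a commutative group -/
@[reducible] def vGroup (V : Subgroup G) [IsMulCommutative V] : CommGroup V :=
  { (inferInstance : Group V) with mul_comm := IsMulCommutative.is_comm.comm }

theorem prod_eq_one_of_pow {g : G} (hg : g ^ p = 1) (v : V) (h : ((v : G) * g) ^ p = 1) :
    letI := vGroup V
    ∏ i ∈ Finset.range p, MulAut.conjNormal (g ^ i) v = 1 := by
  letI := vGroup V
  apply Subtype.ext
  rw [mul_pow_conj g v p, hg, mul_one] at h
  rw [Finset.prod_eq_multiset_prod, Finset.range_val, Multiset.range, Multiset.map_coe, Multiset.prod_coe]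
  show (((List.range p).map fun i => MulAut.conjNormal (g ^ i) v).prod : V).1 = 1
  rw [← V.coe_subtype, map_list_prod, List.map_map]
  exact h

variable [Finite G]

/-- The fixed points of a group `R` on which a conjugation by `g` is fixed point free. -/
theorem eq_one_of_fpf {R : Subgroup G} (hp : p.Prime) {g : G} (hgp : g ^ p = 1)
    (hgR : ∀ r ∈ R, g * r * g⁻¹ ∈ R) (hfpf : ∀ i, 0 < i → i < p → ∀ r ∈ R, g ^ i * r = r * g ^ i → r = 1)
    (hsplit : ∀ r ∈ R, ∀ v : V, ((v : G) * (r * g * r⁻¹)) ^ p = 1)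
    (hfix : ∀ v : V, (∀ r ∈ R, MulAut.conjNormal r v = v) → v = 1)
    (v : V) : v ^ Nat.card R = 1 := by
  classical
  letI := vGroup V
  haveI := Fintype.ofFinite R
  have h0 : ∀ r : R, ∏ i ∈ Finset.range p, MulAut.conjNormal ((r : G) * g ^ i * (r : G)⁻¹) v = 1 := by
    intro r
    have hcp : ((r : G) * g * (r : G)⁻¹) ^ p = 1 := by rw [conj_pow, hgp, mul_one, mul_inv_cancel]
    have := prod_eq_one_of_pow hcp v (hsplit r r.2 v)
    simpa only [conj_pow] using this
  have h1 : ∏ i ∈ Finset.range p, ∏ r : R, MulAut.conjNormal ((r : G) * g ^ i * (r : G)⁻¹) v = 1 := by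
    rw [Finset.prod_comm]
    exact Finset.prod_eq_one fun r _ => h0 r
  have hgi : ∀ i : ℕ, ∀ r ∈ R, g ^ i * r * (g ^ i)⁻¹ ∈ R := by
    intro i
    induction i with
    | zero => intro r hr; simpa using hr
    | succ i ih =>
      intro r hr
      have := hgR _ (ih r hr)
      convert this using 1
      rw [pow_succ']; group
  have h2 : ∀ i ∈ Finset.range p, i ≠ 0 →
      ∏ r : R, MulAut.conjNormal ((r : G) * g ^ i * (r : G)⁻¹) v = 1 := by
    intro i hi hi0
    let f : R → R := fun r => ⟨(r : G) * (g ^ i * (r : G)⁻¹ * (g ^ i)⁻¹), mul_mem r.2 (hgi i _ (inv_mem r.2))⟩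
    have hf : Function.Bijective f := by
      rw [← Finite.injective_iff_bijective]
      intro r s h
      have e : (r : G) * (g ^ i * (r : G)⁻¹ * (g ^ i)⁻¹) = (s : G) * (g ^ i * (s : G)⁻¹ * (g ^ i)⁻¹) := congrArg Subtype.val h
      have e1 : g ^ i * ((s : G)⁻¹ * r) = ((s : G)⁻¹ * r) * g ^ i := by
        have := congrArg (fun t : G => (s : G)⁻¹ * t * g ^ i * (r : G)) e
        simp only [mul_assoc, inv_mul_cancel_left, inv_mul_cancel, mul_one] at this
        simpa only [mul_assoc] using this.symm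
      exact Subtype.ext (inv_mul_eq_one.1 (hfpf i (Nat.pos_of_ne_zero hi0) (Finset.mem_range.1 hi) _
        (mul_mem (inv_mem s.2) r.2) e1)).symm
    have e : ∀ r : R, MulAut.conjNormal ((r : G) * g ^ i * (r : G)⁻¹) v =
        MulAut.conjNormal ((f r : R) : G) (MulAut.conjNormal (g ^ i) v) := by
      intro r
      rw [← MulAut.mul_apply, ← map_mul]
      congr 2
      show _ = (r : G) * (g ^ i * (r : G)⁻¹ * (g ^ i)⁻¹) * g ^ i
      group
    simp only [e]
    refine hfix _ fun s hs => ?_
    rw [map_prod]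
    simp only [← MulAut.mul_apply, ← map_mul]
    let fs : R → R := fun r => ⟨s, hs⟩ * f r
    have hfs : Function.Bijective fs := (Group.mulLeft_bijective _).comp hf
    exact (Fintype.prod_bijective fs hfs _ (fun t : R => MulAut.conjNormal ((t : G) * g ^ i) v) fun r => by
      simp only [fs, Subgroup.coe_mul, mul_assoc]).trans
      (Fintype.prod_bijective f hf _ (fun t : R => MulAut.conjNormal ((t : G) * g ^ i) v) fun r => rfl).symm
  rw [Finset.prod_eq_single 0 (fun i hi hi0 => h2 i hi hi0) (fun h => absurd (Finset.mem_range.2 hp.pos) h)] at h1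
  simp only [pow_zero, mul_one, mul_inv_cancel, map_one, MulAut.one_apply, Finset.prod_const, Finset.card_univ] at h1
  rwa [Nat.card_eq_fintype_card]

/-- The case of an element `z` acting like a central element of order `p`. -/
theorem eq_one_of_central (hp : p.Prime) {g z : G} (hgz : ∀ j, (g * z ^ j) ^ p = 1)
    (hcomm : ∀ v : V, MulAut.conjNormal (g * z) v = MulAut.conjNormal (z * g) v)
    (hzp : ∀ v : V, MulAut.conjNormal (z ^ p) v = v)
    (hsplit : ∀ j, ∀ v : V, ((v : G) * (g * z ^ j)) ^ p = 1)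
    (hfix : ∀ v : V, MulAut.conjNormal z v = v → v = 1) (v : V) : v ^ p = 1 := by
  classical
  letI := vGroup V
  set A : MulAut V := MulAut.conjNormal g
  set Z : MulAut V := MulAut.conjNormal z
  have hAZ : Commute A Z := MulEquiv.ext fun w => by
    show MulAut.conjNormal g (MulAut.conjNormal z w) = MulAut.conjNormal z (MulAut.conjNormal g w)
    rw [← MulAut.mul_apply, ← map_mul, hcomm, map_mul, MulAut.mul_apply]
  have hZp : Z ^ p = 1 := MulEquiv.ext fun w => by
    rw [← map_pow, MulAut.one_apply]; exact hzp w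
  have h0 : ∀ j, ∏ i ∈ Finset.range p, (A ^ i * Z ^ (j * i)) v = 1 := by
    intro j
    have := prod_eq_one_of_pow (hgz j) v (hsplit j v)
    refine (Finset.prod_congr rfl fun i _ => ?_).trans this
    rw [map_pow, map_mul, map_pow, (hAZ.pow_right j).mul_pow, ← pow_mul]
  have h1 : ∏ i ∈ Finset.range p, ∏ j ∈ Finset.range p, (A ^ i * Z ^ (j * i)) v = 1 := by
    rw [Finset.prod_comm]
    exact Finset.prod_eq_one fun j _ => h0 j
  have h2 : ∀ i ∈ Finset.range p, i ≠ 0 → ∏ j ∈ Finset.range p, (A ^ i * Z ^ (j * i)) v = 1 := by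
    intro i hi hi0
    simp only [MulAut.mul_apply, ← map_prod]
    rw [EmbeddingLike.map_eq_one_iff]
    set w := ∏ j ∈ Finset.range p, (Z ^ (j * i)) v with hw
    have hZi : (Z ^ i) w = w := by
      rw [hw, map_prod]
      obtain ⟨n, rfl⟩ : ∃ n, p = n + 1 := ⟨p - 1, (Nat.succ_pred_eq_of_pos hp.pos).symm⟩
      rw [Finset.prod_range_succ]
      conv_rhs => rw [Finset.prod_range_succ']
      congr 1
      · refine Finset.prod_congr rfl fun j _ => ?_
        rw [← MulAut.mul_apply, ← pow_add, add_mul, one_mul, add_comm]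
      · rw [← MulAut.mul_apply, ← pow_add, zero_mul, pow_zero, show i + n * i = (n + 1) * i by ring, pow_mul, hZp, one_pow]
    have hco : Nat.Coprime i p :=
      ((hp.coprime_iff_not_dvd).2 fun hd => absurd (Nat.le_of_dvd (Nat.pos_of_ne_zero hi0) hd) (not_le.2 (Finset.mem_range.1 hi))).symm
    obtain ⟨m, -, hm⟩ := Nat.exists_mul_mod_eq_one_of_coprime hco hp.one_lt
    refine hfix w ?_
    have hpow : ∀ n : ℕ, ((Z ^ i) ^ n) w = w := by
      intro n
      induction n with
      | zero => rfl
      | succ n ih => rw [pow_succ, MulAut.mul_apply, hZi, ih]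
    have := hpow m
    rwa [← pow_mul, ← Nat.mod_add_div (i * m) p, hm, pow_add, pow_one, pow_mul, hZp, one_pow, mul_one] at this
  rw [Finset.prod_eq_single 0 (fun i hi hi0 => h2 i hi hi0) (fun h => absurd (Finset.mem_range.2 hp.pos) h)] at h1
  simpa using h1

section Main

theorem relIndex_le_or (L : Subgroup G) {g : G} (hg : g ∈ L) {H : Subgroup G} (hgH : g ∉ H) :
    H.subgroupOf L ≠ ⊤ := fun e => hgH (Subgroup.subgroupOf_eq_top.1 e hg)

theorem isPGroup_two {p : ℕ} {R : Subgroup G} (h : IsPGroup p R) (g : G) (hp : p.Prime) (hgp : g ^ p = 1)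
    (hg : g ∈ Subgroup.normalizer (R : Set G)) : IsPGroup p ↥(Subgroup.zpowers g ⊔ R) := by
  haveI := Fact.mk hp
  refine IsPGroup.to_sup_of_normal_right' ?_ h (Subgroup.zpowers_le.2 hg)
  intro d
  obtain ⟨i, hi⟩ := Subgroup.mem_zpowers_iff.1 d.2
  refine ⟨1, Subtype.ext ?_⟩
  rw [SubgroupClass.coe_pow, ← hi, OneMemClass.coe_one, pow_one, ← zpow_natCast, ← zpow_mul, mul_comm, zpow_mul,
    zpow_natCast, hgp, one_zpow]

theorem hughes_aux (hp : p.Prime) : ∀ (n : ℕ) (G : Type u) [Group G] [Finite G], Nat.card G ≤ n →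
    ∀ H : Subgroup G, H.Normal → H ≠ ⊤ → (∀ g ∉ H, g ^ p = 1) → Group.IsNilpotent H := by
  intro n
  induction n with
  | zero => intro G _ _ hn; exact absurd hn (Nat.card_pos (α := G)).not_ge
  | succ n ih =>
  intro G _ _ hn H hHn hHtop hout
  haveI := Fact.mk hp
  haveI := hHn
  by_cases hHp : IsPGroup p H
  · exact hHp.isNilpotent
  have hlt : ∀ L : Subgroup G, L ≠ ⊤ → Nat.card L ≤ n := fun L hL => by
    have : Nat.card L < Nat.card G := by
      rw [← Subgroup.card_top (G := G)]
      exact lt_of_le_of_ne (Subgroup.card_le_of_le le_top) fun e => hL (Subgroup.eq_of_le_of_card_ge le_top e.ge)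
    omega
  have hsub : ∀ L : Subgroup G, L ≠ ⊤ → ¬ L ≤ H → Group.IsNilpotent (H ⊓ L : Subgroup G) := by
    intro L hL hLH
    haveI : Group.IsNilpotent (H.subgroupOf L) :=
      ih L (hlt L hL) _ inferInstance (fun e => hLH (Subgroup.subgroupOf_eq_top.1 e))
        (fun g hg => Subtype.ext (hout g hg))
    have e : (H.subgroupOf L) ≃* (H ⊓ L : Subgroup G) :=
      ((H.subgroupOf L).equivMapOfInjective L.subtype L.subtype_injective).trans
        (MulEquiv.subgroupCongr (Subgroup.subgroupOf_map_subtype H L))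
    exact Group.nilpotent_of_mulEquiv e
  obtain ⟨x, hxH⟩ : ∃ x, x ∉ H := by
    by_contra h; push Not at h; exact hHtop (eq_top_iff.2 fun x _ => h x)
  -- index `p`
  by_cases hxtop : Subgroup.zpowers x ⊔ H = ⊤
  swap
  · have := hsub _ hxtop fun h => hxH (h (Subgroup.mem_sup_left (Subgroup.mem_zpowers x)))
    rwa [inf_eq_left.2 le_sup_right] at this
  have hgH : ∀ g, g ∉ H → Subgroup.zpowers g ⊔ H = ⊤ := by
    intro g hg
    by_contra h
    have hle : Subgroup.zpowers g ≤ Subgroup.zpowers x ⊔ H := hxtop ▸ le_top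
    obtain ⟨a, ha, b, hb, e⟩ := Subgroup.mem_sup_of_normal_right.1 (hle (Subgroup.mem_zpowers g))
    obtain ⟨i, rfl⟩ := Subgroup.mem_zpowers_iff.1 ha
    have hi : ¬ (p : ℤ) ∣ i := by
      rintro ⟨j, rfl⟩
      refine hg (e ▸ ?_)
      rw [zpow_mul, zpow_natCast, hout x hxH, one_zpow, one_mul]
      exact hb
    obtain ⟨u, v, huv⟩ := ((Nat.prime_iff_prime_int.1 hp).coprime_iff_not_dvd.2 hi).symm
    have h1 : x ^ i ∈ Subgroup.zpowers g ⊔ H := by
      have h2 : x ^ i = g * b⁻¹ := by rw [← e, mul_inv_cancel_right]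
      rw [h2]
      exact mul_mem (Subgroup.mem_sup_left (Subgroup.mem_zpowers g)) (inv_mem (Subgroup.mem_sup_right hb))
    refine h (eq_top_iff.2 (hxtop ▸ sup_le (Subgroup.zpowers_le.2 ?_) le_sup_right))
    have hx1 : x = (x ^ i) ^ u := by
      rw [← zpow_mul]
      conv_lhs => rw [← zpow_one x, ← huv, zpow_add, mul_comm v, zpow_mul x (p : ℤ), zpow_natCast, hout x hxH, one_zpow, mul_one, mul_comm]
    rw [hx1]
    exact zpow_mem h1 u
  -- two normal subgroups
  have hquot : ∀ (N : Subgroup G) [N.Normal], N ≠ ⊥ → N ≤ H → Group.IsNilpotent (H.map (QuotientGroup.mk' N) : Subgroup (G ⧸ N)) := by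
    intro N hN hN1 hNH
    have hsurj := QuotientGroup.mk'_surjective N
    have hcomap : (H.map (QuotientGroup.mk' N)).comap (QuotientGroup.mk' N) = H := by
      rw [Subgroup.comap_map_eq, QuotientGroup.ker_mk', sup_eq_left.2 hNH]
    refine ih (G ⧸ N) ?_ _ (hHn.map _ hsurj) ?_ ?_
    · have : Nat.card (G ⧸ N) < Nat.card G := by
        rw [← N.card_mul_index, Subgroup.index]
        exact lt_mul_of_one_lt_left Nat.card_pos (Subgroup.one_lt_card_iff_ne_bot N |>.2 hN1)
      omega
    · intro e; exact hHtop (by rw [← hcomap, e, Subgroup.comap_top])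
    · intro g hg
      obtain ⟨g, rfl⟩ := hsurj g
      rw [← map_pow, hout g (fun h => hg (Subgroup.mem_map_of_mem _ h)), map_one]
  have hH1 : H ≠ ⊥ := fun e => hHp (by subst e; exact IsPGroup.of_bot)
  obtain ⟨N, hNn, hNH, hN1, hNmin⟩ := Solv.exists_minimal_normal_le hH1
  haveI := hNn
  by_cases huniq : ∀ M : Subgroup G, M.Normal → M ≤ H → M ≠ ⊥ → N ≤ M
  swap
  · push Not at huniq
    obtain ⟨M, hMn, hMH, hM1, hNM⟩ := huniq
    haveI := hMn
    haveI := hquot N hN1 hNH
    haveI := hquot M hM1 hMH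
    let f : H →* (H.map (QuotientGroup.mk' N) : Subgroup _) × (H.map (QuotientGroup.mk' M) : Subgroup _) :=
      ((QuotientGroup.mk' N).subgroupMap H).prod ((QuotientGroup.mk' M).subgroupMap H)
    refine Subgroup.isNilpotent_of_ker_le_center f (fun h hh => ?_)
    have hh' := (Prod.ext_iff.1 (MonoidHom.mem_ker.1 hh))
    have hb : N ⊓ M = ⊥ := (hNmin _ inferInstance inf_le_left).resolve_right fun e => hNM (inf_eq_left.1 e)
    have : (h : G) = 1 := Subgroup.mem_bot.1 (hb ▸
      ⟨(QuotientGroup.eq_one_iff _).1 (congrArg Subtype.val hh'.1), (QuotientGroup.eq_one_iff _).1 (congrArg Subtype.val hh'.2)⟩)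
    rw [show h = 1 from Subtype.ext this]
    exact one_mem _
  -- an element of an overgroup outside `H` normalizing a Sylow subgroup
  have hfr : ∀ {r : ℕ} [Fact r.Prime] (R : Sylow r H),
      ∃ g, g ∈ Subgroup.normalizer (((R : Subgroup H).map H.subtype : Subgroup G) : Set G) ∧ g ∉ H := by
    intro r _ R
    by_contra hc
    push Not at hc
    refine hHtop ?_
    rw [eq_top_iff, ← R.normalizer_sup_eq_top]
    exact sup_le hc le_rfl
  by_cases hsol : Group.IsSolvable H
  swap
  · exfalso
    have hchar : ∀ K : Subgroup G, K.Normal → K ≤ H → K = ⊥ ∨ K = H := by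
      intro K hK hKH
      by_cases hK1 : K = ⊥
      · exact Or.inl hK1
      have hNK := huniq K hK hKH hK1
      by_cases hNH' : N = H
      · exact Or.inr (le_antisymm hKH (hNH' ▸ hNK))
      exfalso
      refine hsol ?_
      haveI := hquot N hN1 hNH
      have hNtop : Subgroup.zpowers x ⊔ N ≠ ⊤ := by
        intro e
        refine hNH' (le_antisymm hNH fun h hh => ?_)
        obtain ⟨a, ha, b, hb, e'⟩ := Subgroup.mem_sup_of_normal_right.1 (e ▸ Subgroup.mem_top h : h ∈ Subgroup.zpowers x ⊔ N)
        obtain ⟨i, rfl⟩ := Subgroup.mem_zpowers_iff.1 ha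
        have hxi : x ^ i ∈ H := by
          have : x ^ i = h * b⁻¹ := by rw [← e', mul_inv_cancel_right]
          rw [this]; exact mul_mem hh (inv_mem (hNH hb))
        by_cases hd : (p : ℤ) ∣ i
        · obtain ⟨j, rfl⟩ := hd
          rw [zpow_mul, zpow_natCast, hout x hxH, one_zpow, one_mul] at e'
          exact e' ▸ hb
        · exfalso
          obtain ⟨u, v, huv⟩ := ((Nat.prime_iff_prime_int.1 hp).coprime_iff_not_dvd.2 hd).symm
          refine hxH ?_
          have hx1 : x = (x ^ i) ^ u := by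
            rw [← zpow_mul]
            conv_lhs => rw [← zpow_one x, ← huv, zpow_add, mul_comm v, zpow_mul x (p : ℤ), zpow_natCast, hout x hxH, one_zpow, mul_one, mul_comm]
          rw [hx1]
          exact zpow_mem hxi u
      have hNnil := hsub _ hNtop fun h => hxH (h (Subgroup.mem_sup_left (Subgroup.mem_zpowers x)))
      haveI : Group.IsNilpotent N := Solv.isNilpotent_of_le (le_inf hNH le_sup_right) hNnil
      exact Group.isSolvable_of_ker_le_range (Subgroup.inclusion hNH) ((QuotientGroup.mk' N).subgroupMap H)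
        fun h hh => ⟨⟨h, (QuotientGroup.eq_one_iff _).1 (congrArg Subtype.val (MonoidHom.mem_ker.1 hh))⟩, rfl⟩
    have hall : ∀ r : ℕ, r.Prime → r ∣ Nat.card H → r = 2 ∨ r = p := by
      intro r hr hrd
      by_contra hne
      push Not at hne
      haveI := Fact.mk hr
      obtain ⟨Q⟩ : Nonempty (Sylow r H) := inferInstance
      set Q' := (Q : Subgroup H).map H.subtype
      have hQ1 : Q' ≠ ⊥ := by
        intro e
        have h1 := Q.card_eq_multiplicity
        rw [(Subgroup.map_eq_bot_iff_of_injective _ H.subtype_injective).1 e, Subgroup.card_bot] at h1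
        exact (hr.factorization_pos_of_dvd Nat.card_pos.ne' hrd).ne' ((Nat.pow_eq_one.1 h1.symm).resolve_left hr.one_lt.ne')
      have hW := PLocal.isZJFunctor_zF.{u} (p := r) hne.1
      set W := PLocal.zF PLocal.Ab Q'
      have hWH : W ≤ H := (hW.le Q').trans (Subgroup.map_subtype_le _)
      have hWp : IsPGroup r W := (Q.isPGroup'.map _).to_le (hW.le Q')
      have hWn : Subgroup.normalizer (W : Set G) ≠ ⊤ := by
        intro e
        rcases hchar W (Subgroup.normalizer_eq_top_iff.1 e) hWH with e' | e'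
        · exact hW.ne_bot Q' (Q.isPGroup'.map _) hQ1 e'
        · rw [e'] at hWp
          haveI := hWp.isNilpotent
          exact hsol inferInstance
      obtain ⟨g, hg, hgH'⟩ := hfr Q
      have hnil := hsub _ hWn fun h => hgH' (h (hW.normalizer_le Q' hg))
      have hnpc : HasNormalPComplement r H := by
        refine PLocal.glauberman_complement_aux hne.1 hW _ H le_rfl ⟨Q, ?_⟩
        have hz : W = (PLocal.zF PLocal.Ab (Q : Subgroup H)).map H.subtype :=
          hW.map H.subtype _ H.subtype_injective.injOn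
        have hle : (Subgroup.normalizer (PLocal.zF PLocal.Ab (Q : Subgroup H) : Set H)).map H.subtype ≤
            H ⊓ Subgroup.normalizer (W : Set G) := by
          rw [hz]
          exact le_inf (Subgroup.map_subtype_le _) (Subgroup.le_normalizer_map _)
        haveI := Solv.isNilpotent_of_le hle hnil
        haveI : Group.IsNilpotent (Subgroup.normalizer (PLocal.zF PLocal.Ab (Q : Subgroup H) : Set H)) :=
          Group.nilpotent_of_mulEquiv ((Subgroup.normalizer (PLocal.zF PLocal.Ab (Q : Subgroup H) : Set H)).equivMapOfInjective H.subtype H.subtype_injective).symm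
        exact Solv.hasNormalPComplement_of_nilpotent r
      rw [hasNormalPComplement_iff_pResidual] at hnpc
      haveI : (pResidual r H).Characteristic := pResidual_characteristic r
      rcases hchar ((pResidual r H).map H.subtype) inferInstance (Subgroup.map_subtype_le _) with e | e
      · refine hsol ?_
        obtain ⟨k, hk⟩ := exists_index_pResidual_eq_pow (G := H) (p := r)
        rw [(Subgroup.map_eq_bot_iff_of_injective _ H.subtype_injective).1 e, Subgroup.index_bot] at hk
        haveI := (IsPGroup.of_card (p := r) hk).isNilpotent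
        infer_instance
      · have h1 := congrArg (fun X : Subgroup G => Nat.card X) e
        rw [Subgroup.card_map_of_injective H.subtype_injective] at h1
        rw [h1] at hnpc
        exact hr.coprime_iff_not_dvd.1 hnpc.symm hrd
    refine hsol ?_
    by_cases hp2 : p = 2
    · have : IsPGroup 2 H := by
        obtain ⟨k, hk⟩ : ∃ k, Nat.card H = 2 ^ k :=
          ⟨_, Nat.eq_prime_pow_of_unique_prime_dvd Nat.card_pos.ne' fun {d} hd hdd => (hall d hd hdd).elim id fun e => e.trans hp2⟩
        exact IsPGroup.of_card hk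
      haveI := this.isNilpotent
      infer_instance
    refine Characters.isSolvable_of_card_eq_pow_mul_pow Nat.prime_two hp _ H rfl
      ⟨(Nat.card H).factorization 2, (Nat.card H).factorization p, ?_⟩
    conv_lhs => rw [← Nat.prod_factorization_pow_eq_self (Nat.card_pos (α := H)).ne']
    rw [Finsupp.prod_of_support_subset _ (s := {2, p}) ?_ _ (fun i _ => pow_zero i), Finset.prod_pair (Ne.symm hp2)]
    intro r hr
    rw [Nat.support_factorization, Nat.mem_primeFactors] at hr
    rcases hall r hr.1 hr.2.1 with rfl | rfl <;> simp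
  -- `N` is elementary abelian
  obtain ⟨hNab, q, hq, hNq, hNexp⟩ := Solv.minimal_normal_elementary hN1
    (Group.isSolvable_of_isSolvable_injective (Subgroup.inclusion_injective hNH)) hNmin
  haveI := Fact.mk hq
  set C := H ⊓ Subgroup.centralizer (N : Set G) with hC
  haveI hCn : C.Normal := inferInstance
  by_cases hCH : C = H
  · haveI := hquot N hN1 hNH
    refine Subgroup.isNilpotent_of_ker_le_center ((QuotientGroup.mk' N).subgroupMap H) fun h hh => ?_
    have hhN : (h : G) ∈ N := (QuotientGroup.eq_one_iff _).1 (congrArg Subtype.val (MonoidHom.mem_ker.1 hh))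
    exact Subgroup.mem_center_iff.2 fun k => Subtype.ext
      (Subgroup.mem_centralizer_iff.1 (hCH.ge k.2).2 _ hhN).symm
  exfalso
  -- a fixed point subgroup which is normal in `G` is trivial
  have hfixN : ∀ R : Subgroup G, ¬ R ≤ Subgroup.centralizer (N : Set G) →
      (N ⊓ Subgroup.centralizer (R : Set G)).Normal → N ⊓ Subgroup.centralizer (R : Set G) = ⊥ := by
    intro R hR hn
    refine (hNmin _ hn inf_le_left).resolve_right fun e => hR fun r hr => ?_
    exact Subgroup.mem_centralizer_iff.2 fun v hv => (Subgroup.mem_centralizer_iff.1 (e.ge hv).2 r hr).symm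
  obtain ⟨r, hr, hrq, hrd⟩ : ∃ r : ℕ, r.Prime ∧ r ≠ q ∧ ∃ R : Sylow r H, ¬ (R : Subgroup H).map H.subtype ≤ C := by
    by_contra hc
    push Not at hc
    obtain ⟨Q⟩ : Nonempty (Sylow q H) := inferInstance
    set Q' := (Q : Subgroup H).map H.subtype
    have hQC : H ≤ Q' ⊔ C := by
      have h1 : (⊤ : Subgroup H) ≤ (Q : Subgroup H) ⊔ C.subgroupOf H := by
        refine (Subgroup.eq_of_le_of_card_ge le_top (Nat.le_of_dvd Nat.card_pos ?_)).ge
        rw [Subgroup.card_top]
        refine (Nat.factorization_prime_le_iff_dvd Nat.card_pos.ne' Nat.card_pos.ne').1 fun r hr => ?_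
        haveI := Fact.mk hr
        obtain ⟨R, hR⟩ : ∃ R : Sylow r H, (R : Subgroup H) ≤ (Q : Subgroup H) ⊔ C.subgroupOf H := by
          by_cases hrq : r = q
          · subst hrq; exact ⟨Q, le_sup_left⟩
          · obtain ⟨R⟩ : Nonempty (Sylow r H) := inferInstance
            exact ⟨R, fun y hy => Subgroup.mem_sup_right (hc r hr hrq R (Subgroup.mem_map_of_mem _ hy))⟩
        refine (hr.pow_dvd_iff_le_factorization Nat.card_pos.ne').1 ?_
        rw [← R.card_eq_multiplicity]
        exact Subgroup.card_dvd_of_le hR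
      intro h hh
      have := h1 (Subgroup.mem_top (⟨h, hh⟩ : H))
      have := Subgroup.mem_map_of_mem H.subtype this
      rw [Subgroup.map_sup, Subgroup.map_subgroupOf_eq_of_le inf_le_left] at this
      exact this
    have hfix1 : N ⊓ Subgroup.centralizer (H : Set G) = ⊥ :=
      hfixN H (fun h => hCH (inf_eq_left.2 h)) inferInstance
    obtain ⟨Q1, hQ1, hQ1'⟩ : ∃ Q1 : Subgroup G, IsPGroup q Q1 ∧ Q' ≤ Q1 ∧ N ≤ Q1 :=
      ⟨Q' ⊔ N, IsPGroup.to_sup_of_normal_right (Q.isPGroup'.map _) hNq, le_sup_left, le_sup_right⟩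
    haveI := hQ1.isNilpotent
    haveI : (N.subgroupOf Q1).Normal := inferInstance
    haveI : Nontrivial (Q1 : Subgroup G) := (Subgroup.nontrivial_iff_ne_bot Q1).2 fun e => hN1 (le_bot_iff.1 (e ▸ hQ1'.2))
    have hne : N.subgroupOf Q1 ⊓ Subgroup.center Q1 ≠ ⊥ :=
      inf_center_ne_bot hQ1 (N.subgroupOf Q1) (fun e => hN1 (by
        rw [Subgroup.subgroupOf_eq_bot] at e
        exact le_bot_iff.1 (e.le_bot.trans' (le_inf le_rfl hQ1'.2))))
    refine hne (eq_bot_iff.2 fun z hz => ?_)
    refine Subgroup.mem_bot.2 (Subtype.ext (Subgroup.mem_bot.1 (hfix1 ▸ (⟨hz.1, ?_⟩ : (z : G) ∈ N ⊓ Subgroup.centralizer (H : Set G)))))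
    refine Subgroup.mem_centralizer_iff.2 fun h hh => ?_
    have hle : Q' ⊔ C ≤ Subgroup.centralizer ({(z : G)} : Set G) := by
      refine sup_le (fun a ha => ?_) (fun a ha => ?_)
      · refine Subgroup.mem_centralizer_iff.2 fun w hw => ?_
        rw [Set.mem_singleton_iff.1 hw]
        exact (congrArg Subtype.val (Subgroup.mem_center_iff.1 hz.2 ⟨a, hQ1'.1 ha⟩)).symm
      · refine Subgroup.mem_centralizer_iff.2 fun w hw => ?_
        rw [Set.mem_singleton_iff.1 hw]
        exact Subgroup.mem_centralizer_iff.1 ha.2 _ hz.1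
    exact (Subgroup.mem_centralizer_iff.1 (hle (hQC hh)) (z : G) rfl).symm
  haveI := Fact.mk hr
  obtain ⟨R, hRC⟩ := hrd
  set R' := (R : Subgroup H).map H.subtype
  have hR'H : R' ≤ H := Subgroup.map_subtype_le _
  have hR'p : IsPGroup r R' := R.isPGroup'.map _
  have hRC' : ¬ R' ≤ Subgroup.centralizer (N : Set G) := fun h => hRC (le_inf hR'H h)
  obtain ⟨g, hg, hgH'⟩ := hfr R
  have hgp := hout g hgH'
  have htop : Subgroup.zpowers g ⊔ R' ⊔ N = ⊤ := by
    by_contra hne
    have hnil := hsub _ hne fun h => hgH' (h (Subgroup.mem_sup_left (Subgroup.mem_sup_left (Subgroup.mem_zpowers g))))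
    haveI : Group.IsNilpotent (R' ⊔ N : Subgroup G) :=
      Solv.isNilpotent_of_le (le_inf (sup_le hR'H hNH) (sup_le (le_sup_right.trans le_sup_left) le_sup_right)) hnil
    refine hRC' fun a ha => Subgroup.mem_centralizer_iff.2 fun v hv => ?_
    obtain ⟨i, hi⟩ := IsPGroup.iff_orderOf.1 hR'p ⟨a, ha⟩
    obtain ⟨j, hj⟩ := IsPGroup.iff_orderOf.1 hNq ⟨v, hv⟩
    rw [Subgroup.orderOf_mk] at hi hj
    exact (Solv.commute_of_nilpotent_subgroup inferInstance hr hq hrq (Subgroup.mem_sup_left ha) (Subgroup.mem_sup_right hv) hi hj).symm.eq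
  have hnormal : ∀ X : Subgroup G, X ≤ N → (∀ a ∈ Subgroup.zpowers g ⊔ R', ∀ v ∈ X, a * v * a⁻¹ ∈ X) → X.Normal := by
    intro X hX hinv
    refine ⟨fun v hv a => ?_⟩
    obtain ⟨b, hb, c, hc, rfl⟩ := Subgroup.mem_sup_of_normal_right.1 (htop ▸ Subgroup.mem_top a : a ∈ Subgroup.zpowers g ⊔ R' ⊔ N)
    have h1 : c * v * c⁻¹ = v := by
      rw [show c * v = v * c from congrArg Subtype.val (hNab.is_comm.comm ⟨c, hc⟩ ⟨v, hX hv⟩), mul_inv_cancel_right]
    rw [show b * c * v * (b * c)⁻¹ = b * (c * v * c⁻¹) * b⁻¹ by group, h1]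
    exact hinv b hb v hv
  haveI : IsMulCommutative N := hNab
  have hvH : ∀ v : N, ∀ y, y ∉ H → ((v : G) * y) ^ p = 1 := fun v y hy =>
    hout _ fun h => hy ((mul_mem_cancel_left (hNH v.2)).1 h)
  have key : ∀ v : N, v = 1 := by
    by_cases hrp : r = p
    · subst hrp
      set U := Subgroup.zpowers g ⊔ R'
      have hUp : IsPGroup r U := isPGroup_two hR'p g hp hgp hg
      haveI : (R'.subgroupOf U).Normal := by
        refine ⟨fun a ha u => ?_⟩
        have hu : (u : G) ∈ Subgroup.normalizer (R' : Set G) :=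
          (sup_le (Subgroup.zpowers_le.2 hg) Subgroup.le_normalizer : U ≤ Subgroup.normalizer (R' : Set G)) u.2
        exact (Subgroup.mem_normalizer_iff.1 hu (a : G)).1 ha
      haveI : Nontrivial U := ⟨⟨⟨g, Subgroup.mem_sup_left (Subgroup.mem_zpowers g)⟩, 1, fun e => hgH' (by rw [show g = 1 from congrArg Subtype.val e]; exact one_mem _)⟩⟩
      have hRC1 : ¬ (R'.subgroupOf U ⊓ Subgroup.center U) ≤ (Subgroup.centralizer (N : Set G)).subgroupOf U := by
        intro hle
        set X := (R'.subgroupOf U ⊓ Subgroup.center U).map U.subtype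
        have hXn : X.Normal := by
          refine ⟨fun z hz a => ?_⟩
          obtain ⟨z, hzz, rfl⟩ := hz
          obtain ⟨b, hb, c, hc, rfl⟩ := Subgroup.mem_sup_of_normal_right.1 (htop ▸ Subgroup.mem_top a : a ∈ U ⊔ N)
          have h1 : c * (z : G) * c⁻¹ = z := by
            rw [show c * (z : G) = (z : G) * c from Subgroup.mem_centralizer_iff.1 (hle hzz : (z : G) ∈ Subgroup.centralizer (N : Set G)) c hc, mul_inv_cancel_right]
          have h2 : b * (z : G) * b⁻¹ = z := by
            rw [show b * (z : G) = (z : G) * b from congrArg Subtype.val (Subgroup.mem_center_iff.1 hzz.2 ⟨b, hb⟩), mul_inv_cancel_right]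
          refine ⟨z, hzz, ?_⟩
          show (z : G) = b * c * (z : G) * (b * c)⁻¹
          rw [show b * c * (z : G) * (b * c)⁻¹ = b * (c * (z : G) * c⁻¹) * b⁻¹ by group, h1, h2]
        have hX1 : X ≠ ⊥ := by
          rw [Ne, Subgroup.map_eq_bot_iff_of_injective _ U.subtype_injective]
          refine inf_center_ne_bot hUp _ fun e => hRC' ?_
          rw [Subgroup.subgroupOf_eq_bot] at e
          intro a ha
          rw [Subgroup.mem_bot.1 (e.le_bot ⟨ha, Subgroup.mem_sup_right ha⟩)]
          exact one_mem _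
        have hXR : X ≤ R' := by
          rintro _ ⟨z, hzz, rfl⟩; exact hzz.1
        have hNX := huniq X hXn (hXR.trans hR'H) hX1
        obtain ⟨i, hi⟩ := IsPGroup.iff_card.1 (hR'p.to_le (hNX.trans hXR))
        obtain ⟨j, hj⟩ := IsPGroup.iff_card.1 hNq
        exact hN1 (Subgroup.eq_bot_of_card_eq _ (Nat.eq_one_of_dvd_coprimes
          (((Nat.coprime_primes hr hq).2 hrq).pow i j) (dvd_of_eq hi) (dvd_of_eq hj)))
      obtain ⟨z0, hz0, hz0C⟩ := SetLike.not_le_iff_exists.1 hRC1
      obtain ⟨e0, he0⟩ := IsPGroup.iff_orderOf.1 hUp z0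
      rw [← Subgroup.orderOf_coe] at he0
      -- the least power not centralizing `N`
      classical
      have hex : ∃ e, (z0 : G) ^ r ^ e ∈ Subgroup.centralizer (N : Set G) :=
        ⟨e0, by rw [← he0, pow_orderOf_eq_one]; exact one_mem _⟩
      obtain ⟨e', he'⟩ : ∃ e', Nat.find hex = e' + 1 := by
        refine ⟨Nat.find hex - 1, (Nat.succ_pred_eq_of_pos (Nat.pos_of_ne_zero fun h => hz0C ?_)).symm⟩
        have := Nat.find_spec hex
        rw [h, pow_zero, pow_one] at this
        exact this
      set z := (z0 : G) ^ r ^ e'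
      have hzC : z ∉ Subgroup.centralizer (N : Set G) := Nat.find_min hex (by omega)
      have hzR : z ∈ R' := pow_mem (show (z0 : G) ∈ R' from hz0.1) _
      have hzpC : z ^ r ∈ Subgroup.centralizer (N : Set G) := by
        rw [← pow_mul, ← pow_succ, ← he']; exact Nat.find_spec hex
      have hzU : ∀ a ∈ U, a * z = z * a := fun a ha =>
        ((show Commute a (z0 : G) from congrArg Subtype.val (Subgroup.mem_center_iff.1 hz0.2 ⟨a, ha⟩)).pow_right _).eq
      have hgz : ∀ j, g * z ^ j ∉ H := fun j h => hgH' ((mul_mem_cancel_right (pow_mem (hR'H hzR) j)).1 h)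
      intro v
      have hv : v ^ r = 1 := by
        refine eq_one_of_central (g := g) (z := z) hp (fun j => hout _ (hgz j)) (fun w => ?_) (fun w => ?_) (fun j w => hvH w _ (hgz j)) ?_ v
        · rw [hzU g (Subgroup.mem_sup_left (Subgroup.mem_zpowers g))]
        · apply Subtype.ext
          rw [MulAut.conjNormal_apply, ← Subgroup.mem_centralizer_iff.1 hzpC w w.2, mul_inv_cancel_right]
        · intro w hw
          have hn : (N ⊓ Subgroup.centralizer (Subgroup.zpowers z : Set G)).Normal := by
            refine hnormal _ inf_le_left fun a ha v' hv' => ⟨hNn.conj_mem v' hv'.1 a, ?_⟩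
            refine Subgroup.mem_centralizer_iff.2 fun t ht => ?_
            obtain ⟨i, rfl⟩ := Subgroup.mem_zpowers_iff.1 ht
            have c1 : Commute (z ^ i) a := (show Commute z a from (hzU a ha).symm).zpow_left i
            have c2 : Commute (z ^ i) v' := Subgroup.mem_centralizer_iff.1 hv'.2 _ ht
            exact ((c1.mul_right c2).mul_right c1.inv_right).eq
          have hb := hfixN (Subgroup.zpowers z) (fun h => hzC (h (Subgroup.mem_zpowers z))) hn
          have hwz : Commute z (w : G) := by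
            have := congrArg Subtype.val hw
            rw [MulAut.conjNormal_apply, mul_inv_eq_iff_eq_mul] at this
            exact this
          refine Subtype.ext (Subgroup.mem_bot.1 (hb ▸ (⟨w.2, ?_⟩ : (w : G) ∈ N ⊓ Subgroup.centralizer (Subgroup.zpowers z : Set G))))
          refine Subgroup.mem_centralizer_iff.2 fun t ht => ?_
          obtain ⟨i, rfl⟩ := Subgroup.mem_zpowers_iff.1 ht
          exact (hwz.zpow_left i).eq
      obtain ⟨j, hj⟩ := IsPGroup.iff_orderOf.1 hNq v
      exact orderOf_eq_one_iff.1 (Nat.eq_one_of_dvd_coprimes (((Nat.coprime_primes hp hq).2 hrq).pow_right j)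
        (orderOf_dvd_of_pow_eq_one hv) (dvd_of_eq hj))
    · intro v
      have hv : v ^ Nat.card R' = 1 := by
        refine eq_one_of_fpf (g := g) (R := R') hp hgp (fun a ha => (Subgroup.mem_normalizer_iff.1 hg a).1 ha) ?_ ?_ ?_ v
        · intro i hi hip a ha hc
          have hgi : g ^ i ∉ H := by
            intro h
            obtain ⟨m, -, hm⟩ := Nat.exists_mul_mod_eq_one_of_coprime
              ((hp.coprime_iff_not_dvd).2 fun hd => absurd (Nat.le_of_dvd hi hd) (not_le.2 hip)).symm hp.one_lt
            refine hgH' ?_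
            have : g = (g ^ i) ^ m := by
              rw [← pow_mul, ← Nat.mod_add_div (i * m) p, hm, pow_add, pow_one, pow_mul, hgp, one_pow, mul_one]
            rw [this]; exact pow_mem h m
          have h1 : (g ^ i) ^ p = 1 := hout _ hgi
          have h2 := hout (g ^ i * a) fun h => hgi ((mul_mem_cancel_right (hR'H ha)).1 h)
          rw [(show Commute (g ^ i) a from hc).mul_pow, h1, one_mul] at h2
          obtain ⟨k, hk⟩ := IsPGroup.iff_orderOf.1 hR'p ⟨a, ha⟩
          rw [Subgroup.orderOf_mk] at hk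
          exact orderOf_eq_one_iff.1 (Nat.eq_one_of_dvd_coprimes (((Nat.coprime_primes hp hr).2 (Ne.symm hrp)).pow_right k)
            (orderOf_dvd_of_pow_eq_one h2) (dvd_of_eq hk))
        · intro a ha w
          exact hvH w _ fun h => hgH' (by
            have := hHn.conj_mem _ h a⁻¹
            simpa [mul_assoc] using this)
        · intro w hw
          have hn : (N ⊓ Subgroup.centralizer (R' : Set G)).Normal := by
            refine hnormal _ inf_le_left fun a ha v' hv' => ⟨hNn.conj_mem v' hv'.1 a, ?_⟩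
            refine Subgroup.mem_centralizer_iff.2 fun t ht => ?_
            have haN : a ∈ Subgroup.normalizer (R' : Set G) :=
              (sup_le (Subgroup.zpowers_le.2 hg) Subgroup.le_normalizer : Subgroup.zpowers g ⊔ R' ≤ _) ha
            have ht' : a⁻¹ * t * a ∈ R' := (Subgroup.mem_normalizer_iff''.1 haN t).1 ht
            have := Subgroup.mem_centralizer_iff.1 hv'.2 _ ht'
            calc t * (a * v' * a⁻¹) = a * ((a⁻¹ * t * a) * v') * a⁻¹ := by group
              _ = a * (v' * (a⁻¹ * t * a)) * a⁻¹ := by rw [this]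
              _ = a * v' * a⁻¹ * t := by group
          have hb := hfixN R' hRC' hn
          refine Subtype.ext (Subgroup.mem_bot.1 (hb ▸ (⟨w.2, ?_⟩ : (w : G) ∈ N ⊓ Subgroup.centralizer (R' : Set G))))
          refine Subgroup.mem_centralizer_iff.2 fun t ht => ?_
          have := congrArg Subtype.val (hw t ht)
          rw [MulAut.conjNormal_apply, mul_inv_eq_iff_eq_mul] at this
          exact this
      obtain ⟨k, hk⟩ := IsPGroup.iff_card.1 hR'p
      obtain ⟨j, hj⟩ := IsPGroup.iff_orderOf.1 hNq v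
      exact orderOf_eq_one_iff.1 (Nat.eq_one_of_dvd_coprimes (((Nat.coprime_primes hr hq).2 hrq).pow k j)
        (hk ▸ orderOf_dvd_of_pow_eq_one hv) (dvd_of_eq hj))
  exact hN1 (eq_bot_iff.2 fun v hv => Subgroup.mem_bot.2 (congrArg Subtype.val (key ⟨v, hv⟩)))

end Main

end Cfsg.Lib.Transfer
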