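import Mathlib
import Cfsg.Agent.Lib.Transfer.PGroupNormal
import Cfsg.Agent.Lib.Transfer.PGroupFrattini

/-!
`p`-groups of maximal class.
-/

set_option autoImplicit false

open scoped commutatorElement

namespace Cfsg.Lib.Transfer

universe u

theorem mem_or_mul_mem_of_index_two {X : Type u} [Group X] {C : Subgroup X} (h : C.index = 2) {t : X}
    (ht : t ∉ C) (x : X) : x ∈ C ∨ x * t ∈ C := by
  by_cases hx : x ∈ C
  · exact Or.inl hx
  · exact Or.inr ((Subgroup.mul_mem_iff_of_index_two h).2 (iff_of_false hx ht))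

theorem card_center_mul {X : Type u} [Group X] (Z : Subgroup X) :
    Nat.card Z * Nat.card (X ⧸ Z) = Nat.card X := by
  rw [← Subgroup.index_eq_card]; exact Z.card_mul_index

/-- `class + 1 ≤ n` for a group of order `p ^ n`, `n ≥ 2`. -/
theorem nilpotencyClass_succ_le {p : ℕ} [hp : Fact p.Prime] : ∀ (n : ℕ) (X : Type u) [Group X] [Finite X],
    Nat.card X = p ^ n → 2 ≤ n → Group.nilpotencyClass X + 1 ≤ n := by
  intro n
  induction n using Nat.strong_induction_on with
  | _ n ih =>
  intro X _ _ hX hn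
  have hG : IsPGroup p X := IsPGroup.of_card hX
  haveI : Group.IsNilpotent X := hG.isNilpotent
  haveI : Nontrivial X := by
    rw [← Finite.one_lt_card_iff_nontrivial, hX]; exact Nat.one_lt_pow (by omega) hp.out.one_lt
  have hZ := hG.bot_lt_center
  obtain ⟨j, hj⟩ := IsPGroup.iff_card.1 (hG.to_subgroup (Subgroup.center X))
  have hj0 : j ≠ 0 := fun h => hZ.ne' (Subgroup.eq_bot_of_card_eq _ (by rw [hj, h, pow_zero]))
  have hq : Nat.card (X ⧸ Subgroup.center X) = p ^ (n - j) ∧ j ≤ n := by
    have h1 := card_center_mul (Subgroup.center X)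
    rw [hj, hX] at h1
    have hjn : j ≤ n := (Nat.pow_dvd_pow_iff_le_right hp.out.one_lt).1 ⟨_, h1.symm⟩
    refine ⟨Nat.eq_of_mul_eq_mul_left (pow_pos hp.out.pos j) ?_, hjn⟩
    rw [h1, ← pow_add, Nat.add_sub_cancel' hjn]
  rw [Group.nilpotencyClass_eq_quotient_center_plus_one]
  rcases Nat.lt_or_ge (n - j) 2 with h2 | h2
  · -- the central quotient is cyclic
    have hcyc : IsCyclic (X ⧸ Subgroup.center X) := by
      interval_cases h : n - j
      · haveI : Subsingleton (X ⧸ Subgroup.center X) :=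
          (Nat.card_eq_one_iff_unique.1 (by simpa using hq.1)).1
        infer_instance
      · exact isCyclic_of_prime_card (p := p) (by simpa using hq.1)
    have htop : Subgroup.center X = ⊤ := by
      refine eq_top_iff.2 fun x _ => Subgroup.mem_center_iff.2 fun y => ?_
      exact commutative_of_cyclic_center_quotient (QuotientGroup.mk' (Subgroup.center X))
        (by rw [QuotientGroup.ker_mk']) y x
    haveI : Subsingleton (X ⧸ Subgroup.center X) := by
      rw [htop]; exact QuotientGroup.subsingleton_quotient_top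
    have : Group.nilpotencyClass (X ⧸ Subgroup.center X) = 0 := Group.nilpotencyClass_zero_iff_subsingleton.2 inferInstance
    omega
  · have := ih (n - j) (by omega) _ hq.1 h2
    omega

theorem center_card_of_maximal_class {p : ℕ} [hp : Fact p.Prime] {n : ℕ} {X : Type u} [Group X] [Finite X]
    (hn : 3 ≤ n) (hX : Nat.card X = p ^ n) (hc : Group.nilpotencyClass X = n - 1) :
    Nat.card (Subgroup.center X) = p ∧ Group.nilpotencyClass (X ⧸ Subgroup.center X) = n - 2 ∧
      Nat.card (X ⧸ Subgroup.center X) = p ^ (n - 1) := by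
  have hG : IsPGroup p X := IsPGroup.of_card hX
  haveI : Group.IsNilpotent X := hG.isNilpotent
  haveI : Nontrivial X := by
    rw [← Finite.one_lt_card_iff_nontrivial, hX]; exact Nat.one_lt_pow (by omega) hp.out.one_lt
  have hcl := Group.nilpotencyClass_eq_quotient_center_plus_one (G := X)
  obtain ⟨j, hj⟩ := IsPGroup.iff_card.1 (hG.to_subgroup (Subgroup.center X))
  have hj0 : j ≠ 0 := fun h => hG.bot_lt_center.ne' (Subgroup.eq_bot_of_card_eq _ (by rw [hj, h, pow_zero]))
  have h1 := card_center_mul (Subgroup.center X)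
  rw [hj, hX] at h1
  have hjn : j ≤ n := (Nat.pow_dvd_pow_iff_le_right hp.out.one_lt).1 ⟨_, h1.symm⟩
  have hq : Nat.card (X ⧸ Subgroup.center X) = p ^ (n - j) := by
    refine Nat.eq_of_mul_eq_mul_left (pow_pos hp.out.pos j) ?_
    rw [h1, ← pow_add, Nat.add_sub_cancel' hjn]
  rcases Nat.lt_or_ge (n - j) 2 with h2 | h2
  · have hcyc : IsCyclic (X ⧸ Subgroup.center X) := by
      interval_cases h : n - j
      · haveI : Subsingleton (X ⧸ Subgroup.center X) :=
          (Nat.card_eq_one_iff_unique.1 (by simpa using hq)).1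
        infer_instance
      · exact isCyclic_of_prime_card (p := p) (by simpa using hq)
    have htop : Subgroup.center X = ⊤ := by
      refine eq_top_iff.2 fun x _ => Subgroup.mem_center_iff.2 fun y => ?_
      exact commutative_of_cyclic_center_quotient (QuotientGroup.mk' (Subgroup.center X))
        (by rw [QuotientGroup.ker_mk']) y x
    haveI : Subsingleton (X ⧸ Subgroup.center X) := by
      rw [htop]; exact QuotientGroup.subsingleton_quotient_top
    have : Group.nilpotencyClass (X ⧸ Subgroup.center X) = 0 := Group.nilpotencyClass_zero_iff_subsingleton.2 inferInstance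
    omega
  · have := nilpotencyClass_succ_le (p := p) (n - j) _ hq h2
    have hj1 : j = 1 := by omega
    subst hj1
    exact ⟨by simpa using hj, by omega, hq⟩

theorem map_commutator_of_surjective {X Y : Type u} [Group X] [Group Y] (f : X →* Y) (hf : Function.Surjective f) :
    (commutator X).map f = commutator Y := by
  rw [commutator_def, Subgroup.map_commutator, Subgroup.map_top_of_surjective f hf, commutator_def]

theorem index_commutator_quotient {X : Type u} [Group X] (Z : Subgroup X) [Z.Normal] (hZ : Z ≤ commutator X) :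
    (commutator (X ⧸ Z)).index = (commutator X).index := by
  rw [← map_commutator_of_surjective (QuotientGroup.mk' Z) (QuotientGroup.mk'_surjective Z)]
  exact Subgroup.index_map_eq _ (QuotientGroup.mk'_surjective Z) (by rwa [QuotientGroup.ker_mk'])

theorem commutator_le_of_generators {X : Type u} [Group X] (W : Subgroup X) [W.Normal] (S : Set X)
    (hS : Subgroup.closure S = ⊤) (h : ∀ a ∈ S, ∀ b ∈ S, ⁅a, b⁆ ∈ W) : commutator X ≤ W := by
  rw [← Subgroup.Normal.quotient_commutative_iff_commutator_le]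
  let q := QuotientGroup.mk' W
  have h1 : ∀ a ∈ S, ∀ b ∈ S, q a * q b = q b * q a := fun a ha b hb => by
    rw [← commutatorElement_eq_one_iff_mul_comm, ← map_commutatorElement]
    exact (QuotientGroup.eq_one_iff _).2 (h a ha b hb)
  have h2 : (⊤ : Subgroup X) ≤ (Subgroup.centralizer (q '' S)).comap q := by
    rw [← hS, Subgroup.closure_le]
    intro a ha
    rw [SetLike.mem_coe, Subgroup.mem_comap, Subgroup.mem_centralizer_iff]
    rintro _ ⟨b, hb, rfl⟩
    exact h1 b hb a ha
  have h3 : (⊤ : Subgroup X) ≤ (Subgroup.center (X ⧸ W)).comap q := by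
    rw [← hS, Subgroup.closure_le]
    intro a ha
    rw [SetLike.mem_coe, Subgroup.mem_comap, Subgroup.mem_center_iff]
    intro y
    obtain ⟨b, rfl⟩ := QuotientGroup.mk'_surjective W y
    exact (Subgroup.mem_centralizer_iff.1 (h2 (Subgroup.mem_top b)) _ ⟨a, ha, rfl⟩).symm
  refine ⟨⟨fun x y => ?_⟩⟩
  obtain ⟨b, rfl⟩ := QuotientGroup.mk'_surjective W y
  exact Subgroup.mem_center_iff.1 (h3 (Subgroup.mem_top b)) x

/-- A `2`-group with `|X : X'| = 4` has a cyclic subgroup of index `2`. -/
theorem exists_cyclic_index_two_of_four : ∀ (n : ℕ) (X : Type u) [Group X] [Finite X],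
    3 ≤ n → Nat.card X = 2 ^ n → (commutator X).index = 4 → ∃ a : X, orderOf a = 2 ^ (n - 1) := by
  haveI := Fact.mk Nat.prime_two
  intro n
  induction n using Nat.strong_induction_on with
  | _ n ih =>
  intro X _ _ hn hX h4
  have hG : IsPGroup 2 X := IsPGroup.of_card hX
  have hDc : Nat.card (commutator X) = 2 ^ (n - 2) := by
    have h1 := (commutator X).card_mul_index
    rw [h4, hX, show n = (n - 2) + 2 by omega, pow_add] at h1
    exact Nat.eq_of_mul_eq_mul_right (by norm_num : 0 < 2 ^ 2) h1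
  have hD : commutator X ≠ ⊥ := by
    intro h
    rw [h, Subgroup.card_bot] at hDc
    have := (Nat.pow_eq_one.1 hDc.symm).resolve_left (by norm_num)
    omega
  rcases eq_or_lt_of_le hn with hn3 | hn4
  · subst hn3
    by_contra hno
    push Not at hno
    refine hD ?_
    have hsq : ∀ x : X, x * x = 1 := fun x => by
      obtain ⟨k, hk, hxk⟩ := (Nat.dvd_prime_pow Nat.prime_two).1 (hX ▸ orderOf_dvd_natCard x)
      interval_cases k
      · rw [pow_zero, orderOf_eq_one_iff] at hxk; simp [hxk]
      · rw [pow_one] at hxk; rw [← pow_two, ← hxk, pow_orderOf_eq_one]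
      · exact absurd hxk (hno x)
      · exfalso
        have hc : IsCyclic X := isCyclic_of_orderOf_eq_card x (by rw [hxk, hX])
        letI : CommGroup X := IsCyclic.commGroup
        refine hD ((Subgroup.commutator_eq_bot_iff_le_centralizer).2 fun a _ => ?_)
        exact Subgroup.mem_centralizer_iff.2 fun b _ => mul_comm b a
    rw [commutator_def, Subgroup.commutator_eq_bot_iff_le_centralizer]
    intro a _
    rw [Subgroup.mem_centralizer_iff]
    intro b _
    have i1 : ∀ x : X, x⁻¹ = x := fun x => inv_eq_of_mul_eq_one_left (hsq x)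
    calc b * a = (b * a)⁻¹ := (i1 _).symm
      _ = a * b := by rw [mul_inv_rev, i1, i1]
  obtain ⟨Z, z, hZn, -, hZD, hZc, hzZ, hz0, -, hzc⟩ := exists_normal_step hG ⊥ (commutator X) (bot_lt_iff_ne_bot.2 hD)
  rw [Subgroup.card_bot, mul_one] at hZc
  haveI := hZn
  have hQc : Nat.card (X ⧸ Z) = 2 ^ (n - 1) := by
    have h1 := card_center_mul Z
    rw [hZc, hX, show n = (n - 1) + 1 by omega, pow_succ'] at h1
    exact Nat.eq_of_mul_eq_mul_left two_pos h1
  obtain ⟨ab, hab⟩ := ih (n - 1) (by omega) _ (by omega) hQc (by rw [index_commutator_quotient Z hZD, h4])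
  obtain ⟨a, rfl⟩ := QuotientGroup.mk'_surjective Z ab
  set q := QuotientGroup.mk' Z
  have hzu : ∀ u ∈ Z, u * u = 1 := fun u hu => by
    have := pow_card_eq_one' (x := (⟨u, hu⟩ : Z))
    rw [hZc, pow_two] at this
    exact congrArg Subtype.val this
  by_cases hord : a ^ 2 ^ (n - 2) = 1
  · exfalso
    set C : Subgroup X := (Subgroup.zpowers (q a)).comap q with hC
    have hCi : C.index = 2 := by
      rw [Subgroup.index_comap_of_surjective _ (QuotientGroup.mk'_surjective Z)]
      have h2 := (Subgroup.zpowers (q a)).card_mul_index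
      rw [Nat.card_zpowers, hab, hQc, show n - 1 = (n - 1 - 1) + 1 by omega, pow_succ] at h2
      exact Nat.eq_of_mul_eq_mul_left (pow_pos two_pos _) h2
    obtain ⟨t, ht⟩ : ∃ t, t ∉ C := by
      by_contra h
      push Not at h
      rw [(eq_top_iff.2 fun x _ => h x : C = ⊤), Subgroup.index_top] at hCi
      omega
    haveI : C.Normal := Subgroup.normal_of_index_eq_two hCi
    have haC : a ∈ C := Subgroup.mem_zpowers (q a)
    obtain ⟨r, hr⟩ : ∃ r : ℤ, q a ^ r = q (t * a * t⁻¹) :=
      Subgroup.mem_zpowers_iff.1 ((inferInstance : C.Normal).conj_mem a haC t)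
    obtain ⟨u, hu, htat⟩ : ∃ u ∈ Z, t * a * t⁻¹ = a ^ r * u :=
      ⟨(a ^ r)⁻¹ * (t * a * t⁻¹), (QuotientGroup.eq (s := Z)).1 (by rw [← QuotientGroup.mk'_apply, ← QuotientGroup.mk'_apply, map_zpow]; exact hr),
        by group⟩
    have hcen : ∀ v ∈ Z, ∀ g : X, Commute v g := by
      intro v hv g
      have h1 := hzc
      have hv' : v ∈ Subgroup.zpowers z ∨ v = 1 := by
        by_cases hv1 : v = 1
        · exact Or.inr hv1
        left
        haveI : Fact (Nat.card Z).Prime := ⟨hZc ▸ Nat.prime_two⟩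
        have hz1 : z ≠ 1 := fun h => hz0 (Subgroup.mem_bot.2 h)
        have := mem_zpowers_of_prime_card (g := (⟨z, hzZ⟩ : Z)) (g' := ⟨v, hv⟩) rfl (fun h => hz1 (congrArg Subtype.val h))
        obtain ⟨i, hi⟩ := Subgroup.mem_zpowers_iff.1 this
        exact ⟨i, by simpa using congrArg Subtype.val hi⟩
      rcases hv' with hv' | rfl
      · obtain ⟨i, rfl⟩ := hv'
        refine Commute.zpow_left ?_ i
        have := hzc g
        rw [Subgroup.mem_bot, mul_inv_eq_one, mul_inv_eq_iff_eq_mul] at this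
        exact this.symm
      · exact Commute.one_left g
    obtain ⟨s, hs⟩ : (2 : ℤ) ∣ r - 1 := by
      by_contra hodd
      have hev : (2 : ℤ) ∣ r := by omega
      obtain ⟨s, rfl⟩ := hev
      have h1 : orderOf (q (t * a * t⁻¹)) = 2 ^ (n - 1 - 1) := by
        rw [map_mul, map_mul, map_inv, ← hab]
        exact (orderOf_injective (MulAut.conj (q t)).toMonoidHom (MulAut.conj (q t)).injective (q a))
      rw [← hr] at h1
      have h3 : (q a ^ (2 * s)) ^ 2 ^ (n - 1 - 1 - 1) = 1 := by
        rw [← zpow_natCast, ← zpow_mul, show (2 * s) * ((2 ^ (n - 1 - 1 - 1) : ℕ) : ℤ) = ((2 ^ (n - 1 - 1) : ℕ) : ℤ) * s by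
          rw [show n - 1 - 1 - 1 = n - 3 by omega, show n - 1 - 1 = (n - 3) + 1 by omega, pow_succ]; push_cast; ring,
          zpow_mul, zpow_natCast, ← hab, pow_orderOf_eq_one, one_zpow]
      have := orderOf_dvd_of_pow_eq_one h3
      rw [h1, Nat.pow_dvd_pow_iff_le_right (by norm_num)] at this
      omega
    set w := a ^ (r - 1) * u with hw
    have htw : t * w * t⁻¹ = w ^ r := by
      rw [hw, (hcen u hu _).symm.mul_zpow,
        show t * (a ^ (r - 1) * u) * t⁻¹ = (t * a * t⁻¹) ^ (r - 1) * (t * u * t⁻¹) by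
          rw [conj_zpow]; group, htat, (hcen u hu _).symm.mul_zpow, (hcen u hu t).symm.eq, mul_inv_cancel_right,
        mul_assoc, ← zpow_add_one, ← zpow_mul, ← zpow_mul, mul_comm r, sub_add_cancel]
    have hwa : Commute a w := ((Commute.refl a).zpow_right _).mul_right (hcen u hu a).symm
    have hCgen : ∀ x ∈ C, ∃ i : ℤ, ∃ v ∈ Z, x = a ^ i * v := by
      intro x hx
      obtain ⟨i, hi⟩ := Subgroup.mem_zpowers_iff.1 hx
      exact ⟨i, (a ^ i)⁻¹ * x, (QuotientGroup.eq (s := Z)).1 (by rw [← QuotientGroup.mk'_apply, ← QuotientGroup.mk'_apply, map_zpow]; exact hi), by group⟩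
    haveI hWn : (Subgroup.zpowers w).Normal := by
      refine ⟨fun x hx g => ?_⟩
      obtain ⟨i, rfl⟩ := hx
      have hgw : g * w * g⁻¹ ∈ Subgroup.zpowers w := by
        have hC' : ∀ x ∈ C, Commute x w := fun x hx => by
          obtain ⟨j, v, hv, rfl⟩ := hCgen x hx
          exact (hwa.zpow_left j).mul_left (hcen v hv w)
        rcases mem_or_mul_mem_of_index_two hCi ht g with hg | hg
        · rw [(hC' g hg).eq, mul_inv_cancel_right]; exact Subgroup.mem_zpowers w
        · have e : g * w * g⁻¹ = (g * t) * (t⁻¹ * w * t) * (g * t)⁻¹ := by group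
          have h2t : t * t ∈ C := Subgroup.mul_self_mem_of_index_two hCi t
          have e2 : t⁻¹ * w * t = w ^ r := by
            rw [← htw]
            calc t⁻¹ * w * t = t * ((t * t)⁻¹ * w * (t * t)) * t⁻¹ := by group
              _ = _ := by rw [mul_assoc (t * t)⁻¹, (hC' _ h2t).symm.eq, inv_mul_cancel_left]
          rw [e, e2, ((hC' _ hg).zpow_right r).eq, mul_inv_cancel_right]
          exact Subgroup.zpow_mem _ (Subgroup.mem_zpowers w) r
      show g * w ^ i * g⁻¹ ∈ Subgroup.zpowers w
      rw [← conj_zpow]; exact Subgroup.zpow_mem _ hgw i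
    have hle : commutator X ≤ Subgroup.zpowers w := by
      refine commutator_le_of_generators _ ({a, t} ∪ (Z : Set X)) ?_ ?_
      · rw [eq_top_iff]
        intro x _
        have haS : a ∈ Subgroup.closure ({a, t} ∪ (Z : Set X)) := Subgroup.subset_closure (Or.inl (Or.inl rfl))
        have htS : t ∈ Subgroup.closure ({a, t} ∪ (Z : Set X)) := Subgroup.subset_closure (Or.inl (Or.inr rfl))
        have hCle : ∀ y ∈ C, y ∈ Subgroup.closure ({a, t} ∪ (Z : Set X)) := fun y hy => by
          obtain ⟨i, v, hv, rfl⟩ := hCgen y hy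
          exact mul_mem (zpow_mem haS i) (Subgroup.subset_closure (Or.inr hv))
        rcases mem_or_mul_mem_of_index_two hCi ht x with hx | hx
        · exact hCle x hx
        · simpa using mul_mem (hCle _ hx) (inv_mem htS)
      · have hta : ⁅t, a⁆ ∈ Subgroup.zpowers w := by
          rw [commutatorElement_def, htat, mul_assoc, (hcen u hu a⁻¹).eq, ← mul_assoc, ← zpow_sub_one, ← hw]
          exact Subgroup.mem_zpowers w
        have hZ1 : ∀ v ∈ Z, ∀ g : X, ⁅v, g⁆ ∈ Subgroup.zpowers w ∧ ⁅g, v⁆ ∈ Subgroup.zpowers w := fun v hv g => by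
          rw [commutatorElement_eq_one_iff_mul_comm.2 (hcen v hv g).eq, commutatorElement_eq_one_iff_mul_comm.2 (hcen v hv g).symm.eq]
          exact ⟨one_mem _, one_mem _⟩
        rintro x ((rfl | rfl) | hx) y ((rfl | rfl) | hy)
        · rw [commutatorElement_self]; exact one_mem _
        · rw [← commutatorElement_inv]; exact inv_mem hta
        · exact (hZ1 y hy x).2
        · exact hta
        · rw [commutatorElement_self]; exact one_mem _
        · exact (hZ1 y hy x).2
        · exact (hZ1 x hx y).1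
        · exact (hZ1 x hx y).1
        · exact (hZ1 x hx y).1
    have hwp : w ^ 2 ^ (n - 3) = 1 := by
      rw [hw, (hcen u hu _).symm.mul_pow, hs, ← zpow_natCast (a ^ (2 * s)), ← zpow_mul,
        show (2 * s) * ((2 ^ (n - 3) : ℕ) : ℤ) = ((2 ^ (n - 2) : ℕ) : ℤ) * s by
          rw [show n - 2 = (n - 3) + 1 by omega, pow_succ]; push_cast; ring,
        zpow_mul, zpow_natCast, hord, one_zpow, one_mul, show n - 3 = (n - 4) + 1 by omega, pow_succ', pow_mul,
        pow_two, hzu u hu, one_pow]
    have h5 := (Subgroup.card_dvd_of_le hle).trans ((Nat.card_zpowers w).symm ▸ orderOf_dvd_of_pow_eq_one hwp)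
    rw [hDc, Nat.pow_dvd_pow_iff_le_right (by norm_num)] at h5
    omega
  · refine ⟨a, ?_⟩
    have h1 : orderOf a ∣ 2 ^ (n - 1) := by
      refine orderOf_dvd_of_pow_eq_one ?_
      have h2 : a ^ 2 ^ (n - 1 - 1) ∈ Z := by
        rw [← QuotientGroup.eq_one_iff, ← QuotientGroup.mk'_apply, map_pow, ← hab, pow_orderOf_eq_one]
      rw [show n - 1 = (n - 1 - 1) + 1 by omega, pow_succ, pow_mul, pow_two]
      exact hzu _ h2
    obtain ⟨k, hk, hk'⟩ := (Nat.dvd_prime_pow Nat.prime_two).1 h1
    rw [hk']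
    congr 1
    by_contra hne
    exact hord (orderOf_dvd_iff_pow_eq_one.1 (hk' ▸ pow_dvd_pow 2 (show k ≤ n - 2 by omega)))

/-- The structure of a `2`-group with `|X : X'| = 4`. -/
theorem four_structure {n : ℕ} {X : Type u} [Group X] [Finite X]
    (hn : 3 ≤ n) (hX : Nat.card X = 2 ^ n) (h4 : (commutator X).index = 4) :
    ∃ a t : X, orderOf a = 2 ^ (n - 1) ∧ t ∉ Subgroup.zpowers a ∧
      Subgroup.center X = Subgroup.zpowers (a ^ 2 ^ (n - 2)) ∧ Nat.card (Subgroup.center X) = 2 ∧
      Subgroup.center X ≤ commutator X ∧ t * a * t⁻¹ * a ∈ Subgroup.center X ∧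
      t * t ∈ Subgroup.center X := by
  haveI := Fact.mk Nat.prime_two
  obtain ⟨a, ha⟩ := exists_cyclic_index_two_of_four n X hn hX h4
  have hG : IsPGroup 2 X := IsPGroup.of_card hX
  set C := Subgroup.zpowers a with hC
  have hCi : C.index = 2 := by
    have h2 := C.card_mul_index
    rw [Nat.card_zpowers, ha, hX, show n = (n - 1) + 1 by omega, pow_succ] at h2
    exact Nat.eq_of_mul_eq_mul_left (pow_pos two_pos _) h2
  obtain ⟨t, ht⟩ : ∃ t, t ∉ C := by
    by_contra h
    push Not at h
    rw [(eq_top_iff.2 fun x _ => h x : C = ⊤), Subgroup.index_top] at hCi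
    omega
  haveI : C.Normal := Subgroup.normal_of_index_eq_two hCi
  obtain ⟨r, hr⟩ : ∃ r : ℤ, a ^ r = t * a * t⁻¹ :=
    Subgroup.mem_zpowers_iff.1 ((inferInstance : C.Normal).conj_mem a (Subgroup.mem_zpowers a) t)
  have hC' : ∀ x ∈ C, Commute a x := by
    rintro _ ⟨i, rfl⟩; exact (Commute.refl a).zpow_right i
  have hdvd : ∀ i : ℤ, a ^ i = 1 ↔ ((2 : ℤ) ^ (n - 1)) ∣ i := fun i => by
    rw [← orderOf_dvd_iff_zpow_eq_one, ha]; push_cast; rfl
  have hle : commutator X ≤ Subgroup.zpowers (a ^ (r - 1)) := by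
    haveI : (Subgroup.zpowers (a ^ (r - 1))).Normal := by
      refine ⟨fun x hx g => ?_⟩
      obtain ⟨i, rfl⟩ := hx
      have hg' : g * a * g⁻¹ ∈ C := (inferInstance : C.Normal).conj_mem a (Subgroup.mem_zpowers a) g
      obtain ⟨k, hk⟩ := Subgroup.mem_zpowers_iff.1 hg'
      show g * (a ^ (r - 1)) ^ i * g⁻¹ ∈ _
      rw [← conj_zpow, ← conj_zpow, ← hk, ← zpow_mul a k, mul_comm k, zpow_mul]
      exact Subgroup.zpow_mem _ (Subgroup.zpow_mem _ (Subgroup.mem_zpowers _) k) i
    refine commutator_le_of_generators _ {a, t} ?_ ?_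
    · rw [eq_top_iff]
      intro x _
      have haS : a ∈ Subgroup.closure ({a, t} : Set X) := Subgroup.subset_closure (Or.inl rfl)
      have htS : t ∈ Subgroup.closure ({a, t} : Set X) := Subgroup.subset_closure (Or.inr rfl)
      rcases mem_or_mul_mem_of_index_two hCi ht x with hx | hx
      · exact Subgroup.zpowers_le.2 haS hx
      · simpa using mul_mem (Subgroup.zpowers_le.2 haS hx) (inv_mem htS)
    · have hta : ⁅t, a⁆ ∈ Subgroup.zpowers (a ^ (r - 1)) := by
        rw [commutatorElement_def, ← hr, ← zpow_sub_one]; exact Subgroup.mem_zpowers _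
      rintro x (rfl | rfl) y (rfl | rfl)
      · rw [commutatorElement_self]; exact one_mem _
      · rw [← commutatorElement_inv]; exact inv_mem hta
      · exact hta
      · rw [commutatorElement_self]; exact one_mem _
  have hDc : Nat.card (commutator X) = 2 ^ (n - 2) := by
    have h1 := (commutator X).card_mul_index
    rw [h4, hX, show n = (n - 2) + 2 by omega, pow_add] at h1
    exact Nat.eq_of_mul_eq_mul_right (by norm_num : 0 < 2 ^ 2) h1
  have h4r : ¬ (4 : ℤ) ∣ r - 1 := by
    rintro ⟨s, hs⟩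
    have hp : (a ^ (r - 1)) ^ 2 ^ (n - 3) = 1 := by
      rw [← zpow_natCast, ← zpow_mul, hdvd, hs]
      refine ⟨s, ?_⟩
      rw [show n - 1 = (n - 3) + 2 by omega]; push_cast; simp only [pow_add]; ring
    have h5 := (Subgroup.card_dvd_of_le hle).trans ((Nat.card_zpowers (a ^ (r - 1))).symm ▸ orderOf_dvd_of_pow_eq_one hp)
    rw [hDc, Nat.pow_dvd_pow_iff_le_right (by norm_num)] at h5
    omega
  have hrr : ((2 : ℤ) ^ (n - 1)) ∣ r * r - 1 := by
    rw [← hdvd, zpow_sub_one, mul_inv_eq_one, zpow_mul, hr, conj_zpow, hr]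
    have h2 := hC' _ (Subgroup.mul_self_mem_of_index_two hCi t)
    calc t * (t * a * t⁻¹) * t⁻¹ = (t * t) * a * (t * t)⁻¹ := by group
      _ = a := by rw [← h2.eq, mul_inv_cancel_right]
  obtain ⟨s, hs⟩ : (2 : ℤ) ∣ r - 1 := by
    by_contra hodd
    have h1 : (2 : ℤ) ∣ r * r - 1 := (dvd_pow_self 2 (by omega)).trans hrr
    obtain ⟨k, hk⟩ : (2 : ℤ) ∣ r := by omega
    rw [hk] at h1
    have : (2 : ℤ) ∣ 1 := (dvd_sub_right (Dvd.dvd.mul_right (dvd_mul_right 2 k) _)).1 h1
    omega
  have hs2 : IsCoprime ((2 : ℤ) ^ (n - 2)) s := by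
    refine IsCoprime.pow_left ?_
    refine (Int.prime_two.coprime_iff_not_dvd).2 fun ⟨k, hk⟩ => h4r ⟨k, by rw [hs, hk]; ring⟩
  have hr1 : ((2 : ℤ) ^ (n - 2)) ∣ r + 1 := by
    refine hs2.dvd_of_dvd_mul_left ((mul_dvd_mul_iff_left (two_ne_zero : (2 : ℤ) ≠ 0)).1 ?_)
    rw [← pow_succ', show n - 2 + 1 = n - 1 by omega, ← mul_assoc, ← hs,
      show (r - 1) * (r + 1) = r * r - 1 by ring]
    exact hrr
  have hfix : ∀ i : ℤ, t * a ^ i * t⁻¹ = a ^ i ↔ ((2 : ℤ) ^ (n - 2)) ∣ i := fun i => by
    rw [← conj_zpow, ← hr, ← zpow_mul, ← mul_inv_eq_one, ← zpow_neg, ← zpow_add, hdvd,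
      show r * i + -i = 2 * (s * i) by linear_combination i * hs,
      show (2 : ℤ) ^ (n - 1) = 2 * 2 ^ (n - 2) by rw [← pow_succ']; congr 1; omega,
      mul_dvd_mul_iff_left (two_ne_zero : (2 : ℤ) ≠ 0)]
    exact ⟨fun h => hs2.dvd_of_dvd_mul_left h, fun h => dvd_mul_of_dvd_right h s⟩
  have hcen : ∀ x, x ∈ Subgroup.center X ↔ x ∈ C ∧ t * x * t⁻¹ = x := by
    intro x
    constructor
    · intro hx
      refine ⟨?_, by rw [Subgroup.mem_center_iff.1 hx t, mul_inv_cancel_right]⟩
      rcases mem_or_mul_mem_of_index_two hCi ht x with h | h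
      · exact h
      · exfalso
        have h1 : Commute a (x * t) := hC' _ h
        have h2 : Commute a x := Subgroup.mem_center_iff.1 hx a
        have h3 : Commute a t := by
          have := h2.inv_right.mul_right h1
          rwa [inv_mul_cancel_left] at this
        have h6 : a ^ (r - 1) = 1 := by rw [zpow_sub_one, hr, ← h3.eq, mul_inv_cancel_right, mul_inv_cancel]
        exact h4r (dvd_trans (by rw [show (4 : ℤ) = 2 ^ 2 by norm_num]; exact pow_dvd_pow 2 (by omega)) ((hdvd _).1 h6))
    · rintro ⟨hx, hxt⟩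
      rw [Subgroup.mem_center_iff]
      intro g
      have htc : Commute t x := mul_inv_eq_iff_eq_mul.1 hxt
      have hCc : ∀ y ∈ C, Commute y x := fun y hy => by
        obtain ⟨i, rfl⟩ := hy; exact (hC' x hx).zpow_left i
      rcases mem_or_mul_mem_of_index_two hCi ht g with h | h
      · exact (hCc g h).eq
      · have := ((hCc _ h).mul_left htc.inv_left)
        rw [mul_inv_cancel_right] at this
        exact this.eq
  have hZ : Subgroup.center X = Subgroup.zpowers (a ^ 2 ^ (n - 2)) := by
    ext x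
    rw [hcen]
    constructor
    · rintro ⟨⟨i, rfl⟩, hi⟩
      obtain ⟨k, hk⟩ := (hfix i).1 hi
      exact ⟨k, by show (a ^ 2 ^ (n - 2)) ^ k = a ^ i; rw [← zpow_natCast, ← zpow_mul, hk]; push_cast; rfl⟩
    · rintro ⟨k, rfl⟩
      show (a ^ 2 ^ (n - 2)) ^ k ∈ C ∧ t * (a ^ 2 ^ (n - 2)) ^ k * t⁻¹ = (a ^ 2 ^ (n - 2)) ^ k
      rw [← zpow_natCast a, ← zpow_mul]
      exact ⟨⟨_, rfl⟩, (hfix _).2 (dvd_mul_of_dvd_left (by push_cast; rfl) k)⟩
  have hZc : Nat.card (Subgroup.center X) = 2 := by
    rw [hZ, Nat.card_zpowers, orderOf_pow_of_dvd (pow_ne_zero _ two_ne_zero) (by rw [ha]; exact pow_dvd_pow 2 (by omega)),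
      ha, Nat.pow_div (by omega) two_pos, show n - 1 - (n - 2) = 1 by omega, pow_one]
  have hD : commutator X ≠ ⊥ := by
    intro h
    rw [h, Subgroup.card_bot] at hDc
    have := (Nat.pow_eq_one.1 hDc.symm).resolve_left (by norm_num)
    omega
  refine ⟨a, t, ha, ht, hZ, hZc, ?_, ?_, ?_⟩
  · have hi := inf_center_ne_bot hG (commutator X) hD
    obtain ⟨j, hj, hjc⟩ := (Nat.dvd_prime_pow Nat.prime_two).1
      (show Nat.card ↥(commutator X ⊓ Subgroup.center X) ∣ 2 ^ 1 by
        rw [pow_one, ← hZc]; exact Subgroup.card_dvd_of_le inf_le_right)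
    refine le_trans (Subgroup.eq_of_le_of_card_ge inf_le_right ?_).ge inf_le_left
    rw [hZc, hjc]
    rcases j with _ | _ | j
    · exact absurd (Subgroup.eq_bot_of_card_eq _ (by simpa using hjc)) hi
    · simp
    · omega
  · rw [← hr, ← zpow_add_one, hZ]
    obtain ⟨k, hk⟩ := hr1
    exact ⟨k, by show (a ^ 2 ^ (n - 2)) ^ k = _; rw [← zpow_natCast, ← zpow_mul, hk]; push_cast; rfl⟩
  · rw [hcen]
    exact ⟨Subgroup.mul_self_mem_of_index_two hCi t, by group⟩

theorem nilpotencyClass_of_four : ∀ (n : ℕ) (X : Type u) [Group X] [Finite X], 3 ≤ n →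
    Nat.card X = 2 ^ n → (commutator X).index = 4 → Group.nilpotencyClass X = n - 1 := by
  haveI := Fact.mk Nat.prime_two
  intro n
  induction n using Nat.strong_induction_on with
  | _ n ih =>
  intro X _ _ hn hX h4
  obtain ⟨a, t, -, -, -, hZc, hZD, -, -⟩ := four_structure hn hX h4
  have hG : IsPGroup 2 X := IsPGroup.of_card hX
  haveI : Group.IsNilpotent X := hG.isNilpotent
  haveI : Nontrivial X := by
    rw [← Finite.one_lt_card_iff_nontrivial, hX]; exact Nat.one_lt_pow (by omega) one_lt_two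
  have hQc : Nat.card (X ⧸ Subgroup.center X) = 2 ^ (n - 1) := by
    have h1 := card_center_mul (Subgroup.center X)
    rw [hZc, hX, show n = (n - 1) + 1 by omega, pow_succ'] at h1
    exact Nat.eq_of_mul_eq_mul_left two_pos h1
  rw [Group.nilpotencyClass_eq_quotient_center_plus_one]
  rcases eq_or_lt_of_le hn with rfl | hn4
  · have := nilpotencyClass_succ_le (p := 2) 2 _ hQc le_rfl
    have h0 : Group.nilpotencyClass (X ⧸ Subgroup.center X) ≠ 0 := by
      intro h
      haveI := Group.nilpotencyClass_zero_iff_subsingleton.1 h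
      rw [Nat.card_of_subsingleton (1 : X ⧸ Subgroup.center X)] at hQc
      norm_num at hQc
    omega
  · rw [ih (n - 1) (by omega) _ (by omega) hQc (by rw [index_commutator_quotient _ hZD, h4])]
    omega

theorem four_of_maximal_class : ∀ (n : ℕ) (X : Type u) [Group X] [Finite X], 3 ≤ n →
    Nat.card X = 2 ^ n → Group.nilpotencyClass X = n - 1 → (commutator X).index = 4 := by
  haveI := Fact.mk Nat.prime_two
  intro n
  induction n using Nat.strong_induction_on with
  | _ n ih =>
  intro X _ _ hn hX hc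
  obtain ⟨hZc, hcq, hQc⟩ := center_card_of_maximal_class hn hX hc
  have hG : IsPGroup 2 X := IsPGroup.of_card hX
  have hD : commutator X ≠ ⊥ := by
    intro h
    rw [commutator_def, Subgroup.commutator_eq_bot_iff_le_centralizer, Subgroup.coe_top, Subgroup.centralizer_univ] at h
    have h1 := Subgroup.card_le_of_le h
    rw [Subgroup.card_top, hZc, hX] at h1
    have : 2 ^ 2 ≤ 2 ^ n := Nat.pow_le_pow_right two_pos (by omega)
    omega
  have hi := inf_center_ne_bot hG (commutator X) hD
  have hZD : Subgroup.center X ≤ commutator X := by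
    obtain ⟨j, hj, hjc⟩ := (Nat.dvd_prime_pow Nat.prime_two).1
      (show Nat.card ↥(commutator X ⊓ Subgroup.center X) ∣ 2 ^ 1 by
        rw [pow_one, ← hZc]; exact Subgroup.card_dvd_of_le inf_le_right)
    refine le_trans (Subgroup.eq_of_le_of_card_ge inf_le_right ?_).ge inf_le_left
    rw [hZc, hjc]
    rcases j with _ | _ | j
    · exact absurd (Subgroup.eq_bot_of_card_eq _ (by simpa using hjc)) hi
    · simp
    · omega
  rcases eq_or_lt_of_le hn with rfl | hn4
  · have hle : commutator X ≤ Subgroup.center X := by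
      rw [← Subgroup.Normal.quotient_commutative_iff_commutator_le]
      exact IsPGroup.isMulCommutative_of_card_eq_prime_sq (p := 2) hQc
    rw [le_antisymm hle hZD, Subgroup.index_eq_card, hQc]; norm_num
  · rw [← index_commutator_quotient _ hZD]
    exact ih (n - 1) (by omega) _ (by omega) hQc (by rw [hcq]; omega)

/-- A self-centralizing subgroup of order `p²` forces maximal class. -/
theorem nilpotencyClass_of_selfCentralizing {p : ℕ} [hp : Fact p.Prime] : ∀ (n : ℕ) (X : Type u) [Group X] [Finite X],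
    Nat.card X = p ^ n → ∀ A : Subgroup X, Nat.card A = p ^ 2 → Subgroup.centralizer (A : Set X) = A →
      Group.nilpotencyClass X = n - 1 := by
  intro n
  induction n using Nat.strong_induction_on with
  | _ n ih =>
  intro X _ _ hX A hA hC
  have hG : IsPGroup p X := IsPGroup.of_card hX
  haveI : Group.IsNilpotent X := hG.isNilpotent
  haveI hAc : IsMulCommutative A := IsPGroup.isMulCommutative_of_card_eq_prime_sq hA
  have hn2 : 2 ≤ n := (Nat.pow_dvd_pow_iff_le_right hp.out.one_lt).1 (hA ▸ hX ▸ Subgroup.card_subgroup_dvd_card A)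
  haveI : Nontrivial X := by
    rw [← Finite.one_lt_card_iff_nontrivial, hX]; exact Nat.one_lt_pow (by omega) hp.out.one_lt
  rw [Group.nilpotencyClass_eq_quotient_center_plus_one]
  set Z := Subgroup.center X
  have hZA : Z ≤ A := hC ▸ Subgroup.center_le_centralizer _
  by_cases hAX : A = ⊤
  · have hZtop : Z = ⊤ := by
      have h1 : Subgroup.centralizer (A : Set X) = Z := by rw [hAX, Subgroup.coe_top, Subgroup.centralizer_univ]
      rw [← h1, hC, hAX]
    haveI : Subsingleton (X ⧸ Z) := by rw [hZtop]; exact QuotientGroup.subsingleton_quotient_top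
    rw [Group.nilpotencyClass_zero_iff_subsingleton.2 inferInstance]
    have : n = 2 := Nat.pow_right_injective hp.out.two_le
      (by show p ^ n = p ^ 2; rw [← hX, ← hA, hAX, Subgroup.card_top])
    omega
  have hZne : Z ≠ A := by
    intro h
    refine hAX ?_
    rw [← hC, Subgroup.centralizer_eq_top_iff_subset]
    exact h ▸ le_refl (Z : Set X)
  obtain ⟨j, hj, hjc⟩ := (Nat.dvd_prime_pow hp.out).1 (hA ▸ Subgroup.card_dvd_of_le hZA)
  have hj1 : j = 1 := by
    rcases j with _ | _ | j
    · exact absurd (Subgroup.eq_bot_of_card_eq _ (by simpa using hjc)) hG.bot_lt_center.ne'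
    · rfl
    · exfalso
      exact hZne (Subgroup.eq_of_le_of_card_ge hZA (by rw [hA, hjc]; exact Nat.pow_le_pow_right hp.out.pos (by omega)))
  subst hj1
  rw [pow_one] at hjc
  set N := Subgroup.normalizer (A : Set X)
  have hAN : A ≤ N := Subgroup.le_normalizer
  haveI : (A.subgroupOf N).Normal := Subgroup.normal_in_normalizer
  have hlt : Z.subgroupOf N < A.subgroupOf N := by
    refine lt_of_le_not_ge (fun x hx => hZA hx) fun h => hZne (le_antisymm hZA fun x hx => ?_)
    exact h (x := ⟨x, hAN hx⟩) hx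
  obtain ⟨B, b, hBn, hZB, hBA, hBc, hb, hbZ, hBeq, hbg⟩ :=
    exists_normal_step (hG.to_subgroup N) (Z.subgroupOf N) (A.subgroupOf N) hlt
  have hBA' : B = A.subgroupOf N := Subgroup.eq_of_le_of_card_ge hBA (by
    rw [hBc, Nat.card_congr (Subgroup.subgroupOfEquivOfLe (hZA.trans hAN)).toEquiv,
      Nat.card_congr (Subgroup.subgroupOfEquivOfLe hAN).toEquiv, hA, hjc, pow_two])
  have hAgen : A = Z ⊔ Subgroup.zpowers (b : X) := by
    rw [← Subgroup.map_subgroupOf_eq_of_le hAN, ← hBA', hBeq, Subgroup.map_sup, MonoidHom.map_zpowers,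
      Subgroup.map_subgroupOf_eq_of_le (hZA.trans hAN)]
    rfl
  have hbA : (b : X) ∈ A := hBA hb
  have hcb : ∀ x : X, x * (b : X) = (b : X) * x → x ∈ A := by
    intro x hx
    rw [← hC]
    have h2 : A ≤ Subgroup.centralizer {x} := by
      rw [hAgen]
      exact sup_le (Subgroup.center_le_centralizer _)
        (Subgroup.zpowers_le.2 (Subgroup.mem_centralizer_singleton_iff.2 hx.symm))
    exact Subgroup.mem_centralizer_iff.2 fun y hy => Subgroup.mem_centralizer_singleton_iff.1 (h2 hy)
  have hrel : A.relIndex N ≤ p := by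
    let f : N → Z := fun g => ⟨(g : X) * b * (g : X)⁻¹ * (b : X)⁻¹, hbg g⟩
    have hf : ∀ g g' : N, f g = f g' ↔ g⁻¹ * g' ∈ A.subgroupOf N := fun g g' => by
      rw [Subgroup.mem_subgroupOf, Subtype.ext_iff]
      show (g : X) * b * (g : X)⁻¹ * (b : X)⁻¹ = (g' : X) * b * (g' : X)⁻¹ * (b : X)⁻¹ ↔ (g : X)⁻¹ * g' ∈ A
      rw [mul_left_inj]
      constructor
      · intro e
        refine hcb _ ?_
        calc (g : X)⁻¹ * g' * b = (g : X)⁻¹ * ((g' : X) * b * (g' : X)⁻¹) * g' := by group
          _ = (b : X) * ((g : X)⁻¹ * g') := by rw [← e]; group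
      · intro e
        have e' : (b : X) * ((g : X)⁻¹ * g') = (g : X)⁻¹ * g' * b :=
          Subgroup.mem_centralizer_iff.1 ((hC.symm ▸ e : _ ∈ Subgroup.centralizer (A : Set X))) b hbA
        calc (g : X) * b * (g : X)⁻¹ = (g : X) * ((b : X) * ((g : X)⁻¹ * g')) * (g' : X)⁻¹ := by group
          _ = _ := by rw [e']; group
    rw [← hjc]
    refine Nat.card_le_card_of_injective
      (Quotient.lift f fun g g' h => (hf g g').2 (QuotientGroup.leftRel_apply.1 h)) fun x y => ?_
    refine Quotient.inductionOn₂ x y fun g g' e => ?_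
    exact Quotient.sound (QuotientGroup.leftRel_apply.2 ((hf g g').1 e))
  have hAN' : A < N := Group.normalizerCondition_of_isNilpotent A (lt_top_iff_ne_top.2 hAX)
  have hNc : Nat.card N = p ^ 3 := by
    obtain ⟨k, hk⟩ := IsPGroup.iff_card.1 (hG.to_subgroup N)
    have h1 : Nat.card N = Nat.card A * A.relIndex N := by
      rw [← Nat.card_congr (Subgroup.subgroupOfEquivOfLe hAN).toEquiv, ← Subgroup.card_mul_index (A.subgroupOf N)]
      rfl
    have h2 : Nat.card N ≤ p ^ 3 := by rw [h1, hA, pow_succ]; exact Nat.mul_le_mul_left _ hrel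
    have h3 : p ^ 2 < Nat.card N := by
      rw [← hA]
      refine lt_of_le_of_ne (Subgroup.card_le_of_le hAN) fun e => hAN'.ne ?_
      exact Subgroup.eq_of_le_of_card_ge hAN e.ge
    rw [hk] at h2 h3 ⊢
    rw [Nat.pow_le_pow_iff_right hp.out.one_lt] at h2
    rw [Nat.pow_lt_pow_iff_right hp.out.one_lt] at h3
    congr 1; omega
  have hQ : Nat.card (X ⧸ Z) = p ^ (n - 1) := by
    have h1 := card_center_mul Z
    rw [hjc, hX, show n = (n - 1) + 1 by omega, pow_succ'] at h1
    exact Nat.eq_of_mul_eq_mul_left hp.out.pos h1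
  let q := QuotientGroup.mk' Z
  have hNq : Nat.card (N.map q) = p ^ 2 := by
    have h1 : Nat.card (N.map q) * p = p ^ 2 * p := by
      rw [← pow_succ, ← hNc]
      have := (q.comp N.subtype).ker.card_mul_index
      rw [Subgroup.index_ker, MonoidHom.range_comp, Subgroup.range_subtype,
        show (q.comp N.subtype).ker = Z.subgroupOf N from by rw [← MonoidHom.comap_ker, QuotientGroup.ker_mk']; rfl,
        Nat.card_congr (Subgroup.subgroupOfEquivOfLe (hZA.trans hAN)).toEquiv, hjc] at this
      rw [mul_comm]; exact this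
    exact Nat.eq_of_mul_eq_mul_right hp.out.pos h1
  have hcN : Subgroup.centralizer ((N.map q : Subgroup (X ⧸ Z)) : Set (X ⧸ Z)) = N.map q := by
    haveI : IsMulCommutative (N.map q) := IsPGroup.isMulCommutative_of_card_eq_prime_sq hNq
    refine le_antisymm (fun y hy => ?_) (Subgroup.le_centralizer _)
    obtain ⟨x, rfl⟩ := QuotientGroup.mk'_surjective Z y
    refine ⟨x, ?_, rfl⟩
    -- `x` normalizes `A`
    have key : ∀ a ∈ A, x * a * x⁻¹ ∈ A ∧ x⁻¹ * a * x ∈ A := by
      intro a ha
      have e : q a * q x = q x * q a := Subgroup.mem_centralizer_iff.1 hy (q a) ⟨a, hAN ha, rfl⟩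
      have m1 : x * a * x⁻¹ * a⁻¹ ∈ Z := by
        rw [← QuotientGroup.eq_one_iff]
        show q (x * a * x⁻¹ * a⁻¹) = 1
        rw [map_mul, map_mul, map_mul, map_inv, map_inv, ← e]; group
      have m2 : x⁻¹ * a * x * a⁻¹ ∈ Z := by
        rw [← QuotientGroup.eq_one_iff]
        show q (x⁻¹ * a * x * a⁻¹) = 1
        rw [map_mul, map_mul, map_mul, map_inv, map_inv, mul_assoc (q x)⁻¹, e]; group
      constructor
      · simpa using mul_mem (hZA m1) ha
      · simpa using mul_mem (hZA m2) ha
    show x ∈ Subgroup.normalizer (A : Set X)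
    rw [Subgroup.mem_normalizer_iff]
    intro a
    refine ⟨fun ha => (key a ha).1, fun ha => ?_⟩
    have := (key _ ha).2
    simpa [mul_assoc] using this
  rw [ih (n - 1) (by omega) _ hQ _ hNq hcN]
  have : 3 ≤ n := (Nat.pow_dvd_pow_iff_le_right hp.out.one_lt).1 (hNc ▸ hX ▸ Subgroup.card_subgroup_dvd_card N)
  omega

end Cfsg.Lib.Transfer
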