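import Mathlib
import Cfsg.Agent.Lib.Transfer.Critical
import Cfsg.Agent.Lib.Transfer.Tate
import Cfsg.Agent.Lib.Transfer.OmegaCentralizer
import Cfsg.Agent.Lib.TwoFus.CyclicSylow
import Cfsg.Agent.Lib.Transfer.Action
import Cfsg.Agent.Lib.Transfer.Abelian
import Cfsg.Agent.Lib.Solv.Coprime2
import Cfsg.Agent.Lib.Solv.PGroupBasic

/-!
Normal `p`-complements from subgroups of a fixed order that are strongly closed in their normalizers.
-/

set_option autoImplicit false
set_option linter.style.haveILetI false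

open scoped Pointwise commutatorElement

namespace Cfsg.Lib.Transfer

universe u

variable {G : Type u} [Group G] [Finite G] {p : ℕ}

/-- An element whose order has only prime divisors above `p` fixes every coset of an invariant
subgroup of index at most `p`. -/
theorem conj_mem_coset_of_index_le [hp : Fact p.Prime] {F M : Subgroup G} {y : G}
    (hyF : ∀ x ∈ F, y * x * y⁻¹ ∈ F) (hyM : ∀ x ∈ F, x ∈ M → y * x * y⁻¹ ∈ M)
    (hy : ∀ q : ℕ, q.Prime → q ∣ orderOf y → p < q) (hidx : M.relIndex F ≤ p) {x : G} (hx : x ∈ F) :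
    x⁻¹ * (y * x * y⁻¹) ∈ M := by
  let f : ↥F ⧸ M.subgroupOf F → ↥F ⧸ M.subgroupOf F :=
    Quotient.map' (fun z : ↥F => (⟨y * z * y⁻¹, hyF z z.2⟩ : ↥F)) (fun a b hab => by
      rw [QuotientGroup.leftRel_apply, Subgroup.mem_subgroupOf] at hab ⊢
      have h1 := hyM _ (a⁻¹ * b).2 hab
      simpa [mul_assoc] using h1)
  set a : ↥F ⧸ M.subgroupOf F := ((⟨x, hx⟩ : ↥F) : ↥F ⧸ M.subgroupOf F)
  have hit : ∀ (n : ℕ) (h : y ^ n * x * (y ^ n)⁻¹ ∈ F),
      f^[n] a = ((⟨_, h⟩ : ↥F) : ↥F ⧸ M.subgroupOf F) := by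
    intro n
    induction n with
    | zero => intro h; simp [a]
    | succ n ih =>
      intro h
      have h' : y ^ n * x * (y ^ n)⁻¹ ∈ F := by
        clear ih h
        induction n with
        | zero => simpa using hx
        | succ n ih => simpa [pow_succ', mul_assoc] using hyF _ ih
      rw [Function.iterate_succ_apply', ih h']
      exact congrArg _ (Subtype.ext (by simp [pow_succ', mul_assoc]))
  have hper : Function.IsPeriodicPt f (orderOf y) a := by
    show f^[orderOf y] a = a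
    rw [hit _ (by simpa [pow_orderOf_eq_one] using hx)]
    exact congrArg _ (Subtype.ext (by simp [pow_orderOf_eq_one]))
  have hdvd := hper.minimalPeriod_dvd
  have hle : Function.minimalPeriod f a ≤ p := by
    refine le_trans ?_ hidx
    have h1 := Nat.card_le_card_of_injective
      (fun i : Set.Iio (Function.minimalPeriod f a) => f^[(i : ℕ)] a)
      (fun i j e => Subtype.ext (Function.iterate_injOn_Iio_minimalPeriod i.2 j.2 e))
    simpa [Subgroup.relIndex, Subgroup.index] using h1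
  have hone : Function.minimalPeriod f a = 1 := by
    by_contra hne
    obtain ⟨q, hq, hqd⟩ := Nat.exists_prime_and_dvd hne
    have hpos : 0 < Function.minimalPeriod f a := Nat.pos_of_dvd_of_pos hdvd (orderOf_pos y)
    have h1 := Nat.le_of_dvd hpos hqd
    have h2 := hy q hq (hqd.trans hdvd)
    omega
  have hfix : f a = a := Function.minimalPeriod_eq_one_iff_isFixedPt.1 hone
  have h1 := hit 1 (by simpa using hyF x hx)
  rw [Function.iterate_one, hfix, QuotientGroup.eq, Subgroup.mem_subgroupOf] at h1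
  simpa using h1

/-- A coprime element fixing all elements of order `p` (of order dividing `4` if `p = 2`) of a
normalized `p`-subgroup centralizes it. -/
theorem commute_of_fix_small [hp : Fact p.Prime] {U : Subgroup G} (hU : IsPGroup p U) {y : G}
    (hyU : y ∈ Subgroup.normalizer (U : Set G)) (hy : (orderOf y).Coprime p)
    (hfix : ∀ x ∈ U, (x ^ p = 1 ∨ (p = 2 ∧ x ^ 4 = 1)) → y * x * y⁻¹ = x) :
    ∀ x ∈ U, y * x * y⁻¹ = x := by
  induction U using (wellFounded_lt (α := Subgroup G)).induction with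
  | _ U ih =>
  have hconj : ∀ z ∈ U, y * z * y⁻¹ ∈ U := fun z hz =>
    (Subgroup.mem_normalizer_iff.1 hyU z).1 hz
  have hsub : ∀ V : Subgroup G, V < U → (∀ z ∈ V, y * z * y⁻¹ ∈ V) →
      ∀ z ∈ V, y * z * y⁻¹ = z := by
    intro V hV hVy
    refine ih V hV (hU.to_le hV.le) ?_ fun z hz => hfix z (hV.le hz)
    refine (Subgroup.mem_normalizer_iff.2 fun z => ⟨hVy z, fun hz => ?_⟩)
    have hinj : Function.Injective (fun w : V => (⟨y * w * y⁻¹, hVy w w.2⟩ : V)) := fun a b e =>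
      Subtype.ext (by simpa using congrArg Subtype.val e)
    obtain ⟨w, hw⟩ := (Finite.injective_iff_surjective.1 hinj) ⟨_, hz⟩
    have h2 : (w : G) = z := by simpa using congrArg Subtype.val hw
    exact h2 ▸ w.2
  intro x hx
  -- a translation by a fixed element is trivial
  have key : ∀ z ∈ U, y * (z⁻¹ * (y * z * y⁻¹)) * y⁻¹ = z⁻¹ * (y * z * y⁻¹) →
      y * z * y⁻¹ = z := by
    intro z hz hc
    set c := z⁻¹ * (y * z * y⁻¹) with hcdef
    have hiter : ∀ n : ℕ, y ^ n * z * (y ^ n)⁻¹ = z * c ^ n := by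
      intro n
      induction n with
      | zero => simp
      | succ n ihn =>
        have hcn : y * c ^ n * y⁻¹ = c ^ n := by rw [← conj_pow, hc]
        calc y ^ (n + 1) * z * (y ^ (n + 1))⁻¹ = y * (y ^ n * z * (y ^ n)⁻¹) * y⁻¹ := by group
          _ = y * z * y⁻¹ * (y * c ^ n * y⁻¹) := by rw [ihn]; group
          _ = z * c * c ^ n := by rw [hcn, hcdef, mul_inv_cancel_left]
          _ = _ := by rw [mul_assoc, ← pow_succ']
    have h1 := hiter (orderOf y)
    rw [pow_orderOf_eq_one, one_mul, inv_one, mul_one] at h1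
    have hd1 : orderOf c ∣ orderOf y := orderOf_dvd_of_pow_eq_one (left_eq_mul.1 h1)
    obtain ⟨k, hk⟩ := IsPGroup.iff_orderOf.1 hU ⟨c, U.mul_mem (U.inv_mem hz) (hconj z hz)⟩
    rw [Subgroup.orderOf_mk] at hk
    have hc1 : c = 1 := orderOf_eq_one_iff.1
      (Nat.eq_one_of_dvd_coprimes (hy.pow_right k) hd1 hk.dvd)
    rw [hcdef, inv_mul_eq_one] at hc1
    exact hc1.symm
  by_cases hU1 : U = ⊥
  · rw [hU1, Subgroup.mem_bot] at hx
    simp [hx]
  haveI : Nontrivial ↥U := (Subgroup.nontrivial_iff_ne_bot _).2 hU1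
  set Φ : Subgroup G := (frattini ↥U).map U.subtype with hΦ
  have hΦU : Φ ≤ U := Subgroup.map_subtype_le _
  have hΦlt : Φ < U := lt_of_le_of_ne hΦU fun e => by
    obtain ⟨M, hM, -⟩ := (eq_top_or_exists_le_coatom (⊥ : Subgroup ↥U)).resolve_left bot_ne_top
    refine hM.1 (eq_top_iff.2 ?_)
    intro z _
    refine frattini_le_coatom hM ?_
    obtain ⟨w, hw, hwz⟩ : (z : G) ∈ Φ := e.ge z.2
    exact (Subtype.ext hwz : w = z) ▸ hw
  let φ : ↥U ≃* ↥U := ((MulAut.conj y).subgroupMap U).trans (MulEquiv.subgroupCongr (by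
    refine le_antisymm ?_ fun z hz => ⟨y⁻¹ * z * y, ?_, by simp [mul_assoc]⟩
    · rintro _ ⟨z, hz, rfl⟩; exact hconj z hz
    · exact (Subgroup.mem_normalizer_iff.1 hyU _).2 (by simpa [mul_assoc] using hz)))
  have hΦy : ∀ z ∈ Φ, y * z * y⁻¹ ∈ Φ := by
    rintro _ ⟨z, hz, rfl⟩
    refine ⟨φ z, ?_, rfl⟩
    exact (Subgroup.characteristic_iff_map_le.1 frattini_characteristic φ) ⟨z, hz, rfl⟩
  have hΦfix := hsub Φ hΦlt hΦy
  have hΦn : ∀ w ∈ U, ∀ z ∈ Φ, w * z * w⁻¹ ∈ Φ := by
    rintro w hw _ ⟨z, hz, rfl⟩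
    exact ⟨⟨w, hw⟩ * z * ⟨w, hw⟩⁻¹, Subgroup.Normal.conj_mem inferInstance z hz _, rfl⟩
  have hcz : ∀ w ∈ U, ∀ z ∈ Φ, Commute (w⁻¹ * (y * w * y⁻¹)) z := by
    intro w hw z hz
    have h1 := hΦfix _ (hΦn w hw z hz)
    have h2 := hΦfix z hz
    have h3 : (y * w * y⁻¹) * (y * z * y⁻¹) * (y * w * y⁻¹)⁻¹ = w * z * w⁻¹ := by
      rw [← h1]; group
    rw [h2] at h3
    show _ = _
    calc w⁻¹ * (y * w * y⁻¹) * z
        = w⁻¹ * ((y * w * y⁻¹) * z * (y * w * y⁻¹)⁻¹) * (y * w * y⁻¹) := by group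
      _ = w⁻¹ * (w * z * w⁻¹) * (y * w * y⁻¹) := by rw [h3]
      _ = _ := by group
  set W : Subgroup G := U ⊓ Subgroup.centralizer (Φ : Set G) with hWdef
  have hcW : ∀ w ∈ U, w⁻¹ * (y * w * y⁻¹) ∈ W := fun w hw =>
    ⟨U.mul_mem (U.inv_mem hw) (hconj w hw),
      Subgroup.mem_centralizer_iff.2 fun z hz => (hcz w hw z hz).eq.symm⟩
  have hWy : ∀ w ∈ W, y * w * y⁻¹ ∈ W := by
    rintro w ⟨hw, hwc⟩
    refine ⟨hconj w hw, Subgroup.mem_centralizer_iff.2 fun z hz => ?_⟩
    have h1 := (hΦfix z hz)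
    have h2 := Subgroup.mem_centralizer_iff.1 hwc z hz
    calc z * (y * w * y⁻¹) = (y * z * y⁻¹) * (y * w * y⁻¹) := by rw [h1]
      _ = y * (z * w) * y⁻¹ := by group
      _ = y * (w * z) * y⁻¹ := by rw [h2]
      _ = (y * w * y⁻¹) * (y * z * y⁻¹) := by group
      _ = _ := by rw [h1]
  by_cases hWU : W < U
  · exact key x hx (hsub W hWU hWy _ (hcW x hx))
  have hWeq : W = U := eq_of_le_of_not_lt inf_le_left hWU
  refine key x hx (hfix _ (U.mul_mem (U.inv_mem hx) (hconj x hx)) ?_)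
  set c := x⁻¹ * (y * x * y⁻¹) with hcdef
  have hc : c ∈ U := U.mul_mem (U.inv_mem hx) (hconj x hx)
  have hcent : ∀ z ∈ Φ, ∀ w ∈ U, Commute z w := fun z hz w hw =>
    Subgroup.mem_centralizer_iff.1 (hWeq.ge hw).2 z hz
  have hcom : c⁻¹ * x⁻¹ * c * x ∈ Φ :=
    ⟨(⟨c, hc⟩ : ↥U)⁻¹ * (⟨x, hx⟩ : ↥U)⁻¹ * ⟨c, hc⟩ * ⟨x, hx⟩,
      commutator_le_frattini hU (by
        have := Subgroup.commutator_mem_commutator (Subgroup.mem_top (⟨c, hc⟩⁻¹ : ↥U))
          (Subgroup.mem_top (⟨x, hx⟩⁻¹ : ↥U))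
        simpa [commutatorElement_def, commutator_def, mul_assoc] using this), rfl⟩
  set e := c⁻¹ * x⁻¹ * c * x with hedef
  have he : c * x = x * c * e := by rw [hedef]; group
  have hexp := mul_pow_class_two he (hcent e hcom x hx) (hcent e hcom c hc)
  have hxp : x ^ p ∈ Φ := ⟨(⟨x, hx⟩ : ↥U) ^ p, pow_mem_frattini hU _, rfl⟩
  have hfx := hΦfix _ hxp
  have hep : e ^ p = 1 := by
    have h1 : ∀ n : ℕ, c⁻¹ * (x⁻¹) ^ n * c * x ^ n = e ^ n := by
      intro n
      induction n with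
      | zero => simp
      | succ n ihn =>
        calc c⁻¹ * x⁻¹ ^ (n + 1) * c * x ^ (n + 1)
            = (c⁻¹ * x⁻¹ * c) * (c⁻¹ * x⁻¹ ^ n * c * x ^ n) * x := by
              rw [pow_succ', pow_succ]; group
          _ = c⁻¹ * x⁻¹ * c * (e ^ n * x) := by rw [ihn, mul_assoc]
          _ = c⁻¹ * x⁻¹ * c * x * e ^ n := by
              rw [((hcent e hcom x hx).pow_left n).eq, ← mul_assoc]
          _ = _ := by rw [← hedef, ← pow_succ']
    rw [← h1 p, inv_pow, mul_assoc c⁻¹, ((hcent _ hxp c hc).inv_left).eq]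
    group
  rw [← conj_pow, show y * x * y⁻¹ = x * c by rw [hcdef, mul_inv_cancel_left], hexp p,
    mul_assoc, mul_eq_left] at hfx
  by_cases hp2 : p = 2
  · subst hp2
    refine Or.inr ⟨rfl, ?_⟩
    have h2 : c ^ 2 = e⁻¹ := by simpa using eq_inv_of_mul_eq_one_left hfx
    rw [show (4 : ℕ) = 2 * 2 from rfl, pow_mul, h2, inv_pow, hep, inv_one]
  · left
    obtain ⟨r, hr⟩ := hp.out.dvd_choose_self two_ne_zero
      (lt_of_le_of_ne hp.out.two_le (Ne.symm hp2))
    rw [hr, pow_mul, hep, one_pow, mul_one] at hfx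
    exact hfx

/-- The hypothesis: subgroups of `P` of order `p ^ k` (and of order `4` if `p ^ k = 2`) are strongly
closed in their normalizers. -/
def StrongOfOrder (P : Subgroup G) (d : ℕ) : Prop :=
  ∀ E : Subgroup G, E ≤ P → (Nat.card E = d ∨ (d = 2 ∧ Nat.card E = 4)) →
    ∀ g : G, E.map (MulAut.conj g).toMonoidHom ⊓ Subgroup.normalizer (E : Set G) ≤ E

theorem conj_mem_of_strong [hp : Fact p.Prime] {P : Subgroup G} (hPp : IsPGroup p P) {d : ℕ}
    (h : StrongOfOrder P d) {E : Subgroup G} (hEP : E ≤ P)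
    (hE : Nat.card E = d ∨ (d = 2 ∧ Nat.card E = 4)) {U : Subgroup G} (hUP : U ≤ P)
    {g : G} (hg : g ∈ Subgroup.normalizer (U : Set G)) {x : G} (hxE : x ∈ E) (hxU : x ∈ U) :
    g * x * g⁻¹ ∈ E := by
  have hPN : P ≤ Subgroup.normalizer (E : Set G) := by
    haveI : Group.IsNilpotent ↥P := hPp.isNilpotent
    set N := Subgroup.normalizer (E : Set G)
    by_contra hle
    have hlt : N.subgroupOf P < ⊤ := lt_top_iff_ne_top.2 fun e =>
      hle (Subgroup.subgroupOf_eq_top.1 e)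
    obtain ⟨s, hs, hsN⟩ := SetLike.exists_of_lt
      (Group.normalizerCondition_of_isNilpotent _ hlt)
    refine hsN (Subgroup.mem_subgroupOf.2 ?_)
    have hmap : ∀ z ∈ E, (s : G) * z * (s : G)⁻¹ ∈ E := fun z hz => by
      refine h E hEP hE s ⟨⟨z, hz, rfl⟩, ?_⟩
      have h1 := (Subgroup.mem_normalizer_iff.1 hs ⟨z, hEP hz⟩).1
        (Subgroup.mem_subgroupOf.2 (Subgroup.le_normalizer hz))
      exact h1
    refine Subgroup.mem_normalizer_iff.2 fun z => ⟨hmap z, fun hz => ?_⟩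
    have hinj : Function.Injective (fun w : E => (⟨(s : G) * w * (s : G)⁻¹, hmap w w.2⟩ : E)) :=
      fun a b e => Subtype.ext (by simpa using congrArg Subtype.val e)
    obtain ⟨w, hw⟩ := (Finite.injective_iff_surjective.1 hinj) ⟨_, hz⟩
    have h2 : (w : G) = z := by simpa using congrArg Subtype.val hw
    exact h2 ▸ w.2
  exact h E hEP hE g ⟨⟨x, hxE, rfl⟩, hPN (hUP ((Subgroup.mem_normalizer_iff.1 hg x).1 hxU))⟩

theorem mem_normalizer_of_conj_mem {U : Subgroup G} {g : G} (h : ∀ x ∈ U, g * x * g⁻¹ ∈ U) :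
    g ∈ Subgroup.normalizer (U : Set G) := by
  refine Subgroup.mem_normalizer_iff.2 fun z => ⟨h z, fun hz => ?_⟩
  have hinj : Function.Injective (fun w : U => (⟨g * w * g⁻¹, h w w.2⟩ : U)) :=
    fun a b e => Subtype.ext (by simpa using congrArg Subtype.val e)
  obtain ⟨w, hw⟩ := (Finite.injective_iff_surjective.1 hinj) ⟨_, hz⟩
  have h2 : (w : G) = z := by simpa using congrArg Subtype.val hw
  exact h2 ▸ w.2

theorem commute_of_invariant_maximal [hp : Fact p.Prime] {F : Subgroup G} (hF : IsPGroup p F)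
    {y : G} (hy : ∀ q : ℕ, q.Prime → q ∣ orderOf y → p < q)
    (hyF : y ∈ Subgroup.normalizer (F : Set G))
    (hmax : ∀ M : Subgroup G, M ≤ F → Nat.card M * p = Nat.card F →
      ∀ g ∈ Subgroup.zpowers y, ∀ x ∈ M, g * x * g⁻¹ ∈ M) :
    ∀ x ∈ F, y * x * y⁻¹ = x := by
  have hle : Subgroup.zpowers y ≤ Subgroup.normalizer (F : Set G) := Subgroup.zpowers_le.2 hyF
  have hcop : (Nat.card (Subgroup.zpowers y)).Coprime (Nat.card (frattini ↥F)) := by
    obtain ⟨n, hn⟩ := IsPGroup.iff_card.1 (hF.to_subgroup (frattini ↥F))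
    rw [hn, Nat.card_zpowers]
    exact (hp.out.coprime_iff_not_dvd.2 fun hd => (hy p hp.out hd).ne rfl).symm.pow_right n
  have := Cfsg.Lib.Solv.centralizes_of_frattini (Subgroup.zpowers y) F hle hcop (fun a ha k hk => by
    refine ⟨⟨a * k * a⁻¹ * k⁻¹, F.mul_mem
      ((Subgroup.mem_normalizer_iff.1 (hle ha) k).1 hk) (F.inv_mem hk)⟩, ?_, rfl⟩
    refine Cfsg.Lib.Solv.mem_frattini_iff.2 fun M hM => ?_
    obtain ⟨hMn, hMi⟩ := coatom_normal_index hF hM
    have hcard : Nat.card (M.map F.subtype) * p = Nat.card F := by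
      rw [Subgroup.card_map_of_injective F.subtype_injective, ← hMi]
      exact M.card_mul_index
    have h1 := conj_mem_coset_of_index_le (p := p) (F := F) (M := M.map F.subtype) (y := a)
      (fun x hx => (Subgroup.mem_normalizer_iff.1 (hle ha) x).1 hx)
      (fun x _ hx => hmax _ (Subgroup.map_subtype_le M) hcard a ha x hx)
      (fun q hq hqd => hy q hq (hqd.trans (by
        rw [← Nat.card_zpowers y, ← Subgroup.orderOf_mk a ha]
        exact orderOf_dvd_natCard _)))
      (le_of_eq (by rw [Subgroup.relIndex, Subgroup.subgroupOf, Subgroup.comap_map_eq_self_of_injective (Subgroup.subtype_injective _), hMi]))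
      hk
    obtain ⟨w, hw, hwk⟩ := h1
    have h2 := hMn.conj_mem w hw ⟨k, hk⟩
    convert h2 using 1
    apply Subtype.ext
    show a * k * a⁻¹ * k⁻¹ = k * (w : G) * k⁻¹
    rw [show (w : G) = k⁻¹ * (a * k * a⁻¹) from hwk]
    group)
  intro x hx
  exact mul_inv_eq_iff_eq_mul.2
    (Subgroup.mem_centralizer_iff.1 (this (Subgroup.mem_zpowers y)) x hx).symm

section Main

variable [hp : Fact p.Prime] {P : Sylow p G} {k : ℕ}

theorem exists_between_card {U : Subgroup G} (hU : IsPGroup p U) {X : Subgroup G} (hXU : X ≤ U)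
    {m : ℕ} (hX : Nat.card X ≤ p ^ m) (hm : p ^ m ≤ Nat.card U) :
    ∃ E : Subgroup G, X ≤ E ∧ E ≤ U ∧ Nat.card E = p ^ m := by
  obtain ⟨n, hn⟩ := IsPGroup.iff_card.1 (hU.to_le hXU)
  obtain ⟨r, hr⟩ := IsPGroup.iff_card.1 hU
  rw [hn] at hX
  rw [hr] at hm
  obtain ⟨K, hK, hXK⟩ := Sylow.exists_subgroup_card_pow_prime_le (G := ↥U) p (m := m)
    (by rw [hr]; exact pow_dvd_pow p ((Nat.pow_le_pow_iff_right hp.out.one_lt).1 hm))
    (X.subgroupOf U) (by rw [Nat.card_congr (Subgroup.subgroupOfEquivOfLe hXU).toEquiv, hn])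
    ((Nat.pow_le_pow_iff_right hp.out.one_lt).1 hX)
  refine ⟨K.map U.subtype, ?_, Subgroup.map_subtype_le _, ?_⟩
  · have := Subgroup.map_mono (f := U.subtype) hXK
    rwa [Subgroup.map_subgroupOf_eq_of_le hXU] at this
  · rw [Subgroup.card_map_of_injective U.subtype_injective, hK]

theorem card_maximal_of_cyclic {E M M' : Subgroup G} (hc : IsCyclic ↥E) (hM : M ≤ E)
    (hM' : M' ≤ E) (h : Nat.card M = Nat.card M') : M = M' := by
  haveI := hc
  have e := Cfsg.Lib.TwoFus.eq_of_card_eq_cyclic (G := ↥E) (H := M.subgroupOf E) (K := M'.subgroupOf E)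
    (by rw [Nat.card_congr (Subgroup.subgroupOfEquivOfLe hM).toEquiv,
      Nat.card_congr (Subgroup.subgroupOfEquivOfLe hM').toEquiv, h])
  rw [← Subgroup.map_subgroupOf_eq_of_le hM, e, Subgroup.map_subgroupOf_eq_of_le hM']

theorem commute_of_cyclic {E : Subgroup G} (hEp : IsPGroup p E) (hc : IsCyclic ↥E) {y : G}
    (hy : ∀ q : ℕ, q.Prime → q ∣ orderOf y → p < q)
    (hyE : y ∈ Subgroup.normalizer (E : Set G)) : ∀ x ∈ E, y * x * y⁻¹ = x := by
  refine commute_of_invariant_maximal hEp hy hyE fun M hM _ g hg x hx => ?_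
  have hgE : g ∈ Subgroup.normalizer (E : Set G) := (Subgroup.zpowers_le.2 hyE) hg
  have e := card_maximal_of_cyclic hc hM (M' := M.map (MulAut.conj g).toMonoidHom)
    (by rintro _ ⟨z, hz, rfl⟩; exact (Subgroup.mem_normalizer_iff.1 hgE z).1 (hM hz))
    (Subgroup.card_map_of_injective (MulAut.conj g).injective).symm
  rw [e]
  exact ⟨x, hx, rfl⟩

/-- The action of a `p'`-element on a subgroup of `P`. -/
theorem commutator_mem_frattini_of_strong (hmin : ∀ q : ℕ, q.Prime → q ∣ Nat.card G → p ≤ q)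
    (hk : k ≠ 0) (hlt : p ^ k < Nat.card (P : Subgroup G))
    (h : StrongOfOrder (P : Subgroup G) (p ^ k)) {U : Subgroup G} (hUP : U ≤ (P : Subgroup G))
    {y : G} (hyU : y ∈ Subgroup.normalizer (U : Set G)) (hyc : (orderOf y).Coprime p)
    {x : G} (hx : x ∈ U) :
    y * x * y⁻¹ * x⁻¹ ∈ (frattini P).map (P : Subgroup G).subtype := by
  have hy : ∀ q : ℕ, q.Prime → q ∣ orderOf y → p < q := fun q hq hqd =>
    lt_of_le_of_ne (hmin q hq (hqd.trans (orderOf_dvd_natCard y))) fun e =>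
      hp.out.ne_one (Nat.eq_one_of_dvd_coprimes hyc (e ▸ hqd) dvd_rfl)
  have hUp : IsPGroup p U := P.isPGroup'.to_le hUP
  have hxU' : y * x * y⁻¹ * x⁻¹ ∈ U :=
    U.mul_mem ((Subgroup.mem_normalizer_iff.1 hyU x).1 hx) (U.inv_mem hx)
  refine ⟨⟨_, hUP hxU'⟩, Cfsg.Lib.Solv.mem_frattini_iff.2 fun M hM => ?_, rfl⟩
  obtain ⟨hMn, hMi⟩ := coatom_normal_index P.isPGroup' hM
  by_cases hsmall : Nat.card U ≤ p ^ k
  · -- every element of `U` in `M` lies in a subgroup of order `p ^ k` inside `M`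
    have hMc : p ^ k ≤ Nat.card (M.map (P : Subgroup G).subtype) := by
      rw [Subgroup.card_map_of_injective (P : Subgroup G).subtype_injective]
      obtain ⟨r, hr⟩ := IsPGroup.iff_card.1 P.isPGroup'
      obtain ⟨s, hs⟩ := IsPGroup.iff_card.1 (P.isPGroup'.to_subgroup M)
      have h1 := M.card_mul_index
      rw [hMi, hr, hs, ← pow_succ] at h1
      have h2 : s + 1 = r := Nat.pow_right_injective hp.out.two_le h1
      rw [hr] at hlt
      have h3 := (Nat.pow_lt_pow_iff_right hp.out.one_lt).1 hlt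
      rw [hs]
      exact Nat.pow_le_pow_right hp.out.pos (by omega)
    have hinv : ∀ g ∈ Subgroup.zpowers y, ∀ z ∈ U, z ∈ M.map (P : Subgroup G).subtype →
        g * z * g⁻¹ ∈ M.map (P : Subgroup G).subtype := by
      intro g hg z hz hzM
      have hzc : Nat.card (Subgroup.zpowers z) ≤ p ^ k :=
        (Subgroup.card_le_of_le (Subgroup.zpowers_le.2 hz)).trans hsmall
      obtain ⟨E, hzE, hEM, hEc⟩ := exists_between_card
        (P.isPGroup'.to_le (Subgroup.map_subtype_le M)) (Subgroup.zpowers_le.2 hzM) hzc hMc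
      exact hEM (conj_mem_of_strong P.isPGroup' h (hEM.trans (Subgroup.map_subtype_le M)) (Or.inl hEc) hUP
        ((Subgroup.zpowers_le.2 hyU) hg) (hzE (Subgroup.mem_zpowers z)) hz)
    have h1 := conj_mem_coset_of_index_le (p := p) (M := M.map (P : Subgroup G).subtype)
      (fun z hz => (Subgroup.mem_normalizer_iff.1 hyU z).1 hz)
      (hinv y (Subgroup.mem_zpowers y)) hy (by
        refine Nat.le_of_dvd hp.out.pos ?_
        have hn : ((M.map (P : Subgroup G).subtype).subgroupOf (P : Subgroup G)).Normal := by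
          rw [Subgroup.subgroupOf, Subgroup.comap_map_eq_self_of_injective (Subgroup.subtype_injective _)]; exact hMn
        have e : (M.map (P : Subgroup G).subtype).relIndex U = M.relIndex (U.subgroupOf (P : Subgroup G)) := by
          conv_lhs => rw [← Subgroup.map_subgroupOf_eq_of_le hUP]
          exact Subgroup.relIndex_map_map_of_injective _ _ (P : Subgroup G).subtype_injective
        rw [e]
        exact (Subgroup.relIndex_dvd_index_of_normal _ _).trans hMi.dvd) hx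
    obtain ⟨w, hw, hwk⟩ := h1
    have h2 := hMn.conj_mem w hw ⟨x, hUP hx⟩
    convert h2 using 1
    apply Subtype.ext
    show y * x * y⁻¹ * x⁻¹ = x * (w : G) * x⁻¹
    rw [show (w : G) = x⁻¹ * (y * x * y⁻¹) from hwk]
    group
  · -- `y` centralizes `U`
    have hbig : p ^ k < Nat.card U := lt_of_not_ge hsmall
    have hinvE : ∀ E : Subgroup G, E ≤ U → (Nat.card E = p ^ k ∨ (p ^ k = 2 ∧ Nat.card E = 4)) →
        ∀ g ∈ Subgroup.zpowers y, ∀ z ∈ E, g * z * g⁻¹ ∈ E := fun E hE hEc g hg z hz =>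
      conj_mem_of_strong P.isPGroup' h (hE.trans hUP) hEc hUP ((Subgroup.zpowers_le.2 hyU) hg) hz (hE hz)
    have hEfix : ∀ E : Subgroup G, E ≤ U → Nat.card E = p ^ k → ∀ z ∈ E, y * z * y⁻¹ = z := by
      intro E hE hEc
      by_cases hc : IsCyclic ↥E
      · exact commute_of_cyclic (hUp.to_le hE) hc hy (mem_normalizer_of_conj_mem
          (hinvE E hE (Or.inl hEc) y (Subgroup.mem_zpowers y)))
      obtain ⟨F, hEF, hFU, hFc⟩ := exists_between_card hUp hE (m := k + 1)
        (by rw [hEc]; exact Nat.pow_le_pow_right hp.out.pos k.le_succ)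
        (by
          obtain ⟨r, hr⟩ := IsPGroup.iff_card.1 hUp
          rw [hr] at hbig ⊢
          exact Nat.pow_le_pow_right hp.out.pos ((Nat.pow_lt_pow_iff_right hp.out.one_lt).1 hbig))
      have hFnc : ¬ IsCyclic ↥F := fun hFc' => hc (by
        haveI := hFc'
        exact isCyclic_of_injective (Subgroup.inclusion hEF) (Subgroup.inclusion_injective hEF))
      have hsub : ∀ M : Subgroup G, M ≤ F → Nat.card M * p = Nat.card F →
          ∀ g ∈ Subgroup.zpowers y, ∀ z ∈ M, g * z * g⁻¹ ∈ M := fun M hM hMc =>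
        hinvE M (hM.trans hFU) (Or.inl (Nat.eq_of_mul_eq_mul_right hp.out.pos
          (by rw [hMc, hFc, pow_succ])))
      have hFy : y ∈ Subgroup.normalizer (F : Set G) := mem_normalizer_of_conj_mem fun z hz => by
        have hne : Subgroup.zpowers (⟨z, hz⟩ : ↥F) ≠ ⊤ := fun e => hFnc
          ⟨⟨z, hz⟩, fun w => (e ▸ Subgroup.mem_top w : w ∈ Subgroup.zpowers (⟨z, hz⟩ : ↥F))⟩
        obtain ⟨N, hN, hzN⟩ := (eq_top_or_exists_le_coatom _).resolve_left hne
        obtain ⟨-, hNi⟩ := coatom_normal_index (hUp.to_le hFU) hN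
        refine Subgroup.map_subtype_le N (hsub _ (Subgroup.map_subtype_le N) ?_ y
          (Subgroup.mem_zpowers y) z ⟨⟨z, hz⟩, hzN (Subgroup.mem_zpowers _), rfl⟩)
        rw [Subgroup.card_map_of_injective F.subtype_injective, ← hNi]
        exact N.card_mul_index
      exact fun z hz => commute_of_invariant_maximal (hUp.to_le hFU) hy hFy hsub z (hEF hz)
    have hfix := commute_of_fix_small hUp hyU hyc (fun z hz hor => by
      by_cases hzc : Nat.card (Subgroup.zpowers z) ≤ p ^ k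
      · obtain ⟨E, hzE, hEU, hEc⟩ :=
          exists_between_card hUp (Subgroup.zpowers_le.2 hz) hzc hbig.le
        exact hEfix E hEU hEc z (hzE (Subgroup.mem_zpowers z))
      rw [Nat.card_zpowers, not_le] at hzc
      rcases hor with hor | ⟨rfl, hor⟩
      · have h1 := Nat.le_of_dvd hp.out.pos (orderOf_dvd_of_pow_eq_one hor)
        have h2 := Nat.le_self_pow hk p
        omega
      · have h1 := orderOf_dvd_of_pow_eq_one hor
        have h2 : 2 ^ k < 4 := hzc.trans_le (Nat.le_of_dvd (by norm_num) h1)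
        have hk1 : k = 1 := by
          have := (Nat.pow_lt_pow_iff_right (a := 2) (by norm_num)).1 (show 2 ^ k < 2 ^ 2 from h2)
          omega
        subst hk1
        have h4 : orderOf z = 4 := by
          obtain ⟨i, hi, he⟩ := (Nat.dvd_prime_pow Nat.prime_two).1 (show orderOf z ∣ 2 ^ 2 from h1)
          rw [he] at hzc ⊢
          have := (Nat.pow_lt_pow_iff_right (a := 2) (by norm_num)).1 hzc
          interval_cases i
          rfl
        exact commute_of_cyclic (hUp.to_le (Subgroup.zpowers_le.2 hz))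
          (isCyclic_iff_exists_zpowers_eq_top.2 ⟨⟨z, Subgroup.mem_zpowers z⟩, by
            rw [eq_top_iff]
            rintro ⟨w, i, rfl⟩ -
            exact ⟨i, Subtype.ext (SubgroupClass.coe_zpow _ i)⟩⟩) hy
          (mem_normalizer_of_conj_mem (hinvE _ (Subgroup.zpowers_le.2 hz)
            (Or.inr ⟨by norm_num, by rw [Nat.card_zpowers, h4]⟩) y (Subgroup.mem_zpowers y)))
          z (Subgroup.mem_zpowers z)) x hx
    have e1 : (⟨y * x * y⁻¹ * x⁻¹, hUP hxU'⟩ : ↥(P : Subgroup G)) = 1 :=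
      Subtype.ext (mul_inv_eq_one.2 hfix)
    rw [e1]
    exact one_mem _

set_option maxHeartbeats 1000000 in
/-- Normal `p`-complement. -/
theorem hasNormalPComplement_of_strong (hmin : ∀ q : ℕ, q.Prime → q ∣ Nat.card G → p ≤ q)
    (hk : k ≠ 0) (hlt : p ^ k < Nat.card (P : Subgroup G))
    (h : StrongOfOrder (P : Subgroup G) (p ^ k)) : Cfsg.HasNormalPComplement p G := by
  set Φ : Subgroup G := (frattini P).map (P : Subgroup G).subtype with hΦ
  have hΦn : ∀ s ∈ (P : Subgroup G), ∀ z ∈ Φ, s * z * s⁻¹ ∈ Φ := by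
    rintro s hs _ ⟨z, hz, rfl⟩
    exact ⟨⟨s, hs⟩ * z * ⟨s, hs⟩⁻¹, Subgroup.Normal.conj_mem inferInstance z hz _, rfl⟩
  have hcom : ∀ s ∈ (P : Subgroup G), ∀ z ∈ (P : Subgroup G), s * z * s⁻¹ * z⁻¹ ∈ Φ :=
    fun s hs z hz => ⟨⁅(⟨s, hs⟩ : (P : Subgroup G)), ⟨z, hz⟩⁆, commutator_le_frattini P.isPGroup'
      (Subgroup.commutator_mem_commutator (Subgroup.mem_top _) (Subgroup.mem_top _)),
      by simp [commutatorElement_def]⟩
  have step : ∀ (Q : Sylow p G), Tame P Q → ∀ g ∈ Subgroup.normalizer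
      (((P : Subgroup G) ⊓ (Q : Subgroup G) : Subgroup G) : Set G),
      ∀ z ∈ (P : Subgroup G) ⊓ (Q : Subgroup G), g * z * g⁻¹ * z⁻¹ ∈ Φ := by
    intro Q ht
    set D := (P : Subgroup G) ⊓ (Q : Subgroup G)
    set N := Subgroup.normalizer (D : Set G)
    have hconj : ∀ g : N, ∀ z ∈ D, (g : G) * z * (g : G)⁻¹ ∈ D := fun g z hz =>
      (Subgroup.mem_normalizer_iff.1 g.2 z).1 hz
    let K : Subgroup N :=
      { carrier := {g | ∀ z ∈ D, (g : G) * z * (g : G)⁻¹ * z⁻¹ ∈ Φ}
        one_mem' := fun z _ => by simp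
        mul_mem' := fun {a b} ha hb z hz => by
          have h1 := Φ.mul_mem (ha _ (hconj b z hz)) (hb z hz)
          simpa [mul_assoc] using h1
        inv_mem' := fun {a} ha z hz => by
          have h1 := Φ.inv_mem (ha _ (hconj a⁻¹ z hz))
          simpa [mul_assoc] using h1 }
    obtain ⟨T, hT⟩ : ∃ T : Sylow p N, (T : Subgroup N) = ((P : Subgroup G) ⊓ N).subgroupOf N :=
      ⟨((P.isPGroup'.to_le inf_le_left).of_equiv
        (Subgroup.subgroupOfEquivOfLe inf_le_right).symm).toSylow ht.1, rfl⟩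
    have htop : K = ⊤ := by
      refine eq_top_iff.2 ((pResidual_sup_sylow T).ge.trans (sup_le ?_ ?_))
      · refine (Subgroup.closure_le _).2 fun g hg z hz => ?_
        refine commutator_mem_frattini_of_strong hmin hk hlt h inf_le_left g.2 ?_ hz
        rwa [Subgroup.orderOf_coe]
      · rw [hT]
        exact fun g hg z hz => hcom g hg.1 z hz.1
    exact fun g hg => (htop ▸ Subgroup.mem_top (⟨g, hg⟩ : N) : (⟨g, hg⟩ : N) ∈ K)
  have chain : ∀ (A : Set G) (g : G), FusionChain P A g → A ⊆ (P : Set G) →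
      ∀ a ∈ A, g⁻¹ * a * g * a⁻¹ ∈ Φ := by
    intro A g hc
    induction hc with
    | nil A => intro _ a _; simp
    | @cons A g Q x ht hx hp' hA hch ih =>
      intro _ a ha
      have h1 := step Q ht x⁻¹ (inv_mem hx) a (hA ha)
      rw [inv_inv] at h1
      have hsub : conjR x A ⊆ (P : Set G) := by
        refine (conjR_mono x hA).trans ?_
        rw [conjR_subgroup_of_mem_normalizer hx]
        exact fun z hz => hz.1
      have h2 := ih hsub (x⁻¹ * a * x) ⟨a, ha, rfl⟩
      have h3 := Φ.mul_mem h2 h1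
      simpa [mul_assoc] using h3
  have hfoc : (P : Subgroup G).focalSubgroup ≤ Φ := by
    rw [Subgroup.focalSubgroup_def, Subgroup.closure_le]
    rintro w ⟨hw, a, ha, u, rfl⟩
    have hconj : u * a⁻¹ * u⁻¹ ∈ (P : Subgroup G) := by
      have := mul_mem (inv_mem ha) hw
      simpa [commutatorElement_def, mul_assoc] using this
    have hA : ({a⁻¹} : Set G) ⊆ ((P : Subgroup G) : Set G) :=
      Set.singleton_subset_iff.2 (inv_mem ha)
    have hc := alperin P (A := {a⁻¹}) (g := u⁻¹) hA (by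
      rintro _ ⟨b, rfl, rfl⟩
      rw [inv_inv]
      exact hconj)
    have h1 := chain _ _ hc hA a⁻¹ rfl
    have h2 := hΦn a ha _ h1
    simpa [commutatorElement_def, mul_assoc] using h2
  haveI := pResidual_normal (G := G) p
  have ht := tate P (Cfsg.pResidual p G) ((inf_comm _ _).le.trans ((inf_pResidual_le_focal P).trans hfoc))
  rw [hasNormalPComplement_iff_pResidual] at ht ⊢
  refine Nat.Coprime.coprime_dvd_left ?_ ht
  refine (Subgroup.card_dvd_of_le ?_).trans
    (Subgroup.card_map_dvd (Cfsg.pResidual p (Cfsg.pResidual p G)) (Cfsg.pResidual p G).subtype)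
  refine (Subgroup.closure_le _).2 fun g hg =>
    ⟨⟨g, coprime_orderOf_mem_pResidual hg⟩, coprime_orderOf_mem_pResidual ?_, rfl⟩
  rwa [Subgroup.orderOf_mk]

end Main

end Cfsg.Lib.Transfer
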