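import Mathlib
import Cfsg.Agent.Lib.Transfer.MaximalClass
import Cfsg.Agent.Lib.ZStar.UniqueInvolution

/-!
Classification of 2-groups with derived subgroup of index 4: dihedral, semidihedral, generalized quaternion.
-/

set_option autoImplicit false

namespace Cfsg.Lib.Transfer

universe u

theorem nonempty_dihedral_of_inverted {G : Type u} [Group G] [Finite G] {a t : G} {m : ℕ} [NeZero m]
    (ha : orderOf a = m) (hidx : (Subgroup.zpowers a).index = 2) (ht : t ∉ Subgroup.zpowers a)
    (hinv : t * a * t⁻¹ = a⁻¹) (ht2 : t * t = 1) : Nonempty (G ≃* DihedralGroup m) := by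
  let P : ZMod m → G := fun i => a ^ i.val
  have hP : ∀ i j, P (i + j) = P i * P j := fun i j => by
    simp only [P]
    rw [← pow_add, pow_eq_pow_iff_modEq, ha, ← ZMod.natCast_eq_natCast_iff]
    simp
  have hP0 : P 0 = 1 := by simp [P]
  have hPneg : ∀ i, P (-i) = (P i)⁻¹ := fun i => eq_inv_of_mul_eq_one_left (by rw [← hP, neg_add_cancel, hP0])
  have hPt : ∀ i, P i * t = t * P (-i) := fun i => by
    have h1 : t * P i * t⁻¹ = P (-i) := by rw [hPneg]; simp only [P]; rw [← conj_pow, hinv, inv_pow]
    have htt : t⁻¹ = t := inv_eq_of_mul_eq_one_right ht2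
    rw [← h1, htt, ← mul_assoc, ← mul_assoc, ht2, one_mul]
  let f : DihedralGroup m → G := fun q => match q with
    | .r i => P i
    | .sr i => t * P i
  have hmul : ∀ x y, f (x * y) = f x * f y := by
    rintro (i | i) (j | j)
    · exact hP i j
    · show t * P (j - i) = P i * (t * P j)
      rw [← mul_assoc, hPt, mul_assoc, ← hP, neg_add_eq_sub]
    · show t * P (i + j) = t * P i * P j
      rw [hP, mul_assoc]
    · show P (j - i) = t * P i * (t * P j)
      rw [mul_assoc t, ← mul_assoc (P i), hPt, mul_assoc t, ← mul_assoc t t, ht2, one_mul, ← hP, neg_add_eq_sub]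
  have hPinj : Function.Injective P := fun i j h => by
    simp only [P] at h
    rw [pow_eq_pow_iff_modEq, ha, ← ZMod.natCast_eq_natCast_iff, ZMod.natCast_zmod_val,
      ZMod.natCast_zmod_val] at h
    exact h
  have hPm : ∀ i, P i ∈ Subgroup.zpowers a := fun i => Subgroup.pow_mem _ (Subgroup.mem_zpowers a) _
  have hinj : Function.Injective f := by
    rintro (i | i) (j | j) h
    · exact congrArg _ (hPinj h)
    · exfalso; apply ht
      have h' : P i = t * P j := h
      have : t = P i * (P j)⁻¹ := by rw [h']; group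
      rw [this]; exact mul_mem (hPm i) (inv_mem (hPm j))
    · exfalso; apply ht
      have h' : t * P i = P j := h
      have : t = P j * (P i)⁻¹ := by rw [← h']; group
      rw [this]; exact mul_mem (hPm j) (inv_mem (hPm i))
    · exact congrArg _ (hPinj (mul_left_cancel h))
  have hc : Nat.card (DihedralGroup m) = Nat.card G := by
    rw [DihedralGroup.nat_card, ← (Subgroup.zpowers a).card_mul_index, hidx, Nat.card_zpowers, ha, mul_comm]
  exact ⟨(MulEquiv.ofBijective (MonoidHom.mk' f hmul)
    ((Nat.bijective_iff_injective_and_card _).2 ⟨hinj, hc⟩)).symm⟩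

theorem classify_four {n : ℕ} {X : Type u} [Group X] [Finite X]
    (hn : 3 ≤ n) (hX : Nat.card X = 2 ^ n) (h4 : (commutator X).index = 4) :
    ((∃ k : ℕ, Nonempty (X ≃* DihedralGroup (2 ^ (k + 2)))) ∨
      (∃ k : ℕ, Nat.card X = 2 ^ (k + 4) ∧ ∃ a b : X, orderOf a = 2 ^ (k + 3) ∧ orderOf b = 2 ∧ b * a * b⁻¹ = a ^ (2 ^ (k + 2) - 1)) ∨
      (∃ k : ℕ, Nonempty (X ≃* QuaternionGroup (2 ^ (k + 1))))) := by
  obtain ⟨a, t, ha, ht, hZ, hZc, -, hta, htt⟩ := four_structure hn hX h4
  obtain ⟨k, rfl⟩ : ∃ k, n = k + 3 := ⟨n - 3, by omega⟩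
  rw [show k + 3 - 1 = k + 2 by omega] at ha
  rw [show k + 3 - 2 = k + 1 by omega] at hZ
  set z := a ^ 2 ^ (k + 1) with hz
  have hzo : orderOf z = 2 := by rw [← Nat.card_zpowers, ← hZ, hZc]
  have hzz : z * z = 1 := (pow_two z).symm.trans (orderOf_dvd_iff_pow_eq_one.1 (dvd_of_eq hzo))
  have hcase : ∀ u ∈ Subgroup.center X, u = 1 ∨ u = z := by
    intro u hu
    rw [hZ] at hu
    obtain ⟨i, hi⟩ := Subgroup.mem_zpowers_iff.1 hu
    rw [← Int.emod_add_mul_ediv i 2, zpow_add, zpow_mul, zpow_ofNat z 2, pow_two, hzz, one_zpow, mul_one] at hi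
    rcases Int.emod_two_eq i with h | h <;> rw [h] at hi
    · rw [zpow_zero] at hi; exact Or.inl hi.symm
    · rw [zpow_one] at hi; exact Or.inr hi.symm
  have hidx : (Subgroup.zpowers a).index = 2 := by
    have h2 := (Subgroup.zpowers a).card_mul_index
    rw [Nat.card_zpowers, ha, hX, pow_succ 2 (k + 2)] at h2
    exact Nat.eq_of_mul_eq_mul_left (pow_pos two_pos _) h2
  haveI : NeZero (2 ^ (k + 2)) := ⟨by positivity⟩
  rcases hcase _ hta with hconj | hconj
  · have hinv : t * a * t⁻¹ = a⁻¹ := eq_inv_of_mul_eq_one_left hconj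
    rcases hcase _ htt with h2 | h2
    · exact Or.inl ⟨k, nonempty_dihedral_of_inverted ha hidx ht hinv h2⟩
    · exact Or.inr (Or.inr ⟨k, Cfsg.Lib.ZStar.nonempty_quaternion_of_inverted (by positivity)
        (by rw [ha, pow_succ']) hidx ht hinv (by rw [pow_two, h2, hz])⟩)
  · have hinv : t * a * t⁻¹ = z * a⁻¹ := by rw [← hconj]; group
    have hz' : z * a⁻¹ = a ^ (2 ^ (k + 1) - 1) := by
      rw [hz, ← pow_sub_one_mul (show 2 ^ (k + 1) ≠ 0 by positivity) a]
      group
    rcases Nat.eq_zero_or_pos k with rfl | hk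
    · exfalso
      have hcomm : IsMulCommutative X := by
        have hta' : t * a = a * t := by
          have : t * a * t⁻¹ = a := by rw [hinv, hz', show 2 ^ (0 + 1) - 1 = 1 from rfl, pow_one]
          exact mul_inv_eq_iff_eq_mul.1 this
        refine ⟨⟨fun x y => ?_⟩⟩
        have hC : ∀ w : X, w ∈ Subgroup.closure ({a, t} : Set X) := by
          intro w
          rcases mem_or_mul_mem_of_index_two hidx ht w with h | h
          · exact (Subgroup.zpowers_le.2 (Subgroup.subset_closure (Set.mem_insert _ _))) h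
          · have h1 := (Subgroup.zpowers_le.2 (Subgroup.subset_closure (Set.mem_insert a {t}))) h
            have h2 : t ∈ Subgroup.closure ({a, t} : Set X) := Subgroup.subset_closure (Set.mem_insert_of_mem _ rfl)
            have := mul_mem h1 (inv_mem h2)
            rwa [mul_inv_cancel_right] at this
        haveI : IsMulCommutative (Subgroup.closure ({a, t} : Set X)) := Subgroup.isMulCommutative_closure (by
          rintro p (rfl | rfl) q (rfl | rfl)
          · rfl
          · exact hta'.symm
          · exact hta'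
          · rfl)
        exact congrArg Subtype.val (mul_comm' (⟨x, hC x⟩ : Subgroup.closure ({a, t} : Set X)) ⟨y, hC y⟩)
      have hb : commutator X = ⊥ := by
        rw [eq_bot_iff, commutator_def, Subgroup.commutator_le]
        intro g _ h _
        rw [Subgroup.mem_bot, commutatorElement_eq_one_iff_mul_comm]
        exact mul_comm' g h
      rw [hb, Subgroup.index_bot, hX] at h4
      norm_num at h4
    obtain ⟨j, rfl⟩ : ∃ j, k = j + 1 := ⟨k - 1, by omega⟩
    refine Or.inr (Or.inl ⟨j, hX, a, ?_⟩)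
    rcases hcase _ htt with h2 | h2
    · refine ⟨t, ha, orderOf_eq_prime (by rw [pow_two, h2]) (fun e => ht (e ▸ one_mem _)), ?_⟩
      rw [hinv, hz']
    · refine ⟨t * a, ha, orderOf_eq_prime ?_ (fun e => ht ?_), ?_⟩
      · calc (t * a) ^ 2 = t * a * t⁻¹ * (t * t) * a := by rw [pow_two]; group
          _ = z * a⁻¹ * z * a := by rw [hinv, h2]
          _ = z * z := by
            have hcz : Commute a⁻¹ z := ((Commute.refl a).inv_left).pow_right _
            rw [mul_assoc z a⁻¹ z, hcz.eq]; group
          _ = 1 := hzz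
      · rw [eq_inv_of_mul_eq_one_left e]; exact inv_mem (Subgroup.mem_zpowers a)
      · rw [show t * a * a * (t * a)⁻¹ = t * a * t⁻¹ by group, hinv, hz']

end Cfsg.Lib.Transfer
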